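import Mathlib

/-!
# The projective plane over a field in coordinates, S3732, helper985
-/

set_option autoImplicit false
set_option linter.unusedSectionVars false

namespace Cfsg.Agent.H985

open Module

variable {F : Type} [Field F]

/-- the functional with coefficients `a, b, c` -/
def lin3 (a b c : F) : (Fin 3 → F) →ₗ[F] F where
  toFun v := a * v 0 + b * v 1 + c * v 2
  map_add' v w := by simp only [Pi.add_apply]; ring
  map_smul' r v := by simp only [Pi.smul_apply, smul_eq_mul, RingHom.id_apply]; ring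

theorem lin3_apply (a b c : F) (v : Fin 3 → F) : lin3 a b c v = a * v 0 + b * v 1 + c * v 2 := rfl

theorem finrank_ker3 {f : (Fin 3 → F) →ₗ[F] F} (hf : f ≠ 0) : finrank F (LinearMap.ker f) = 2 := by
  have h1 := LinearMap.finrank_range_add_finrank_ker f
  rw [LinearMap.range_eq_top.2 (LinearMap.surjective hf), finrank_top, finrank_self, finrank_fin_fun] at h1
  omega

/-- the vectors of the points -/
def vec3 : (F × F) ⊕ (F ⊕ Unit) → Fin 3 → F
  | Sum.inl t => ![1, t.1, t.2]
  | Sum.inr (Sum.inl m) => ![0, 1, m]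
  | Sum.inr (Sum.inr _) => ![0, 0, 1]

theorem vec3_ne (t : (F × F) ⊕ (F ⊕ Unit)) : vec3 t ≠ 0 := by
  rcases t with ⟨x, y⟩ | m | u
  · intro h; simpa [vec3] using congrFun h 0
  · intro h; simpa [vec3] using congrFun h 1
  · intro h; simpa [vec3] using congrFun h 2

theorem vec3_inj {s t : (F × F) ⊕ (F ⊕ Unit)} {a : F} (h : a • vec3 t = vec3 s) : s = t := by
  have h0 := congrFun h 0
  have h1 := congrFun h 1
  have h2 := congrFun h 2
  rcases s with ⟨x, y⟩ | m | u <;> rcases t with ⟨x', y'⟩ | m' | u' <;>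
    simp [vec3] at h0 h1 h2
  · subst h0; simp_all
  · subst h0; simp at h1
  · subst h1; simp_all
  · subst h0; simp at h2
  · subst h1; simp at h2
  · rfl

theorem vec3_sur (v : Fin 3 → F) (hv : v ≠ 0) : ∃ (t : (F × F) ⊕ (F ⊕ Unit)) (a : F), a • v = vec3 t := by
  by_cases h0 : v 0 = 0
  · by_cases h1 : v 1 = 0
    · have h2 : v 2 ≠ 0 := by
        intro h2
        apply hv
        ext i
        fin_cases i
        · exact h0
        · exact h1
        · exact h2
      refine ⟨Sum.inr (Sum.inr ()), (v 2)⁻¹, ?_⟩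
      ext i
      fin_cases i
      · simp [vec3, h0]
      · simp [vec3, h1]
      · simp [vec3, h2]
    · refine ⟨Sum.inr (Sum.inl ((v 1)⁻¹ * v 2)), (v 1)⁻¹, ?_⟩
      ext i
      fin_cases i
      · simp [vec3, h0]
      · simp [vec3, h1]
      · simp [vec3]
  · refine ⟨Sum.inl ((v 0)⁻¹ * v 1, (v 0)⁻¹ * v 2), (v 0)⁻¹, ?_⟩
    ext i
    fin_cases i
    · simp [vec3, h0]
    · simp [vec3]
    · simp [vec3]

/-- the point with given coordinates -/
def pt3 (t : (F × F) ⊕ (F ⊕ Unit)) : Projectivization F (Fin 3 → F) := Projectivization.mk F (vec3 t) (vec3_ne t)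

theorem pt3_bij : Function.Bijective (pt3 (F := F)) := by
  constructor
  · intro s t h
    obtain ⟨a, ha⟩ := (Projectivization.mk_eq_mk_iff' F _ _ (vec3_ne s) (vec3_ne t)).1 h
    exact vec3_inj ha
  · intro x
    induction x using Projectivization.ind with
    | h v hv =>
      obtain ⟨t, a, ha⟩ := vec3_sur v hv
      refine ⟨t, ?_⟩
      exact (Projectivization.mk_eq_mk_iff' F _ _ (vec3_ne t) hv).2 ⟨a, ha⟩

theorem mk_le_iff {v : Fin 3 → F} (hv : v ≠ 0) {W : Submodule F (Fin 3 → F)} :
    (Projectivization.mk F v hv).submodule ≤ W ↔ v ∈ W := by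
  rw [Projectivization.submodule_mk, Submodule.span_singleton_le_iff_mem]

theorem coord_final {P L : Type*} [Membership P L] [Configuration.ProjectivePlane P L]
    (e : P ≃ (F × F) ⊕ (F ⊕ Unit))
    (h : ∀ l : L, (∃ m b : F, ∀ p : P, p ∈ l ↔ ((∃ x, e p = Sum.inl (x, m * x + b)) ∨ e p = Sum.inr (Sum.inl m))) ∨
      (∃ a : F, ∀ p : P, p ∈ l ↔ ((∃ y, e p = Sum.inl (a, y)) ∨ e p = Sum.inr (Sum.inr ()))) ∨
      (∀ p : P, p ∈ l ↔ ((∃ m, e p = Sum.inr (Sum.inl m)) ∨ e p = Sum.inr (Sum.inr ())))) :
    ∃ (φ : P ≃ Projectivization F (Fin 3 → F)),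
      (∀ l : L, ∃ W : Submodule F (Fin 3 → F), Module.finrank F W = 2 ∧ ∀ p : P, p ∈ l ↔ (φ p).submodule ≤ W) ∧
      (∀ W : Submodule F (Fin 3 → F), Module.finrank F W = 2 → ∃ l : L, ∀ p : P, p ∈ l ↔ (φ p).submodule ≤ W) := by
  classical
  have key : ∀ l : L, ∃ W : Submodule F (Fin 3 → F), Module.finrank F W = 2 ∧
      ∀ p : P, p ∈ l ↔ (e.trans (Equiv.ofBijective _ pt3_bij) p).submodule ≤ W := by
    intro l
    have hle : ∀ (f : (Fin 3 → F) →ₗ[F] F) (p : P),
        (e.trans (Equiv.ofBijective _ pt3_bij) p).submodule ≤ LinearMap.ker f ↔ f (vec3 (e p)) = 0 := by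
      intro f p
      exact (mk_le_iff (vec3_ne _)).trans LinearMap.mem_ker
    rcases h l with ⟨m, b, h⟩ | ⟨a, h⟩ | h
    · refine ⟨LinearMap.ker (lin3 (-b) (-m) 1), finrank_ker3 ?_, ?_⟩
      · intro h0
        have := LinearMap.congr_fun h0 ![0, 0, 1]
        simp [lin3_apply] at this
      · intro p
        rw [h, hle]
        rcases e p with ⟨x, y⟩ | m' | u
        · simp only [Sum.inl.injEq, Prod.mk.injEq, lin3_apply, vec3, Matrix.cons_val_zero, Matrix.cons_val_one,
            Matrix.cons_val, reduceCtorEq, or_false]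
          constructor
          · rintro ⟨x', rfl, rfl⟩; ring
          · intro h1; exact ⟨x, rfl, by linear_combination h1⟩
        · simp only [reduceCtorEq, exists_false, Sum.inr.injEq, Sum.inl.injEq, false_or, lin3_apply, vec3,
            Matrix.cons_val_zero, Matrix.cons_val_one, Matrix.cons_val]
          constructor
          · rintro rfl; ring
          · intro h1; linear_combination h1
        · simp [lin3_apply, vec3]
    · refine ⟨LinearMap.ker (lin3 (-a) 1 0), finrank_ker3 ?_, ?_⟩
      · intro h0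
        have := LinearMap.congr_fun h0 ![0, 1, 0]
        simp [lin3_apply] at this
      · intro p
        rw [h, hle]
        rcases e p with ⟨x, y⟩ | m' | u
        · simp only [Sum.inl.injEq, Prod.mk.injEq, lin3_apply, vec3, Matrix.cons_val_zero, Matrix.cons_val_one,
            Matrix.cons_val, reduceCtorEq, or_false]
          constructor
          · rintro ⟨y', rfl, rfl⟩; ring
          · intro h1; exact ⟨y, by linear_combination h1, rfl⟩
        · simp [lin3_apply, vec3]
        · simp [lin3_apply, vec3]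
    · refine ⟨LinearMap.ker (lin3 1 0 0), finrank_ker3 ?_, ?_⟩
      · intro h0
        have := LinearMap.congr_fun h0 ![1, 0, 0]
        simp [lin3_apply] at this
      · intro p
        rw [h, hle]
        rcases e p with ⟨x, y⟩ | m' | u
        · simp [lin3_apply, vec3]
        · simp [lin3_apply, vec3]
        · simp [lin3_apply, vec3]
  refine ⟨e.trans (Equiv.ofBijective _ pt3_bij), key, ?_⟩
  intro W hW
  -- two vectors of `W`
  have : FiniteDimensional F W := Module.finite_of_finrank_pos (by rw [hW]; norm_num)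
  let bs := Module.finBasisOfFinrankEq F W hW
  have hli : LinearIndependent F (fun i => ((bs i : W) : Fin 3 → F)) :=
    bs.linearIndependent.map' W.subtype (Submodule.ker_subtype W)
  have hne : ∀ i, ((bs i : W) : Fin 3 → F) ≠ 0 := fun i => hli.ne_zero i
  set φ := e.trans (Equiv.ofBijective _ pt3_bij) with hφ
  let p := φ.symm (Projectivization.mk F _ (hne 0))
  let q := φ.symm (Projectivization.mk F _ (hne 1))
  have hpq : p ≠ q := by
    intro hpq
    have h1 := φ.symm.injective hpq
    obtain ⟨a, ha⟩ := (Projectivization.mk_eq_mk_iff' F _ _ (hne 0) (hne 1)).1 h1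
    have h2 := linearIndependent_iff'.1 hli Finset.univ ![1, -a] (by
      rw [Fin.sum_univ_two]
      simp [← ha]) 0 (Finset.mem_univ _)
    simp at h2
  have hl := Configuration.HasLines.mkLine_ax (P := P) (L := L) hpq
  set l : L := Configuration.HasLines.mkLine hpq with hldef
  obtain ⟨W', hW', hl'⟩ := key l
  have hp' := (hl' p).1 hl.1
  have hq' := (hl' q).1 hl.2
  rw [Equiv.apply_symm_apply, mk_le_iff] at hp' hq'
  have hWW : W = W' := by
    have h1 : Submodule.span F (Set.range (fun i => ((bs i : W) : Fin 3 → F))) ≤ W' := by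
      rw [Submodule.span_le]
      rintro _ ⟨i, rfl⟩
      fin_cases i
      · exact hp'
      · exact hq'
    have h2 : Submodule.span F (Set.range (fun i => ((bs i : W) : Fin 3 → F))) ≤ W := by
      rw [Submodule.span_le]
      rintro _ ⟨i, rfl⟩
      exact (bs i).2
    have h3 : finrank F (Submodule.span F (Set.range (fun i => ((bs i : W) : Fin 3 → F)))) = 2 := by
      rw [finrank_span_eq_card hli, Fintype.card_fin]
    have h4 := Submodule.eq_of_le_of_finrank_eq h1 (h3.trans hW'.symm)
    have h5 := Submodule.eq_of_le_of_finrank_eq h2 (h3.trans hW.symm)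
    exact h5.symm.trans h4
  exact ⟨l, fun r => by rw [hWW]; exact hl' r⟩

end Cfsg.Agent.H985
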