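import Cfsg.Agent.H985.Persp

/-!
# Involutory homologies and elation groups (S3732, helper985)
-/

set_option autoImplicit false
set_option linter.unusedSectionVars false

namespace Cfsg.Agent.H985

/-- Gleason's lemma for the prime two -/
theorem gleason {S Ω : Type*} [Group S] [MulAction S Ω] [Finite Ω]
    (h : ∀ ω : Ω, ∃ g : S, g ^ 2 = 1 ∧ ∀ ω' : Ω, g • ω' = ω' ↔ ω' = ω) (x y : Ω) : ∃ g : S, g • x = y := by
  classical
  by_contra hn
  push Not at hn
  have := Fintype.ofFinite Ω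
  have := Fintype.ofFinite (MulAction.orbit S x)
  -- parity of the orbit of `x`
  have key : ∀ g : S, g ^ 2 = 1 →
      Even (Fintype.card (MulAction.orbit S x) + Fintype.card {z : MulAction.orbit S x // g • z = z}) := by
    intro g hg
    have h1 : (MulAction.toPerm g : Equiv.Perm (MulAction.orbit S x)) ^ 2 = 1 := by
      ext z
      rw [pow_two, Equiv.Perm.mul_apply, MulAction.toPerm_apply, MulAction.toPerm_apply, ← mul_smul, ← pow_two, hg,
        one_smul, Equiv.Perm.one_apply]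
    have h2 := Equiv.Perm.two_dvd_card_support h1
    have h3 : Fintype.card {z : MulAction.orbit S x // g • z = z} +
        (MulAction.toPerm g : Equiv.Perm (MulAction.orbit S x)).support.card =
          Fintype.card (MulAction.orbit S x) := by
      have h4 := Finset.card_filter_add_card_filter_not (s := (Finset.univ : Finset (MulAction.orbit S x)))
        (fun z : MulAction.orbit S x => g • z = z)
      rw [Finset.card_univ] at h4
      rw [← h4, Fintype.card_subtype]
      congr 1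
    rw [← h3]
    obtain ⟨k, hk⟩ := h2
    rw [hk]
    exact ⟨Fintype.card {z : MulAction.orbit S x // g • z = z} + k, by ring⟩
  obtain ⟨g, hg, hgx⟩ := h x
  obtain ⟨g', hg', hgy⟩ := h y
  have h1 := key g hg
  have h2 := key g' hg'
  have h3 : Fintype.card {z : MulAction.orbit S x // g • z = z} = 1 := by
    rw [Fintype.card_eq_one_iff]
    refine ⟨⟨⟨x, MulAction.mem_orbit_self x⟩, Subtype.ext ((hgx x).2 rfl)⟩, ?_⟩
    rintro ⟨⟨z, hz⟩, hz2⟩
    exact Subtype.ext (Subtype.ext ((hgx z).1 (congrArg Subtype.val hz2)))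
  have h4 : Fintype.card {z : MulAction.orbit S x // g' • z = z} = 0 := by
    rw [Fintype.card_eq_zero_iff]
    refine ⟨?_⟩
    rintro ⟨⟨z, hz⟩, hz2⟩
    have h5 := (hgy z).1 (congrArg Subtype.val hz2)
    obtain ⟨s, hs⟩ := hz
    exact hn s (hs.trans h5)
  rw [h3] at h1
  rw [h4] at h2
  rcases Nat.even_or_odd (Fintype.card (MulAction.orbit S x)) with h5 | h5
  · exact Nat.not_even_iff_odd.2 (h5.add_one) h1
  · exact Nat.not_even_iff_odd.2 h5 (by simpa using h2)

namespace Pl

open Configuration Configuration.ProjectivePlane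

variable {G P L : Type*} [Group G] [Membership P L] [MulAction G P] [MulAction G L]

variable (G) in
/-- there is an involutory homology with centre `c` and axis `a` in `G` -/
def Hom (c : P) (a : L) : Prop := ∃ g : G, g ≠ 1 ∧ g ^ 2 = 1 ∧ Ax g a P ∧ Ce g c L ∧ c ∉ a

theorem Hom.dual {c : P} {a : L} (h : Hom G c a) : Hom G (P := Dual L) (L := Dual P) a c := by
  obtain ⟨g, h1, h2, h3, h4, h5⟩ := h
  exact ⟨g, h1, h2, h4, h3, h5⟩

theorem Hom.of_dual {c : P} {a : L} (h : Hom G (P := Dual L) (L := Dual P) a c) : Hom G c a := by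
  obtain ⟨g, h1, h2, h3, h4, h5⟩ := h
  exact ⟨g, h1, h2, h4, h3, h5⟩

variable [Act G P L] [ProjectivePlane P L] [Finite P] [Finite L] [FaithfulSMul G P]

theorem one_of {g : G} (h : ∀ p : P, g • p = p) : g = 1 :=
  FaithfulSMul.eq_of_smul_eq_smul (α := P) (fun p => by rw [h p, one_smul])

theorem not_triv {g : G} (h : g ≠ 1) : ¬ ∀ p : P, g • p = p := fun h1 => h (one_of h1)

theorem faithfulL (G P L : Type*) [Group G] [Membership P L] [MulAction G P] [MulAction G L] [Act G P L]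
    [ProjectivePlane P L] [Finite P] [Finite L] [FaithfulSMul G P] : FaithfulSMul G L where
  eq_of_smul_eq_smul := by
    intro g h hgh
    have h1 : ∀ p : P, (h⁻¹ * g) • p = p := triv_points (L := L) (fun l => by rw [mul_smul, hgh, inv_smul_smul])
    exact (inv_mul_eq_one.1 (one_of h1)).symm

variable (G P L) in
/-- all involutions are homologies -/
def AllHom : Prop := ∀ g : G, g ≠ 1 → g ^ 2 = 1 → ∃ (c : P) (a : L), c ∉ a ∧ Ax g a P ∧ Ce g c L

theorem AllHom.dual (h : AllHom G P L) : AllHom G (Dual L) (Dual P) := by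
  intro g h1 h2
  obtain ⟨c, a, h3, h4, h5⟩ := h g h1 h2
  exact ⟨a, c, h3, h5, h4⟩

theorem Hom.conj {c : P} {a : L} (h : Hom G c a) (g : G) : Hom G (g • c) (g • a) := by
  obtain ⟨s, h1, h2, h3, h4, h5⟩ := h
  refine ⟨g * s * g⁻¹, ?_, ?_, h3.conj g, h4.conj g, ?_⟩
  · intro h6
    apply h1
    have : s = g⁻¹ * (g * s * g⁻¹) * g := by group
    rw [this, h6]; group
  · rw [conj_pow, h2]; group
  · rwa [mem_smul_iff]

/-- two commuting homologies -/
theorem hom_mul (hA : AllHom G P L) {c d : P} {u w : L} (h1 : Hom G c w) (h2 : Hom G d u) (hc : c ∈ u)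
    (hd : d ∈ w) : ∃ (y : P) (v : L), y ∈ u ∧ y ∈ w ∧ c ∈ v ∧ d ∈ v ∧ Hom G y v := by
  obtain ⟨s, s1, s2, s3, s4, s5⟩ := h1
  obtain ⟨t, t1, t2, t3, t4, t5⟩ := h2
  have huw : u ≠ w := fun h => s5 (h ▸ hc)
  obtain ⟨y, hy1, hy2⟩ := exP0 (P := P) huw
  have hyc : y ≠ c := fun h => s5 (h ▸ hy2)
  have hyd : y ≠ d := fun h => t5 (h ▸ hy1)
  have hcd : c ≠ d := fun h => s5 (h ▸ hd)
  have hsu : s • u = u := s4 u hc
  have htw : t • w = w := t4 w hd
  have hsu' : s⁻¹ • u = u := by rw [inv_smul_eq_iff, hsu]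
  have htw' : t⁻¹ • w = w := by rw [inv_smul_eq_iff, htw]
  -- they commute
  have hcomm : s * t = t * s := by
    have hk1 : Ax (s * t * s⁻¹ * t⁻¹) w P := by
      intro p hp
      have h5 : t⁻¹ • p ∈ w := by have := mem_smul t⁻¹ hp; rwa [htw'] at this
      rw [mul_smul, mul_smul, mul_smul, s3.inv _ h5, smul_inv_smul, s3 p hp]
    have hk2 : Ax (s * t * s⁻¹ * t⁻¹) u P := by
      intro p hp
      have h5 : s⁻¹ • p ∈ u := by have := mem_smul s⁻¹ hp; rwa [hsu'] at this
      rw [mul_smul, mul_smul, mul_smul, t3.inv p hp, t3 _ h5, smul_inv_smul]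
    have hk : s * t * s⁻¹ * t⁻¹ = 1 := by
      by_contra hne
      exact huw (ax_unique hk2 hk1 (not_triv hne))
    have : s * t = (s * t * s⁻¹ * t⁻¹) * (t * s) := by group
    rw [this, hk, one_mul]
  have ht1 : s * t ≠ 1 := by
    intro h
    have h3 : s = t⁻¹ := eq_inv_of_mul_eq_one_left h
    exact huw (ax_unique (h3 ▸ t3.inv : Ax s u P) s3 (not_triv s1))
  have ht2 : (s * t) ^ 2 = 1 := by
    rw [pow_two]
    calc s * t * (s * t) = s * t * (t * s) := by rw [hcomm]
      _ = s * (t ^ 2) * s := by rw [pow_two]; group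
      _ = s ^ 2 := by rw [t2, mul_one, pow_two]
      _ = 1 := s2
  obtain ⟨c3, a3, e1, e2, e3⟩ := hA (s * t) ht1 ht2
  have hnt := not_triv (P := P) ht1
  -- fixed points on `u` and `w`
  have fu : ∀ p, p ∈ u → (s * t) • p = p → p = y ∨ p = c := by
    intro p hp hfix
    rw [mul_smul, t3 p hp] at hfix
    rcases fixpt s3 s4 (not_triv s1) hfix with h | h
    · exact Or.inl (uP huw hp h hy1 hy2)
    · exact Or.inr h
  have fw : ∀ p, p ∈ w → (s * t) • p = p → p = y ∨ p = d := by
    intro p hp hfix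
    have hfix' : t • p = p := by
      have h5 : t • p ∈ w := by have := mem_smul t hp; rwa [htw] at this
      rw [mul_smul, s3 _ h5] at hfix
      exact hfix
    rcases fixpt t3 t4 (not_triv t1) hfix' with h | h
    · exact Or.inl (uP huw h hp hy1 hy2)
    · exact Or.inr h
  have fy : (s * t) • y = y := by rw [mul_smul, t3 y hy1, s3 y hy2]
  have fc : (s * t) • c = c := by rw [mul_smul, t3 c hc, s4.fix]
  have fd : (s * t) • d = d := by rw [mul_smul, t4.fix, s3 d hd]
  have hau : a3 ≠ u := by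
    rintro rfl
    obtain ⟨p, hp, hp1, hp2⟩ := ex_third a3 y c
    rcases fu p hp (e2 p hp) with h | h
    · exact hp1 h
    · exact hp2 h
  have haw : a3 ≠ w := by
    rintro rfl
    obtain ⟨p, hp, hp1, hp2⟩ := ex_third a3 y d
    rcases fw p hp (e2 p hp) with h | h
    · exact hp1 h
    · exact hp2 h
  have hya : y ∉ a3 := by
    intro hya
    have hca : c ∉ a3 := fun h => hau (uL hyc hya h hy1 hc)
    have hda : d ∉ a3 := fun h => haw (uL hyd hya h hy2 hd)
    have h5 := (fixpt e2 e3 hnt fc).resolve_left hca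
    have h6 := (fixpt e2 e3 hnt fd).resolve_left hda
    exact hcd (h5.trans h6.symm)
  have hyc3 := (fixpt e2 e3 hnt fy).resolve_left hya
  refine ⟨y, a3, hy1, hy2, ?_, ?_, s * t, ht1, ht2, e2, hyc3 ▸ e3, hya⟩
  · rcases fixpt e2 e3 hnt fc with h | h
    · exact h
    · exact absurd (hyc3.trans h.symm) hyc
  · rcases fixpt e2 e3 hnt fd with h | h
    · exact h
    · exact absurd (hyc3.trans h.symm) hyd

/-- every point is the centre of an involutory homology -/
theorem all_centres (hA : AllHom G P L)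
    (h3 : ∀ l m : L, l ≠ m → ∃ g : G, g ≠ 1 ∧ g ^ 2 = 1 ∧ g • l = l ∧ g • m = m) (y : P) :
    ∃ a : L, Hom G y a := by
  by_contra hn
  push Not at hn
  -- two lines through `y`
  have key : ∀ u w : L, y ∈ u → y ∈ w → u ≠ w → ∃ g : G, g ^ 2 = 1 ∧ g • u = u ∧ g • w = w ∧ g • y = y ∧
      (∀ l : L, y ∈ l → g • l = l → l = u ∨ l = w) ∧
      ((∃ c, c ∈ u ∧ Hom G c w) ∨ (∃ c, c ∈ w ∧ Hom G c u)) := by
    intro u w hu hw huw
    obtain ⟨g, g1, g2, gu, gw⟩ := h3 u w huw
    obtain ⟨c, a, e1, e2, e3⟩ := hA g g1 g2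
    have gy := fixP huw gu gw hu hw
    have hnt := not_triv (P := P) g1
    have hyc : y ≠ c := by
      rintro rfl
      exact hn a ⟨g, g1, g2, e2, e3, e1⟩
    have hya : y ∈ a := (fixpt e2 e3 hnt gy).resolve_right hyc
    have hall : ∀ l : L, y ∈ l → g • l = l → c ∈ l ∨ l = a := fun l _ h => fixln e2 e3 hnt h
    have hcuw : ¬ (c ∈ u ∧ c ∈ w) := fun h => hyc (uP huw hu hw h.1 h.2)
    rcases hall u hu gu with h4 | h4
    · rcases hall w hw gw with h5 | h5
      · exact absurd ⟨h4, h5⟩ hcuw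
      · refine ⟨g, g2, gu, gw, gy, fun l hl hgl => ?_, Or.inl ⟨c, h4, g, g1, g2, h5 ▸ e2, e3, h5 ▸ e1⟩⟩
        rcases hall l hl hgl with h6 | h6
        · exact Or.inl (uL hyc hl h6 hu h4)
        · exact Or.inr (h6.trans h5.symm)
    · rcases hall w hw gw with h5 | h5
      · refine ⟨g, g2, gu, gw, gy, fun l hl hgl => ?_, Or.inr ⟨c, h5, g, g1, g2, h4 ▸ e2, e3, h4 ▸ e1⟩⟩
        rcases hall l hl hgl with h6 | h6
        · exact Or.inr (uL hyc hl h6 hw h5)
        · exact Or.inl (h6.trans h4.symm)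
      · exact absurd (h4.trans h5.symm) huw
  -- the stabiliser of `y` and `w` is transitive on the other lines through `y`
  have tr : ∀ w : L, y ∈ w → ∀ u v : L, y ∈ u → u ≠ w → y ∈ v → v ≠ w →
      ∃ g : G, g • y = y ∧ g • w = w ∧ g • u = v := by
    intro w hw u v hu huw hv hvw
    let S : Subgroup G := MulAction.stabilizer G y ⊓ MulAction.stabilizer G w
    let X : SubMulAction S L :=
      { carrier := {l | y ∈ l ∧ l ≠ w}
        smul_mem' := by
          rintro ⟨g, hg1, hg2⟩ l ⟨hl1, hl2⟩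
          have hg1 : g • y = y := hg1
          have hg2 : g • w = w := hg2
          refine ⟨?_, ?_⟩
          · have := mem_smul g hl1
            rwa [hg1] at this
          · intro h
            apply hl2
            have h' : g • l = w := h
            exact MulAction.injective g (h'.trans hg2.symm) }
    obtain ⟨g, hg⟩ := gleason (S := S) (Ω := X) (by
      rintro ⟨l, hl1, hl2⟩
      obtain ⟨g, g2, gl, gw, gy, hfix, -⟩ := key l w hl1 hw hl2
      refine ⟨⟨g, gy, gw⟩, Subtype.ext g2, ?_⟩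
      rintro ⟨m, hm1, hm2⟩
      constructor
      · intro h
        have h' : g • m = m := congrArg Subtype.val h
        rcases hfix m hm1 h' with h5 | h5
        · exact Subtype.ext h5
        · exact absurd h5 hm2
      · intro h
        have h' : m = l := congrArg Subtype.val h
        subst h'
        exact Subtype.ext gl) ⟨u, hu, huw⟩ ⟨v, hv, hvw⟩
    exact ⟨g.1, g.2.1, g.2.2, congrArg Subtype.val hg⟩
  -- two lines through `y`
  obtain ⟨u, hu, -, -⟩ := ex_thirdL y (exOffL (L := L) y).choose (exOffL (L := L) y).choose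
  obtain ⟨w, hw, hwu, -⟩ := ex_thirdL y u u
  obtain ⟨f, hf, hfu, hfw⟩ := ex_thirdL y u w
  -- swapping `u` and `w`
  have sw : ∃ g : G, g • y = y ∧ g • u = w ∧ g • w = u := by
    obtain ⟨g1, a1, a2, a3⟩ := tr w hw u f hu (Ne.symm hwu) hf hfw
    obtain ⟨g2, b1, b2, b3⟩ := tr f hf w u hw (Ne.symm hfw) hu (Ne.symm hfu)
    obtain ⟨g3, c1, c2, c3⟩ := tr u hu f w hf hfu hw hwu
    refine ⟨g3 * g2 * g1, ?_, ?_, ?_⟩
    · rw [mul_smul, mul_smul, a1, b1, c1]
    · rw [mul_smul, mul_smul, a3, b2, c3]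
    · rw [mul_smul, mul_smul, a2, b3, c2]
  obtain ⟨s, sy, su, sw⟩ := sw
  have both : (∃ c, c ∈ u ∧ Hom G c w) ∧ (∃ c, c ∈ w ∧ Hom G c u) := by
    obtain ⟨-, -, -, -, -, -, h | h⟩ := key u w hu hw (Ne.symm hwu)
    · refine ⟨h, ?_⟩
      obtain ⟨c, h1, h2⟩ := h
      refine ⟨s • c, ?_, ?_⟩
      · rw [← su]; exact mem_smul s h1
      · rw [← sw]; exact h2.conj s
    · refine ⟨?_, h⟩
      obtain ⟨c, h1, h2⟩ := h
      refine ⟨s • c, ?_, ?_⟩
      · rw [← sw]; exact mem_smul s h1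
      · rw [← su]; exact h2.conj s
  obtain ⟨⟨c, hc, hcw⟩, ⟨d, hd, hdu⟩⟩ := both
  obtain ⟨z, v, h4, h5, -, -, h6⟩ := hom_mul hA hcw hdu hc hd
  have : z = y := uP (Ne.symm hwu) h4 h5 hu hw
  exact hn v (this ▸ h6)

end Pl

end Cfsg.Agent.H985
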