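import Cfsg.Agent.H985.Invol
import Cfsg.Agent.H985.Homol

/-!
# Fixed subplanes and the full collineation group (S3732, helper985)
-/

set_option autoImplicit false
set_option linter.unusedSectionVars false

namespace Cfsg.Agent.H985.Pl

open Configuration Configuration.ProjectivePlane

/-! ### the full collineation group -/

/-- the group of all collineations -/
def Coll (P L : Type*) [Membership P L] : Subgroup (Equiv.Perm P × Equiv.Perm L) where
  carrier := {σ | ∀ (p : P) (l : L), σ.1 p ∈ σ.2 l ↔ p ∈ l}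
  mul_mem' := fun {a b} ha hb p l => (ha (b.1 p) (b.2 l)).trans (hb p l)
  one_mem' := fun _ _ => Iff.rfl
  inv_mem' := fun {a} ha p l => by
    have := ha (a⁻¹.1 p) (a⁻¹.2 l)
    have e1 : a.1 (a⁻¹.1 p) = p := Equiv.apply_symm_apply a.1 p
    have e2 : a.2 (a⁻¹.2 l) = l := Equiv.apply_symm_apply a.2 l
    rw [e1, e2] at this
    exact this.symm

section Coll

variable {P L : Type*} [Membership P L]

instance : MulAction (Coll P L) P where
  smul g p := g.1.1 p
  one_smul _ := rfl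
  mul_smul _ _ _ := rfl

instance : MulAction (Coll P L) L where
  smul g l := g.1.2 l
  one_smul _ := rfl
  mul_smul _ _ _ := rfl

instance : Act (Coll P L) P L := ⟨fun g {p l} h => (g.2 p l).2 h⟩

instance [Finite P] [Finite L] : Finite (Coll P L) := inferInstance

instance [ProjectivePlane P L] [Finite P] [Finite L] : FaithfulSMul (Coll P L) P where
  eq_of_smul_eq_smul := by
    intro g h hgh
    have h1 : ∀ p : P, (h⁻¹ * g) • p = p := fun p => by rw [mul_smul, hgh, inv_smul_smul]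
    have h2 : ∀ l : L, (h⁻¹ * g) • l = l := triv_lines (P := P) h1
    apply Subtype.ext
    apply Prod.ext
    · ext p
      exact hgh p
    · ext l
      have h3 := h2 l
      rw [mul_smul, inv_smul_eq_iff] at h3
      exact h3

end Coll

section Sub

variable {G P L : Type*} [Group G] [Membership P L] [MulAction G P] [MulAction G L] [Act G P L]

instance (H : Subgroup G) : Act H P L := ⟨fun g {_ _} h => mem_smul g.1 h⟩

variable (G P L) in
/-- the collineations induced by `G` -/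
def toColl : G →* Coll P L where
  toFun g := ⟨(MulAction.toPerm g, MulAction.toPerm g), fun _ _ => mem_smul_iff g⟩
  map_one' := Subtype.ext (Prod.ext (Equiv.ext fun p => one_smul G p) (Equiv.ext fun l => one_smul G l))
  map_mul' a b := Subtype.ext (Prod.ext (Equiv.ext fun p => mul_smul a b p) (Equiv.ext fun l => mul_smul a b l))

theorem toColl_smul (g : G) (p : P) : toColl G P L g • p = g • p := rfl

theorem toColl_smul' (g : G) (l : L) : toColl G P L g • l = g • l := rfl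

/-- the group of the collineations induced by `G` -/
abbrev Im (G P L : Type*) [Group G] [Membership P L] [MulAction G P] [MulAction G L] [Act G P L] :
    Subgroup (Coll P L) := (toColl G P L).range

end Sub

/-! ### fixed points and lines of a subgroup -/

section Fix

variable {G : Type*} [Group G]

/-- fixed points -/
def FP (P : Type*) [MulAction G P] (D : Subgroup G) : Type _ := {p : P // ∀ d ∈ D, d • p = p}

instance {P : Type*} [MulAction G P] (D : Subgroup G) [Finite P] : Finite (FP P D) :=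
  inferInstanceAs (Finite {p : P // ∀ d ∈ D, d • p = p})

instance {P L : Type*} [Membership P L] [MulAction G P] [MulAction G L] (D : Subgroup G) :
    Membership (FP P D) (FP L D) := ⟨fun l p => p.1 ∈ l.1⟩

theorem FP.mem_iff {P L : Type*} [Membership P L] [MulAction G P] [MulAction G L] {D : Subgroup G}
    {p : FP P D} {l : FP L D} : p ∈ l ↔ p.1 ∈ l.1 := Iff.rfl

theorem FP.ext {P : Type*} [MulAction G P] {D : Subgroup G} {p q : FP P D} (h : p.1 = q.1) : p = q := Subtype.ext h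

/-- the normaliser acts on the fixed points -/
instance {P : Type*} [MulAction G P] (D : Subgroup G) : MulAction (Subgroup.normalizer (D : Set G)) (FP P D) where
  smul g p := ⟨g.1 • p.1, fun d hd => by
    have h1 : g.1⁻¹ * d * g.1 ∈ D := (Subgroup.mem_normalizer_iff''.1 g.2 d).1 hd
    have h2 := p.2 _ h1
    rw [mul_smul, mul_smul, inv_smul_eq_iff] at h2
    exact h2⟩
  one_smul p := Subtype.ext (one_smul G p.1)
  mul_smul a b p := Subtype.ext (mul_smul a.1 b.1 p.1)

theorem FP.smul_val {P : Type*} [MulAction G P] {D : Subgroup G} (g : Subgroup.normalizer (D : Set G)) (p : FP P D) :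
    (g • p).1 = g.1 • p.1 := rfl

variable {P L : Type*} [Membership P L] [MulAction G P] [MulAction G L] [Act G P L]

instance (D : Subgroup G) : Act (Subgroup.normalizer (D : Set G)) (FP P D) (FP L D) :=
  ⟨fun g {_ _} h => mem_smul g.1 h⟩

variable (P L) in
/-- the subgroup fixes a quadrangle -/
def Planar (D : Subgroup G) : Prop := ∃ a b c d : FP P D, Quad L a.1 b.1 c.1 d.1

theorem Planar.mono {D E : Subgroup G} (h : Planar P L E) (hDE : D ≤ E) : Planar P L D := by
  obtain ⟨a, b, c, d, hq⟩ := h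
  exact ⟨⟨a.1, fun g hg => a.2 g (hDE hg)⟩, ⟨b.1, fun g hg => b.2 g (hDE hg)⟩,
    ⟨c.1, fun g hg => c.2 g (hDE hg)⟩, ⟨d.1, fun g hg => d.2 g (hDE hg)⟩, hq⟩

variable [ProjectivePlane P L]

/-- the dual of a quadrangle -/
theorem Quad.dual {a b c d : P} (h : Quad L a b c d) : ∃ k l m n : L, Quad (Dual P) (k : Dual L) l m n ∧
    (a ∈ k ∧ b ∈ k) ∧ (b ∈ l ∧ c ∈ l) ∧ (c ∈ m ∧ d ∈ m) ∧ (d ∈ n ∧ a ∈ n) := by
  obtain ⟨n1, n2, n3, n4, n5, n6⟩ := h.ne
  obtain ⟨h1, h2, h3, h4⟩ := h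
  obtain ⟨k, k1, k2⟩ := exL0 (L := L) n1
  obtain ⟨l, l1, l2⟩ := exL0 (L := L) n4
  obtain ⟨m, m1, m2⟩ := exL0 (L := L) n6
  obtain ⟨n, p1, p2⟩ := exL0 (L := L) (Ne.symm n3)
  have kl : k ≠ l := fun h => h1 k k1 k2 (h ▸ l2)
  have km : k ≠ m := fun h => h1 k k1 k2 (h ▸ m1)
  have kn : k ≠ n := fun h => h2 k k1 k2 (h ▸ p1)
  have lm : l ≠ m := fun h => h4 l l1 l2 (h ▸ m2)
  have ln : l ≠ n := fun h => h4 l l1 l2 (h ▸ p1)
  have mn : m ≠ n := fun h => h3 m (h ▸ p2) m1 m2
  refine ⟨k, l, m, n, ⟨?_, ?_, ?_, ?_⟩, ⟨k1, k2⟩, ⟨l1, l2⟩, ⟨m1, m2⟩, ⟨p1, p2⟩⟩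
  · intro (x : P) (hx1 : x ∈ k) (hx2 : x ∈ l) (hx3 : x ∈ m)
    have : x = b := uP kl hx1 hx2 k2 l1
    subst this
    exact h4 m hx3 m1 m2
  · intro (x : P) (hx1 : x ∈ k) (hx2 : x ∈ l) (hx3 : x ∈ n)
    have : x = b := uP kl hx1 hx2 k2 l1
    subst this
    exact h2 n p2 hx3 p1
  · intro (x : P) (hx1 : x ∈ k) (hx2 : x ∈ m) (hx3 : x ∈ n)
    have : x = a := uP kn hx1 hx3 k1 p2
    subst this
    exact h3 m hx2 m1 m2
  · intro (x : P) (hx1 : x ∈ l) (hx2 : x ∈ m) (hx3 : x ∈ n)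
    have : x = c := uP lm hx1 hx2 l2 m1
    subst this
    exact h3 n p2 hx3 p1

theorem Planar.dual {D : Subgroup G} (h : Planar P L D) : Planar (Dual L) (Dual P) D := by
  obtain ⟨a, b, c, d, hq⟩ := h
  obtain ⟨n1, n2, n3, n4, n5, n6⟩ := hq.ne
  obtain ⟨k, l, m, n, hq', ⟨k1, k2⟩, ⟨l1, l2⟩, ⟨m1, m2⟩, ⟨p1, p2⟩⟩ := hq.dual
  have e1 : ∀ g ∈ D, g • k = k := fun g hg => fixL n1 (a.2 g hg) (b.2 g hg) k1 k2
  have e2 : ∀ g ∈ D, g • l = l := fun g hg => fixL n4 (b.2 g hg) (c.2 g hg) l1 l2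
  have e3 : ∀ g ∈ D, g • m = m := fun g hg => fixL n6 (c.2 g hg) (d.2 g hg) m1 m2
  have e4 : ∀ g ∈ D, g • n = n := fun g hg => fixL (Ne.symm n3) (d.2 g hg) (a.2 g hg) p1 p2
  exact ⟨⟨k, e1⟩, ⟨l, e2⟩, ⟨m, e3⟩, ⟨n, e4⟩, hq'⟩

theorem Planar.of_dual {D : Subgroup G} (h : Planar (Dual L) (Dual P) D) : Planar P L D :=
  Planar.dual (P := Dual L) (L := Dual P) h

/-- the fixed elements of a planar subgroup form a projective plane -/
@[reducible] noncomputable def fixPlane {D : Subgroup G} (h : Planar P L D) : ProjectivePlane (FP P D) (FP L D) where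
  exists_point := by
    intro l
    obtain ⟨a, b, c, d, hq⟩ := h
    by_contra hn
    push Not at hn
    exact hq.1 l.1 (hn a) (hn b) (hn c)
  exists_line := by
    intro p
    obtain ⟨k, l, m, n, hq⟩ := h.dual
    by_contra hn
    push Not at hn
    exact hq.1 p.1 (hn k) (hn l) (hn m)
  eq_or_eq := by
    intro p q l m h1 h2 h3 h4
    rcases Nondegenerate.eq_or_eq (P := P) (L := L) h1 h2 h3 h4 with h5 | h5
    · exact Or.inl (Subtype.ext h5)
    · exact Or.inr (Subtype.ext h5)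
  mkPoint := fun {l m} hlm =>
    have hlm' : l.1 ≠ m.1 := fun h => hlm (Subtype.ext h)
    ⟨(exP0 (P := P) hlm').choose, fun g hg => fixP hlm' (l.2 g hg) (m.2 g hg) (exP0 (P := P) hlm').choose_spec.1
      (exP0 (P := P) hlm').choose_spec.2⟩
  mkPoint_ax := fun {l m} hlm =>
    have hlm' : l.1 ≠ m.1 := fun h => hlm (Subtype.ext h)
    (exP0 (P := P) hlm').choose_spec
  mkLine := fun {p q} hpq =>
    have hpq' : p.1 ≠ q.1 := fun h => hpq (Subtype.ext h)
    ⟨(exL0 (L := L) hpq').choose, fun g hg => fixL hpq' (p.2 g hg) (q.2 g hg) (exL0 (L := L) hpq').choose_spec.1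
      (exL0 (L := L) hpq').choose_spec.2⟩
  mkLine_ax := fun {p q} hpq =>
    have hpq' : p.1 ≠ q.1 := fun h => hpq (Subtype.ext h)
    (exL0 (L := L) hpq').choose_spec
  exists_config := by
    obtain ⟨a, b, c, d, hq⟩ := h
    obtain ⟨n1, n2, n3, n4, n5, n6⟩ := hq.ne
    obtain ⟨h1, h2, h3, h4⟩ := hq
    obtain ⟨l1, e1, e2⟩ := exL0 (L := L) n3
    obtain ⟨l2, e3, e4⟩ := exL0 (L := L) n4
    obtain ⟨l3, e5, e6⟩ := exL0 (L := L) n5
    refine ⟨a, b, c, ⟨l1, fun g hg => fixL n3 (a.2 g hg) (d.2 g hg) e1 e2⟩,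
      ⟨l2, fun g hg => fixL n4 (b.2 g hg) (c.2 g hg) e3 e4⟩,
      ⟨l3, fun g hg => fixL n5 (b.2 g hg) (d.2 g hg) e5 e6⟩, ?_, ?_, ?_, e3, e5, ?_, e4, ?_⟩
    · exact fun h => h1 l2 h e3 e4
    · exact fun h => h2 l3 h e5 e6
    · exact fun h => h2 l1 e1 h e2
    · exact fun h => h3 l1 e1 h e2
    · exact fun h => h4 l3 e5 h e6

end Fix

end Cfsg.Agent.H985.Pl
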