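import Cfsg.Agent.H975.ArtinZorn

/-!
# A field from the commutator algebra, S3732, helper985
-/

set_option autoImplicit false
set_option linter.unusedSectionVars false

namespace Cfsg.Agent.H985

theorem field_of_mul {B : Type*} [AddCommGroup B] [Finite B] [Nontrivial B] (mul : B →+ B →+ B) (one : B)
    (h1 : ∀ v, mul one v = v) (h2 : ∀ u, mul u one = u) (hl : ∀ u, u ≠ 0 → ∃ w, ∀ v, mul w (mul u v) = v)
    (hr : ∀ v, v ≠ 0 → ∃ w, ∀ u, mul (mul u v) w = u) :
    ∃ (F : Type) (_ : Field F) (_ : Fintype F) (β : B ≃ F), (∀ b b', β (b + b') = β b + β b') ∧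
      ∀ u v, β (mul u v) = β u * β v := by
  classical
  let R : NonAssocRing B :=
    { (inferInstance : AddCommGroup B) with
      mul := fun u v => mul u v
      one := one
      left_distrib := fun a b c => map_add (mul a) b c
      right_distrib := fun a b c => by
        change mul (a + b) c = mul a c + mul b c
        rw [map_add, AddMonoidHom.add_apply]
      zero_mul := fun a => by
        change mul 0 a = 0
        rw [map_zero, AddMonoidHom.zero_apply]
      mul_zero := fun a => map_zero (mul a)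
      one_mul := h1
      mul_one := h2 }
  obtain ⟨hc, ha⟩ := H975.ArtinZorn.artin_zorn (R := B) hl hr
  have hne : (1 : B) ≠ 0 := by
    intro h
    obtain ⟨x, hx⟩ := exists_ne (0 : B)
    apply hx
    rw [← one_mul x, h, zero_mul]
  have hinv : ∀ a : B, a ≠ 0 → ∃ b : B, a * b = 1 := by
    intro a ha'
    obtain ⟨b, hb⟩ := hl a ha'
    refine ⟨b, ?_⟩
    rw [hc]
    have := hb 1
    have h3 : b * (a * 1) = 1 := this
    rwa [mul_one] at h3
  choose! iv hiv using hinv
  let RF : Field B :=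
    { R with
      mul_assoc := ha
      mul_comm := hc
      inv := fun a => if a = 0 then 0 else iv a
      exists_pair_ne := ⟨1, 0, hne⟩
      mul_inv_cancel := fun a h => by
        change a * (if a = 0 then 0 else iv a) = 1
        rw [if_neg h]
        exact hiv a h
      inv_zero := if_pos rfl
      nnqsmul := _
      qsmul := _ }
  refine ⟨Shrink.{0} B, inferInstance, Fintype.ofFinite _, equivShrink.{0} B, fun b b' => ?_, fun u v => ?_⟩
  · exact equivShrink_add.{0} b b'
  · exact equivShrink_mul.{0} (α := B) u v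

variable {A B C : Type*} [AddCommGroup A] [AddCommGroup B] [AddCommGroup C] [Finite A] [Finite B] [Finite C]

/-- **the field** -/
theorem alg_field [Nontrivial B] (m : C →+ A →+ B) (hA : Nat.card A = Nat.card B) (hC : Nat.card C = Nat.card B)
    (nd : ∀ s a, m s a = 0 → s = 0 ∨ a = 0)
    (gl : ∀ s₁ s₂ : C, s₁ ≠ 0 → s₂ ≠ 0 → (∀ a₁ a₂, m s₁ a₁ = m s₂ a₂ → a₁ + a₂ = 0) ∨
      ∃ s₃, s₃ ≠ 0 ∧ ∀ a₁ a₂, m s₁ a₁ = m s₂ a₂ → m s₃ (a₁ + a₂) = m s₁ a₁)
    (gl' : ∀ a₁ a₂ : A, a₁ ≠ 0 → a₂ ≠ 0 → (∀ s₁ s₂, m s₁ a₁ = m s₂ a₂ → s₁ + s₂ = 0) ∨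
      ∃ a₃, a₃ ≠ 0 ∧ ∀ s₁ s₂, m s₁ a₁ = m s₂ a₂ → m (s₁ + s₂) a₃ = m s₁ a₁) :
    ∃ (F : Type) (_ : Field F) (_ : Fintype F) (α : A ≃ F) (β : B ≃ F) (γ : C ≃ F),
      (∀ b b', β (b + b') = β b + β b') ∧ ∀ s a, β (m s a) = γ s * α a := by
  have h1B : 1 < Nat.card B := Finite.one_lt_card_iff_nontrivial.2 inferInstance
  have : Nontrivial A := Finite.one_lt_card_iff_nontrivial.1 (hA ▸ h1B)
  have : Nontrivial C := Finite.one_lt_card_iff_nontrivial.1 (hC ▸ h1B)
  obtain ⟨a₀, ha₀⟩ := exists_ne (0 : A)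
  obtain ⟨s₀, hs₀⟩ := exists_ne (0 : C)
  -- the two identifications
  have hinj1 : Function.Injective (m s₀) := by
    rw [injective_iff_map_eq_zero]
    intro a ha
    exact (nd s₀ a ha).resolve_left hs₀
  have hinj2 : Function.Injective (m.flip a₀) := by
    rw [injective_iff_map_eq_zero]
    intro s hs
    exact (nd s a₀ hs).resolve_right ha₀
  let lam : A ≃+ B := AddEquiv.ofBijective (m s₀) (Function.Injective.bijective_of_nat_card_le hinj1 hA.ge)
  let mu : C ≃+ B := AddEquiv.ofBijective (m.flip a₀) (Function.Injective.bijective_of_nat_card_le hinj2 hC.ge)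
  have hlam : ∀ a, lam a = m s₀ a := fun _ => rfl
  have hmu : ∀ s, mu s = m s a₀ := fun _ => rfl
  let mul : B →+ B →+ B := AddMonoidHom.mk' (fun u => (m (mu.symm u)).comp lam.symm.toAddMonoidHom) (by
    intro u v
    ext w
    simp)
  have hmul : ∀ u v, mul u v = m (mu.symm u) (lam.symm v) := fun _ _ => rfl
  have hmul' : ∀ s a, mul (mu s) (lam a) = m s a := fun s a => by
    rw [hmul, AddEquiv.symm_apply_apply, AddEquiv.symm_apply_apply]
  set one := m s₀ a₀ with hone
  have e1 : mu.symm one = s₀ := by rw [AddEquiv.symm_apply_eq]; rfl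
  have e2 : lam.symm one = a₀ := by rw [AddEquiv.symm_apply_eq]; rfl
  have h1 : ∀ v, mul one v = v := fun v => by
    rw [hmul, e1, ← hlam, AddEquiv.apply_symm_apply]
  have h2 : ∀ u, mul u one = u := fun u => by
    rw [hmul, e2, ← hmu, AddEquiv.apply_symm_apply]
  have hne : one ≠ 0 := by
    intro h
    rcases nd _ _ h with h3 | h3
    · exact hs₀ h3
    · exact ha₀ h3
  -- the inverse properties
  have hl : ∀ u, u ≠ 0 → ∃ w, ∀ v, mul w (mul u v) = v := by
    intro u hu
    by_cases hu1 : u = one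
    · exact ⟨one, fun v => by rw [hu1, h1, h1]⟩
    have hu2 : mu.symm (u - one) ≠ 0 := by
      intro h
      rw [AddEquiv.symm_apply_eq, map_zero, sub_eq_zero] at h
      exact hu1 h
    have hs : ∀ v, m s₀ (lam.symm (mul (u - one) v)) = m (mu.symm (u - one)) (lam.symm v) := by
      intro v
      rw [← hlam, AddEquiv.apply_symm_apply, hmul]
    rcases gl s₀ (mu.symm (u - one)) hs₀ hu2 with h3 | ⟨s₃, -, h3⟩
    · exfalso
      have h4 := h3 _ _ (hs one)
      rw [← map_add, AddEquiv.symm_apply_eq, map_zero, h2, sub_add_cancel] at h4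
      exact hu h4
    · refine ⟨one - mu s₃, fun v => ?_⟩
      have h4 := h3 _ _ (hs v)
      have h5 : mul (u - one) v + v = mul u v := by
        rw [map_sub, AddMonoidHom.sub_apply, h1, sub_add_cancel]
      rw [← map_add, h5, hs v, ← hmul, ← AddEquiv.symm_apply_apply mu s₃, ← hmul] at h4
      rw [map_sub, AddMonoidHom.sub_apply, h1, h4, map_sub, AddMonoidHom.sub_apply, h1]
      abel
  have hr : ∀ v, v ≠ 0 → ∃ w, ∀ u, mul (mul u v) w = u := by
    intro v hv
    by_cases hv1 : v = one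
    · exact ⟨one, fun u => by rw [hv1, h2, h2]⟩
    have hv2 : lam.symm (v - one) ≠ 0 := by
      intro h
      rw [AddEquiv.symm_apply_eq, map_zero, sub_eq_zero] at h
      exact hv1 h
    have hs : ∀ u, m (mu.symm (mul u (v - one))) a₀ = m (mu.symm u) (lam.symm (v - one)) := by
      intro u
      rw [← hmu, AddEquiv.apply_symm_apply, hmul]
    rcases gl' a₀ (lam.symm (v - one)) ha₀ hv2 with h3 | ⟨a₃, -, h3⟩
    · exfalso
      have h4 := h3 _ _ (hs one)
      rw [← map_add, AddEquiv.symm_apply_eq, map_zero, h1, sub_add_cancel] at h4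
      exact hv h4
    · refine ⟨one - lam a₃, fun u => ?_⟩
      have h4 := h3 _ _ (hs u)
      have h5 : mul u (v - one) + u = mul u v := by
        rw [map_sub, h2, sub_add_cancel]
      rw [← map_add, h5, hs u, ← hmul, ← AddEquiv.symm_apply_apply lam a₃, ← hmul] at h4
      rw [map_sub, h2, h4, map_sub, h2]
      abel
  obtain ⟨F, i1, i2, β, hβ1, hβ2⟩ := field_of_mul mul one h1 h2 hl hr
  refine ⟨F, i1, i2, lam.toEquiv.trans β, β, mu.toEquiv.trans β, hβ1, fun s a => ?_⟩
  rw [← hmul', hβ2]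
  rfl

end Cfsg.Agent.H985
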