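import Mathlib

/-!
# André's counting lemma (S3732, helper985)

`andre` : a finite group `S` acts on `Ω`, non-identity elements fix at most one point, the fixed-point-free elements
and `1` form a subgroup `E`. Then `E` is transitive on the points with a non-trivial stabiliser.
-/

set_option autoImplicit false

namespace Cfsg.Agent.H985

open MulAction

theorem andre_count {S Ω : Type*} [Group S] [Finite S] [MulAction S Ω]
    (h1 : ∀ g : S, g ≠ 1 → ∀ x y : Ω, g • x = x → g • y = y → x = y) (x : Ω) :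
    Nat.card {g : S // g ≠ 1 ∧ ∃ z ∈ orbit S x, g • z = z} + Nat.card (orbit S x) = Nat.card S := by
  classical
  have := Fintype.ofFinite S
  have hfO : Finite (orbit S x) := Set.finite_coe_iff.2 (Set.finite_range _)
  have := Fintype.ofFinite (orbit S x)
  have := Fintype.ofFinite (Quotient (orbitRel S (orbit S x)))
  have h2 := sum_card_fixedBy_eq_card_orbits_mul_card_group S (orbit S x)
  have h3 : Fintype.card (Quotient (orbitRel S (orbit S x))) = 1 := by
    have h4 : Subsingleton (Quotient (orbitRel S (orbit S x))) :=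
      (pretransitive_iff_subsingleton_quotient S (orbit S x)).1 inferInstance
    have h5 : Nonempty (Quotient (orbitRel S (orbit S x))) := ⟨Quotient.mk _ ⟨x, mem_orbit_self x⟩⟩
    exact Fintype.card_eq_one_iff_nonempty_unique.2 ⟨⟨⟨h5.some⟩, fun a => Subsingleton.elim _ _⟩⟩
  rw [h3, one_mul] at h2
  have h4 : ∀ g : S, Fintype.card (fixedBy (orbit S x) g) =
      (if g = 1 then Fintype.card (orbit S x) else 0) +
        (if g ≠ 1 ∧ ∃ z ∈ orbit S x, g • z = z then 1 else 0) := by
    intro g
    by_cases hg : g = 1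
    · subst hg
      simp only [if_true, ne_eq, not_true_eq_false, false_and, if_false, add_zero]
      refine Fintype.card_congr ⟨fun a => a.1, fun a => ⟨a, by simp⟩, fun _ => rfl, fun _ => rfl⟩
    · simp only [hg, if_false, zero_add, ne_eq, not_false_eq_true, true_and]
      split_ifs with hz
      · obtain ⟨z, hz, hgz⟩ := hz
        rw [Fintype.card_eq_one_iff]
        refine ⟨⟨⟨z, hz⟩, by rw [mem_fixedBy]; exact Subtype.ext hgz⟩, ?_⟩
        rintro ⟨⟨w, hw⟩, hgw⟩
        rw [mem_fixedBy] at hgw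
        exact Subtype.ext (Subtype.ext (h1 g hg w z (congrArg Subtype.val hgw) hgz))
      · rw [Fintype.card_eq_zero_iff]
        refine ⟨?_⟩
        rintro ⟨⟨w, hw⟩, hgw⟩
        rw [mem_fixedBy] at hgw
        exact hz ⟨w, hw, congrArg Subtype.val hgw⟩
  simp only [h4, Finset.sum_add_distrib] at h2
  rw [Finset.sum_ite_eq' Finset.univ (1 : S) (fun _ => Fintype.card (orbit S x)), if_pos (Finset.mem_univ _),
    Finset.sum_boole] at h2
  rw [Nat.card_eq_fintype_card, Nat.card_eq_fintype_card, Nat.card_eq_fintype_card, Fintype.card_subtype]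
  simp only [Nat.cast_id] at h2
  omega

theorem card_orbit_mul {S Ω : Type*} [Group S] [MulAction S Ω] (x : Ω) :
    Nat.card (orbit S x) * Nat.card (stabilizer S x) = Nat.card S := by
  rw [Nat.card_coe_set_eq, ← index_stabilizer, Subgroup.index_mul_card]

theorem two_mul_card_orbit_le {S Ω : Type*} [Group S] [Finite S] [MulAction S Ω] {x : Ω}
    (hx : ∃ g : S, g ≠ 1 ∧ g • x = x) : 2 * Nat.card (orbit S x) ≤ Nat.card S := by
  have h1 := card_orbit_mul (S := S) x
  have h2 : 2 ≤ Nat.card (stabilizer S x) := by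
    obtain ⟨g, hg, hgx⟩ := hx
    have : Nontrivial (stabilizer S x) := ⟨⟨g, hgx⟩, 1, fun h => hg (congrArg Subtype.val h)⟩
    exact Finite.one_lt_card
  rw [← h1, mul_comm]
  exact Nat.mul_le_mul_left _ h2

theorem andre_orbit {S Ω : Type*} [Group S] [Finite S] [MulAction S Ω]
    (h1 : ∀ g : S, g ≠ 1 → ∀ x y : Ω, g • x = x → g • y = y → x = y) {x y : Ω}
    (hx : ∃ g : S, g ≠ 1 ∧ g • x = x) (hy : ∃ g : S, g ≠ 1 ∧ g • y = y) : y ∈ orbit S x := by
  classical
  have := Fintype.ofFinite S
  by_contra hn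
  have c1 := andre_count h1 x
  have c2 := andre_count h1 y
  have d1 := two_mul_card_orbit_le hx
  have d2 := two_mul_card_orbit_le hy
  have h2 : Nat.card {g : S // g ≠ 1 ∧ ∃ z ∈ orbit S x, g • z = z} +
      Nat.card {g : S // g ≠ 1 ∧ ∃ z ∈ orbit S y, g • z = z} + 1 ≤ Nat.card S := by
    simp only [Nat.card_eq_fintype_card, Fintype.card_subtype]
    rw [← Finset.card_union_of_disjoint]
    · have h3 : (Finset.univ.filter (fun g : S => g ≠ 1 ∧ ∃ z ∈ orbit S x, g • z = z) ∪
          Finset.univ.filter (fun g : S => g ≠ 1 ∧ ∃ z ∈ orbit S y, g • z = z)) ⊆ Finset.univ.erase (1 : S) := by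
        intro g hg
        simp only [Finset.mem_union, Finset.mem_filter, Finset.mem_univ, true_and] at hg
        rw [Finset.mem_erase]
        rcases hg with hg | hg
        · exact ⟨hg.1, Finset.mem_univ _⟩
        · exact ⟨hg.1, Finset.mem_univ _⟩
      have h4 := Finset.card_le_card h3
      rw [Finset.card_erase_of_mem (Finset.mem_univ _), Finset.card_univ] at h4
      have h5 : 0 < Fintype.card S := Fintype.card_pos
      omega
    · rw [Finset.disjoint_filter]
      rintro g - ⟨hg, z, hz, hgz⟩ ⟨-, w, hw, hgw⟩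
      have := h1 g hg z w hgz hgw
      subst this
      apply hn
      rw [← orbit_eq_iff] at hz hw ⊢
      rw [← hz, hw]
  omega

theorem andre {S Ω : Type*} [Group S] [Finite S] [MulAction S Ω]
    (h1 : ∀ g : S, g ≠ 1 → ∀ x y : Ω, g • x = x → g • y = y → x = y) (E : Subgroup S)
    (hE : ∀ g : S, g ∈ E ↔ (g = 1 ∨ ∀ x : Ω, g • x ≠ x)) {x y : Ω}
    (hx : ∃ g : S, g ≠ 1 ∧ g • x = x) (hy : ∃ g : S, g ≠ 1 ∧ g • y = y) : ∃ e ∈ E, e • x = y := by
  classical
  have := Fintype.ofFinite S
  have c1 := andre_count h1 x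
  -- `|E| = |orbit|`
  have h2 : Nat.card E = Nat.card (orbit S x) := by
    have h3 : Nat.card E + Nat.card {g : S // g ≠ 1 ∧ ∃ z ∈ orbit S x, g • z = z} = Nat.card S := by
      have h4 : ∀ g : S, g ∈ E ↔ ¬ (g ≠ 1 ∧ ∃ z ∈ orbit S x, g • z = z) := by
        intro g
        rw [hE]
        constructor
        · rintro (h | h) ⟨hg, z, hz, hgz⟩
          · exact hg h
          · exact h z hgz
        · intro h
          by_cases hg : g = 1
          · exact Or.inl hg
          · right
            intro z hz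
            exact h ⟨hg, z, andre_orbit h1 hx ⟨g, hg, hz⟩, hz⟩
      have h5 : Nat.card E = Nat.card {g : S // ¬ (g ≠ 1 ∧ ∃ z ∈ orbit S x, g • z = z)} :=
        Nat.card_congr (Equiv.subtypeEquivRight h4)
      rw [h5, add_comm, ← Nat.card_sum]
      exact Nat.card_congr (Equiv.sumCompl _)
    omega
  have hfO : Finite (orbit S x) := Set.finite_coe_iff.2 (Set.finite_range _)
  have hinj : Function.Injective (fun e : E => (⟨e.1 • x, mem_orbit x e.1⟩ : orbit S x)) := by
    intro e f hef
    have h3 : e.1 • x = f.1 • x := congrArg Subtype.val hef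
    have h4 : (f⁻¹ * e).1 • x = x := by
      change (f.1⁻¹ * e.1) • x = x
      rw [mul_smul, h3, inv_smul_smul]
    rcases (hE _).1 (f⁻¹ * e).2 with h5 | h5
    · have h6 : f⁻¹ * e = 1 := Subtype.ext h5
      exact (inv_mul_eq_one.1 h6).symm
    · exact absurd h4 (h5 x)
  have hsurj := (Function.Injective.bijective_of_nat_card_le hinj (le_of_eq h2.symm)).2
  obtain ⟨e, he⟩ := hsurj ⟨y, andre_orbit h1 hx hy⟩
  exact ⟨e.1, e.2, congrArg Subtype.val he⟩

end Cfsg.Agent.H985
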