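import Cfsg.Agent.H985.ElGrp

/-!
# A line which is the axis of elations with two centres (S3732, helper985)

If all points are centres of involutory homologies and the order is odd, then the order is a prime power.
-/

set_option autoImplicit false
set_option linter.unusedSectionVars false

namespace Cfsg.Agent.H985.Pl

open Configuration Configuration.ProjectivePlane

variable {G P L : Type*} [Group G] [Membership P L] [MulAction G P] [MulAction G L]
variable [Act G P L] [ProjectivePlane P L] [Finite P] [Finite L] [FaithfulSMul G P]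

variable (G P) in
/-- `w` is the axis of elations with two centres -/
def Two (w : L) : Prop := ∃ (y z : P) (g h : G), y ≠ z ∧ y ∈ w ∧ z ∈ w ∧ g ∈ Pg G y w ∧ h ∈ Pg G z w ∧ g ≠ 1 ∧ h ≠ 1

theorem Pg_inter {g : G} {y z : P} {w : L} (hyz : y ≠ z) (h1 : g ∈ Pg G y w) (h2 : g ∈ Pg G z w) : g = 1 := by
  by_contra h
  exact hyz (ce_unique h1.2 h2.2 (not_triv h))

theorem Pg_comm {g h : G} {y z : P} {w : L} (hyz : y ≠ z) (hy : y ∈ w) (hz : z ∈ w) (h1 : g ∈ Pg G y w)
    (h2 : h ∈ Pg G z w) : g * h = h * g := by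
  have hgw : g • w = w := h1.1.fix
  have hhw : h • w = w := h2.1.fix
  have k1 : g * h * g⁻¹ ∈ Pg G z w := by
    have a1 := h2.1.conj g
    have a2 := h2.2.conj g
    rw [hgw] at a1
    rw [h1.1 z hz] at a2
    exact ⟨a1, a2⟩
  have k2 : h * g⁻¹ * h⁻¹ ∈ Pg G y w := by
    have a1 := h1.1.inv.conj h
    have a2 := h1.2.inv.conj h
    rw [hhw] at a1
    rw [h2.1 y hy] at a2
    exact ⟨a1, a2⟩
  have k3 : g * h * g⁻¹ * h⁻¹ = 1 := by
    refine Pg_inter (Ne.symm hyz) (mul_mem k1 (inv_mem h2)) (w := w) ?_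
    have : g * h * g⁻¹ * h⁻¹ = g * (h * g⁻¹ * h⁻¹) := by group
    rw [this]
    exact mul_mem h1 k2
  calc g * h = (g * h * g⁻¹ * h⁻¹) * (h * g) := by group
    _ = h * g := by rw [k3, one_mul]

theorem Two.other {w : L} (h : Two G P w) (z : P) : ∃ (y : P) (g : G), y ≠ z ∧ y ∈ w ∧ g ∈ Pg G y w ∧ g ≠ 1 := by
  obtain ⟨y1, y2, g1, g2, h1, h2, h3, h4, h5, h6, h7⟩ := h
  by_cases hz : y1 = z
  · exact ⟨y2, g2, fun h => h1 (hz.trans h.symm), h3, h5, h7⟩
  · exact ⟨y1, g1, hz, h2, h4, h6⟩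

theorem Two.comm {w : L} (h : Two G P w) {a b : G} (ha : a ∈ El G P w) (hb : b ∈ El G P w) : a * b = b * a := by
  obtain ⟨y, hy, hay⟩ := exPg ha
  obtain ⟨z, hz, hbz⟩ := exPg hb
  by_cases hyz : y = z
  · subst hyz
    obtain ⟨x, g, hxy, hx, hg, hg1⟩ := h.other y
    obtain ⟨u, hu, hag⟩ := exPg (mul_mem ha (Pg_le_El hx hg) : a * g ∈ El G P w)
    have huy : u ≠ y := by
      rintro rfl
      have : g ∈ Pg G u w := by
        have h1 : g = a⁻¹ * (a * g) := by group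
        rw [h1]; exact mul_mem (inv_mem hay) hag
      exact hg1 (Pg_inter hxy hg this)
    have h1 := Pg_comm huy hu hy hag hbz
    have h2 := Pg_comm hxy hx hy hg hbz
    have h3 : a * b * g = b * a * g := by
      rw [mul_assoc, ← h2, ← mul_assoc, h1, mul_assoc]
    exact mul_right_cancel h3
  · exact Pg_comm hyz hy hz hay hbz

/-- the exponent of the elation group is a prime -/
theorem Two.exponent [Finite G] {w : L} (h : Two G P w) : ∃ p : ℕ, p.Prime ∧ ∀ a ∈ El G P w, a ^ p = 1 := by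
  obtain ⟨y, z, g, k, hyz, hy, hz, hg, hk, hg1, hk1⟩ := id h
  obtain ⟨p, hp, hpd⟩ := Nat.exists_prime_and_dvd (n := orderOf g) (by rwa [ne_eq, orderOf_eq_one_iff])
  refine ⟨p, hp, ?_⟩
  -- an element of order `p` with centre `y`
  have hg0 : orderOf (g ^ (orderOf g / p)) = p := orderOf_pow_orderOf_div (orderOf_pos g).ne' hpd
  set g0 := g ^ (orderOf g / p) with hg0d
  have hg0y : g0 ∈ Pg G y w := pow_mem hg _
  have hg0p : g0 ^ p = 1 := by rw [← hg0]; exact pow_orderOf_eq_one _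
  have hg01 : g0 ≠ 1 := by
    intro h1
    rw [h1, orderOf_one] at hg0
    exact hp.one_lt.ne hg0
  -- elements with a different centre
  have key : ∀ (x : P) (c : G), x ∈ w → c ∈ Pg G x w → c ≠ 1 → c ^ p = 1 →
      ∀ (u : P) (b : G), u ≠ x → u ∈ w → b ∈ Pg G u w → b ^ p = 1 := by
    intro x c hx hc hc1 hcp u b hux hu hb
    obtain ⟨v, hv, hcb⟩ := exPg (mul_mem (Pg_le_El hx hc) (Pg_le_El hu hb) : c * b ∈ El G P w)
    have hvu : v ≠ u := by
      rintro rfl
      have h2 : c ∈ Pg G v w := by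
        have h1 : c = (c * b) * b⁻¹ := by group
        rw [h1]; exact mul_mem hcb (inv_mem hb)
      exact hc1 (Pg_inter (Ne.symm hux) hc h2)
    have h1 : (c * b) ^ p = b ^ p := by
      rw [(show Commute c b from Pg_comm (Ne.symm hux) hx hu hc hb).mul_pow, hcp, one_mul]
    exact Pg_inter hvu (h1 ▸ pow_mem hcb p) (pow_mem hb p)
  have hkp : k ^ p = 1 := key y g0 hy hg0y hg01 hg0p z k (Ne.symm hyz) hz hk
  intro a ha
  obtain ⟨u, hu, hau⟩ := exPg ha
  by_cases huy : u = y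
  · exact key z k hz hk hk1 hkp u a (huy ▸ hyz) hu hau
  · exact key y g0 hy hg0y hg01 hg0p u a huy hu hau

/-- an elation with axis `w ∋ c` commuting with a homology with centre `c` -/
theorem centre_of_comm {c z : P} {w a : L} {t e : G} (hcw : c ∈ w) (hca : c ∉ a) (t1 : t ≠ 1) (ta : Ax t a P)
    (tc : Ce t c L) (hz : z ∈ w) (hza : z ∈ a) (he : e ∈ El G P w) (hte : t * e * t⁻¹ = e) : e ∈ Pg G z w := by
  by_cases he1 : e = 1
  · rw [he1]; exact one_mem _
  obtain ⟨y, hy, hey⟩ := exPg he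
  have h1 : t • y = y := by
    have h2 := hey.2.conj t
    rw [hte] at h2
    exact ce_unique h2 hey.2 (not_triv he1)
  have haw : w ≠ a := fun h => hca (h ▸ hcw)
  rcases fixpt ta tc (not_triv t1) h1 with h2 | h2
  · have : y = z := uP haw hy h2 hz hza
    exact this ▸ hey
  · exfalso
    subst h2
    have h3 : e * t * e⁻¹ = t := by
      have h4 : t * e = e * t := by
        calc t * e = (t * e * t⁻¹) * t := by group
          _ = e * t := by rw [hte]
      rw [← h4]; group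
    have h4 : e • a = a := by
      have h5 := ta.conj e
      rw [h3] at h5
      exact ax_unique h5 ta (not_triv t1)
    rcases fixln hey.1 hey.2 (not_triv he1) h4 with h5 | h5
    · exact hca h5
    · exact haw h5.symm

/-- an elation with axis `w ∋ c` inverted by a homology with centre `c` -/
theorem centre_of_inv [Finite G] {c z : P} {w a : L} {t e : G} (hcw : c ∈ w) (hca : c ∉ a) (t1 : t ≠ 1) (ta : Ax t a P)
    (tc : Ce t c L) (hz : z ∈ w) (hza : z ∈ a) (hodd : Odd (order P L)) (he : e ∈ El G P w)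
    (hte : t * e * t⁻¹ = e⁻¹) : e ∈ Pg G c w := by
  by_cases he1 : e = 1
  · rw [he1]; exact one_mem _
  obtain ⟨y, hy, hey⟩ := exPg he
  have h1 : t • y = y := by
    have h2 := hey.2.conj t
    rw [hte] at h2
    exact ce_unique h2 hey.2.inv (not_triv (inv_ne_one.2 he1))
  have haw : w ≠ a := fun h => hca (h ▸ hcw)
  rcases fixpt ta tc (not_triv t1) h1 with h2 | h2
  · exfalso
    have hyz : y = z := uP haw hy h2 hz hza
    subst hyz
    obtain ⟨r, hr, hrz, -⟩ := ex_third a y y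
    have hrw : r ∉ w := fun h => hrz (uP haw h hr hy hza)
    have hea : e • a = a := hey.2 a hza
    have her : e • r ∈ a := by have := mem_smul e hr; rwa [hea] at this
    have h3 : e⁻¹ • r = e • r := by
      rw [← hte, mul_smul, mul_smul, ta.inv r hr, ta _ her]
    have h4 : e⁻¹ = e := El_eq (inv_mem he) he hrw h3
    have h5 : e ^ 2 = 1 := by
      rw [pow_two]
      nth_rewrite 1 [← h4]
      group
    have h6 : Odd (Nat.card (El G P w)) := odd_El hodd w
    have h7 : orderOf e ∣ 2 := orderOf_dvd_of_pow_eq_one h5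
    have h8 : orderOf e ∣ Nat.card (El G P w) := by
      have := orderOf_dvd_natCard (⟨e, he⟩ : El G P w)
      rwa [Subgroup.orderOf_mk] at this
    have h9 : orderOf e ∣ 1 := by
      have : Nat.Coprime 2 (Nat.card (El G P w)) := (Nat.coprime_two_left).2 h6
      rw [← this.gcd_eq_one]; exact Nat.dvd_gcd h7 h8
    exact he1 (orderOf_eq_one_iff.1 (Nat.dvd_one.1 h9))
  · exact h2 ▸ hey

/-- the decomposition of the elation group -/
theorem card_El_eq [Finite G] (hodd : Odd (order P L)) {w a : L} {c z : P} (hT : Two G P w) (hcw : c ∈ w)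
    (hH : Hom G c a) (hz : z ∈ w) (hza : z ∈ a) :
    Nat.card (El G P w) = Nat.card (Pg G c w) * Nat.card (Pg G z w) := by
  obtain ⟨t, t1, t2, ta, tc, hca⟩ := hH
  have hcz : c ≠ z := fun h => hca (h ▸ hza)
  have htw : t • w = w := tc w hcw
  have hti : t⁻¹ = t := by rw [inv_eq_iff_mul_eq_one, ← pow_two, t2]
  have hconj : ∀ e ∈ El G P w, t * e * t⁻¹ ∈ El G P w := by
    rintro e ⟨h1, y, hy, h2⟩
    have h3 := h1.conj t
    rw [htw] at h3
    refine ⟨h3, t • y, ?_, h2.conj t⟩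
    have := mem_smul t hy
    rwa [htw] at this
  rw [← Nat.card_prod]
  symm
  refine Nat.card_congr (Equiv.ofBijective
    (fun x => (⟨x.1.1 * x.2.1, mul_mem (Pg_le_El hcw x.1.2) (Pg_le_El hz x.2.2)⟩ : El G P w)) ⟨?_, ?_⟩)
  · rintro ⟨⟨x, hx⟩, ⟨y, hy⟩⟩ ⟨⟨x', hx'⟩, ⟨y', hy'⟩⟩ h
    have h1 : x * y = x' * y' := congrArg Subtype.val h
    have h2 : x'⁻¹ * x = y' * y⁻¹ := by
      rw [inv_mul_eq_iff_eq_mul, ← mul_assoc, ← h1]; group
    have h3 : x'⁻¹ * x = 1 := Pg_inter hcz (mul_mem (inv_mem hx') hx) (h2 ▸ mul_mem hy' (inv_mem hy))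
    have h4 : x = x' := (inv_mul_eq_one.1 h3).symm
    have h5 : y = y' := by
      rw [h3] at h2
      exact (mul_inv_eq_one.1 h2.symm).symm
    subst h4; subst h5; rfl
  · rintro ⟨e, he⟩
    have h1 := hconj e he
    -- the two components of `e²`
    have c1 : e * (t * e * t⁻¹) ∈ Pg G z w := by
      refine centre_of_comm hcw hca t1 ta tc hz hza (mul_mem he h1) ?_
      calc t * (e * (t * e * t⁻¹)) * t⁻¹ = (t * e * t⁻¹) * (t * t * e * (t⁻¹ * t⁻¹)) := by group
        _ = (t * e * t⁻¹) * e := by rw [hti, ← pow_two, t2, one_mul, mul_one]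
        _ = e * (t * e * t⁻¹) := hT.comm h1 he
    have c2 : e⁻¹ * (t * e * t⁻¹) ∈ Pg G c w := by
      refine centre_of_inv hcw hca t1 ta tc hz hza hodd (mul_mem (inv_mem he) h1) ?_
      calc t * (e⁻¹ * (t * e * t⁻¹)) * t⁻¹ = (t * e * t⁻¹)⁻¹ * (t * t * e * (t⁻¹ * t⁻¹)) := by group
        _ = (t * e * t⁻¹)⁻¹ * e := by rw [hti, ← pow_two, t2, one_mul, mul_one]
        _ = (e⁻¹ * (t * e * t⁻¹))⁻¹ := by group
    have c3 : e ^ 2 = (e⁻¹ * (t * e * t⁻¹))⁻¹ * (e * (t * e * t⁻¹)) := by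
      have h2 := hT.comm he h1
      generalize t * e * t⁻¹ = d at h2
      calc e ^ 2 = d⁻¹ * (d * e) * e := by rw [pow_two]; group
        _ = d⁻¹ * (e * d) * e := by rw [h2]
        _ = d⁻¹ * e * (d * e) := by group
        _ = (e⁻¹ * d)⁻¹ * (e * d) := by rw [← h2]; group
    have h6 : Odd (Nat.card (El G P w)) := odd_El hodd w
    obtain ⟨k, hk⟩ := h6
    have h7 : e ^ (2 * (k + 1)) = e := by
      have h8 : e ^ Nat.card (El G P w) = 1 := by
        have := pow_card_eq_one' (x := (⟨e, he⟩ : El G P w))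
        exact congrArg Subtype.val this
      rw [show 2 * (k + 1) = (2 * k + 1) + 1 by ring, pow_succ, ← hk, h8, one_mul]
    have h8 : e = ((e⁻¹ * (t * e * t⁻¹))⁻¹) ^ (k + 1) * (e * (t * e * t⁻¹)) ^ (k + 1) := by
      have hcm : Commute ((e⁻¹ * (t * e * t⁻¹))⁻¹) (e * (t * e * t⁻¹)) :=
        Pg_comm hcz hcw hz (inv_mem c2) c1
      rw [← hcm.mul_pow, ← c3, ← pow_mul, h7]
    exact ⟨⟨⟨_, pow_mem (inv_mem c2) (k + 1)⟩, ⟨_, pow_mem c1 (k + 1)⟩⟩, Subtype.ext h8.symm⟩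


/-- the final count -/
theorem arith {Z : Type*} [Finite Z] [Nonempty Z] (h : Z → ℕ) (q k : ℕ) (hk : Nat.card Z = k + 1)
    (ha : ∀ z, ∃ z', z' ≠ z ∧ h z * h z' = q) (hb : ∀ z z', z ≠ z' → h z * h z' ≤ q) (hc : ∀ z, 2 ≤ h z)
    (hd : ∀ _F : Fintype Z, ∑ z, (h z - 1) = q - 1) : ∃ z, h z = k := by
  classical
  have := Fintype.ofFinite Z
  obtain ⟨z0, hz0⟩ := Finite.exists_max h
  have key : ∀ z, z ≠ z0 → h z * h z0 = q := by
    intro z hz
    obtain ⟨z', -, hz'⟩ := ha z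
    exact le_antisymm (hb z z0 hz) (by rw [← hz']; exact Nat.mul_le_mul_left _ (hz0 z'))
  obtain ⟨z1, hz1, hq⟩ := ha z0
  have hconst : ∀ z, z ≠ z0 → h z = h z1 := by
    intro z hz
    have h1 := key z hz
    have h2 := key z1 hz1
    exact Nat.eq_of_mul_eq_mul_right (by have := hc z0; omega) (h1.trans h2.symm)
  have hs := hd inferInstance
  rw [← Finset.add_sum_erase Finset.univ (fun z => h z - 1) (Finset.mem_univ z0)] at hs
  rw [Finset.sum_congr rfl (g := fun _ => h z1 - 1) (by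
    intro z hz
    rw [hconst z (Finset.ne_of_mem_erase hz)])] at hs
  rw [Finset.sum_const, Finset.card_erase_of_mem (Finset.mem_univ _), Finset.card_univ,
    ← Nat.card_eq_fintype_card, hk, Nat.add_sub_cancel, smul_eq_mul] at hs
  refine ⟨z0, ?_⟩
  have c0 := hc z0
  have c1 := hc z1
  obtain ⟨x, hx⟩ := Nat.exists_eq_add_of_le c0
  obtain ⟨y, hy⟩ := Nat.exists_eq_add_of_le c1
  rw [← hq, hx, hy] at hs
  have e1 : 2 + x - 1 = x + 1 := by omega
  have e2 : 2 + y - 1 = y + 1 := by omega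
  rw [e1, e2] at hs
  have e3 : (2 + x) * (2 + y) - 1 = (x + 1) + (2 + x) * (y + 1) := by
    have : (2 + x) * (2 + y) = (x + 1) + (2 + x) * (y + 1) + 1 := by ring
    omega
  rw [e3] at hs
  have hs' := Nat.add_left_cancel hs
  rw [hx]
  exact (Nat.eq_of_mul_eq_mul_right (by omega) hs').symm

/-- the non-trivial elations with axis `w` are partitioned by their centres -/
theorem card_El_sum [Finite G] (w : L) (F : Fintype {z : P // z ∈ w}) :
    ∑ z : {z : P // z ∈ w}, (Nat.card (Pg G z.1 w) - 1) = Nat.card (El G P w) - 1 := by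
  classical
  have h0 : ∀ (H : Subgroup G), Nat.card H - 1 = Nat.card {g : G // g ∈ H ∧ g ≠ 1} := by
    intro H
    have h1 : Nat.card {g : H // g = 1} + Nat.card {g : H // ¬ g = 1} = Nat.card H := by
      rw [← Nat.card_sum]; exact Nat.card_congr (Equiv.sumCompl _)
    have h2 : Nat.card {g : H // g = 1} = 1 := by
      rw [Nat.card_eq_one_iff_unique]
      exact ⟨⟨fun a b => Subtype.ext (a.2.trans b.2.symm)⟩, ⟨⟨1, rfl⟩⟩⟩
    have h3 : Nat.card {g : H // ¬ g = 1} = Nat.card {g : G // g ∈ H ∧ g ≠ 1} :=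
      Nat.card_congr ⟨fun g => ⟨g.1.1, g.1.2, fun h => g.2 (Subtype.ext h)⟩,
        fun g => ⟨⟨g.1, g.2.1⟩, fun h => g.2.2 (congrArg Subtype.val h)⟩, fun _ => rfl, fun _ => rfl⟩
    omega
  simp only [h0]
  rw [← Nat.card_sigma]
  refine Nat.card_congr (Equiv.ofBijective (fun x => ⟨x.2.1, Pg_le_El x.1.2 x.2.2.1, x.2.2.2⟩) ⟨?_, ?_⟩)
  · rintro ⟨⟨z, hz⟩, ⟨g, hg, hg1⟩⟩ ⟨⟨z', hz'⟩, ⟨g', hg', hg1'⟩⟩ h
    have h1 : g = g' := congrArg Subtype.val h
    subst h1
    have h2 : z = z' := by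
      by_contra h3
      exact hg1 (Pg_inter h3 hg hg')
    subst h2
    rfl
  · rintro ⟨g, hg, hg1⟩
    obtain ⟨z, hz, hgz⟩ := exPg hg
    exact ⟨⟨⟨z, hz⟩, ⟨g, hgz, hg1⟩⟩, rfl⟩

theorem Pg_mul_le [Finite G] {w : L} {y z : P} (hy : y ∈ w) (hz : z ∈ w) (hyz : y ≠ z) :
    Nat.card (Pg G y w) * Nat.card (Pg G z w) ≤ Nat.card (El G P w) := by
  rw [← Nat.card_prod]
  refine Nat.card_le_card_of_injective
    (fun x : Pg G y w × Pg G z w => (⟨x.1.1 * x.2.1, mul_mem (Pg_le_El hy x.1.2) (Pg_le_El hz x.2.2)⟩ : El G P w)) ?_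
  rintro ⟨⟨x, hx⟩, ⟨v, hv⟩⟩ ⟨⟨x', hx'⟩, ⟨v', hv'⟩⟩ h
  have h1 : x * v = x' * v' := congrArg Subtype.val h
  have h2 : x'⁻¹ * x = v' * v⁻¹ := by
    rw [inv_mul_eq_iff_eq_mul, ← mul_assoc, ← h1]; group
  have h3 : x'⁻¹ * x = 1 := Pg_inter hyz (mul_mem (inv_mem hx') hx) (h2 ▸ mul_mem hv' (inv_mem hv))
  have h4 : x = x' := (inv_mul_eq_one.1 h3).symm
  have h5 : v = v' := by
    rw [h3] at h2
    exact (mul_inv_eq_one.1 h2.symm).symm
  subst h4; subst h5; rfl

/-- **Case one**: the order is a prime power. -/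
theorem Two.primePow [Finite G] (hodd : Odd (order P L)) (hc : ∀ y : P, ∃ a : L, Hom G y a) {w : L}
    (hT : Two G P w) : ∃ p k : ℕ, p.Prime ∧ order P L = p ^ k := by
  classical
  have hne : Nonempty {z : P // z ∈ w} := by
    obtain ⟨y, -, -, -, -, hy, -⟩ := hT
    exact ⟨⟨y, hy⟩⟩
  have part : ∀ z : {z : P // z ∈ w}, ∃ z' : {z : P // z ∈ w}, z' ≠ z ∧
      Nat.card (Pg G z.1 w) * Nat.card (Pg G z'.1 w) = Nat.card (El G P w) := by
    rintro ⟨z, hz⟩
    obtain ⟨a, ha⟩ := hc z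
    have hza : z ∉ a := ha.ex_off.1
    have hwa : w ≠ a := fun h => hza (h ▸ hz)
    obtain ⟨x, hx1, hx2⟩ := exP0 (P := P) hwa
    refine ⟨⟨x, hx1⟩, fun h => ?_, (card_El_eq hodd hT hz ha hx1 hx2).symm⟩
    have h' : x = z := congrArg Subtype.val h
    exact hza (h' ▸ hx2)
  have hle : ∀ z : P, z ∈ w → Nat.card (Pg G z w) ≤ Nat.card (El G P w) := fun z hz =>
    Subgroup.card_le_of_le (Pg_le_El hz)
  obtain ⟨⟨z, hz⟩, hzk⟩ := arith (Z := {z : P // z ∈ w}) (fun z => Nat.card (Pg G z.1 w)) (Nat.card (El G P w))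
    (order P L) (card_pts w) part
    (fun y z hyz => Pg_mul_le y.2 z.2 (fun h => hyz (Subtype.ext h)))
    (by
      rintro ⟨z, hz⟩
      by_contra hlt
      have hpos : 0 < Nat.card (Pg G z w) := Nat.card_pos
      have h1 : Nat.card (Pg G z w) = 1 := by
        change ¬ 2 ≤ Nat.card (Pg G z w) at hlt
        omega
      obtain ⟨⟨x, hx⟩, hxz, hq⟩ := part ⟨z, hz⟩
      change Nat.card (Pg G z w) * Nat.card (Pg G x w) = _ at hq
      rw [h1, one_mul] at hq
      have h2 : Pg G x w = El G P w := Subgroup.eq_of_le_of_card_ge (Pg_le_El hx) (le_of_eq hq.symm)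
      obtain ⟨y, g, hyx, hy, hg, hg1⟩ := hT.other x
      have h3 : g ∈ Pg G x w := h2 ▸ Pg_le_El hy hg
      exact hg1 (Pg_inter hyx hg h3))
    (fun F => card_El_sum w F)
  obtain ⟨p, hp, hexp⟩ := hT.exponent
  have : Fact p.Prime := ⟨hp⟩
  have hpg : IsPGroup p (Pg G z w) := by
    intro g
    exact ⟨1, Subtype.ext (by rw [pow_one]; exact hexp g.1 (Pg_le_El hz g.2))⟩
  obtain ⟨k, hk⟩ := hpg.exists_card_eq
  exact ⟨p, k, hp, hzk.symm.trans hk⟩

end Cfsg.Agent.H985.Pl
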