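import Cfsg.Agent.H985.Full

/-!
# The commutator algebra of the elation groups, S3732, helper985
-/

set_option autoImplicit false
set_option linter.unusedSectionVars false

namespace Cfsg.Agent.H985.Pl

open Configuration Configuration.ProjectivePlane

variable {G P L : Type*} [Group G] [Membership P L] [MulAction G P] [MulAction G L]
variable [Act G P L] [ProjectivePlane P L] [Finite P] [Finite L] [Finite G] [FaithfulSMul G P]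

theorem nontriv_Pg (hT : T2 G P) {z : P} {w : L} (hz : z ∈ w) : ∃ g ∈ Pg G z w, g ≠ 1 := by
  have h1 : 1 < Nat.card (Pg G z w) := by rw [card_Pg_all hT hz]; exact one_lt_order P L
  have := Finite.one_lt_card_iff_nontrivial.1 h1
  obtain ⟨g, hg⟩ := exists_ne (1 : Pg G z w)
  exact ⟨g.1, g.2, fun h => hg (Subtype.ext h)⟩

theorem Two_of (hT : T2 G P) (w : L) : Two G P w := by
  obtain ⟨y, hy⟩ := ex_on P w
  obtain ⟨z, hz, hzy⟩ := ex_on_ne (P := P) w y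
  obtain ⟨g, hg, hg1⟩ := nontriv_Pg hT hy
  obtain ⟨h, hh, hh1⟩ := nontriv_Pg hT hz
  exact ⟨y, z, g, h, Ne.symm hzy, hy, hz, hg, hh, hg1, hh1⟩

theorem comm_axis (hT : T2 G P) {w : L} {y z : P} (hy : y ∈ w) (hz : z ∈ w) {a b : G} (ha : a ∈ Pg G y w)
    (hb : b ∈ Pg G z w) : a * b = b * a :=
  (Two_of hT w).comm (Pg_le_El hy ha) (Pg_le_El hz hb)

theorem comm_centre (hT : T2 G P) {z : P} {v w : L} (hv : z ∈ v) (hw : z ∈ w) {a b : G} (ha : a ∈ Pg G z v)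
    (hb : b ∈ Pg G z w) : a * b = b * a := by
  have h1 := faithfulL G P L
  have h2 : FaithfulSMul G (Dual L) := h1
  have hTL0 : T2 G L := T2.lines L hT
  have hTL : T2 G (Dual L) := hTL0
  exact comm_axis (P := Dual L) (L := Dual P) hTL (w := z) (y := v) (z := w) hv hw (mem_Pg_dual.2 ha) (mem_Pg_dual.2 hb)

theorem comm_mem {X Y : P} {l k : L} (hY : Y ∈ l) (_hYk : Y ∈ k) {s a : G} (hs : s ∈ Pg G Y k)
    (ha : a ∈ Pg G X l) : s * a * s⁻¹ * a⁻¹ ∈ Pg G Y l := by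
  refine ⟨?_, ?_⟩
  · have h1 := ha.1.conj s
    rw [hs.2 l hY] at h1
    exact h1.mul ha.1.inv
  · have h1 := hs.2.inv.conj a
    rw [ha.1 Y hY] at h1
    have h2 : s * a * s⁻¹ * a⁻¹ = s * (a * s⁻¹ * a⁻¹) := by group
    rw [h2]
    exact hs.2.mul h1

/-- non-degeneracy -/
theorem comm_nd {X Y : P} {l k : L} (hXY : X ≠ Y) (hX : X ∈ l) (hY : Y ∈ l) (hYk : Y ∈ k) (hk : k ≠ l) {s a : G}
    (hs : s ∈ Pg G Y k) (ha : a ∈ Pg G X l) (h : s * a * s⁻¹ * a⁻¹ = 1) : s = 1 ∨ a = 1 := by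
  by_contra hne
  push Not at hne
  obtain ⟨hs1, ha1⟩ := hne
  have h1 : a * s * a⁻¹ = s := by
    have : s * a = a * s := by
      calc s * a = (s * a * s⁻¹ * a⁻¹) * (a * s) := by group
        _ = a * s := by rw [h, one_mul]
    rw [← this]; group
  have h2 := hs.1.conj a
  rw [h1] at h2
  have h3 : k = a • k := ax_unique hs.1 h2 (not_triv hs1)
  rcases fixln ha.1 ha.2 (not_triv ha1) h3.symm with h4 | h4
  · exact hXY (uP hk h4 hX hYk hY)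
  · exact hk h4

theorem comm_mulR (hT : T2 G P) {X Y : P} {l k : L} (hX : X ∈ l) (hY : Y ∈ l) (hYk : Y ∈ k) {s a a' : G}
    (hs : s ∈ Pg G Y k) (ha : a ∈ Pg G X l) (ha' : a' ∈ Pg G X l) :
    s * (a * a') * s⁻¹ * (a * a')⁻¹ = (s * a * s⁻¹ * a⁻¹) * (s * a' * s⁻¹ * a'⁻¹) := by
  have h1 := comm_mem hY hYk hs ha'
  have h2 := comm_axis hT hY hX h1 (inv_mem ha)
  calc s * (a * a') * s⁻¹ * (a * a')⁻¹ = (s * a * s⁻¹) * ((s * a' * s⁻¹ * a'⁻¹) * a⁻¹) := by group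
    _ = (s * a * s⁻¹) * (a⁻¹ * (s * a' * s⁻¹ * a'⁻¹)) := by rw [h2]
    _ = _ := by group

theorem comm_mulL (hT : T2 G P) {X Y : P} {l k : L} (hY : Y ∈ l) (hYk : Y ∈ k) {s s' a : G}
    (hs : s ∈ Pg G Y k) (hs' : s' ∈ Pg G Y k) (ha : a ∈ Pg G X l) :
    (s * s') * a * (s * s')⁻¹ * a⁻¹ = (s * a * s⁻¹ * a⁻¹) * (s' * a * s'⁻¹ * a⁻¹) := by
  have h1 := comm_mem hY hYk hs' ha
  have h0 := comm_mem hY hYk hs ha
  have h2 := comm_centre hT hYk hY hs h1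
  have h3 := comm_centre hT hY hY h0 h1
  calc (s * s') * a * (s * s')⁻¹ * a⁻¹ = (s * (s' * a * s'⁻¹ * a⁻¹)) * (a * s⁻¹ * a⁻¹) := by group
    _ = (s' * a * s'⁻¹ * a⁻¹) * (s * a * s⁻¹ * a⁻¹) := by rw [h2]; group
    _ = _ := h3.symm

/-- the relation between the two families of elations -/
theorem comm_rel (hT : T2 G P) {X Y Z : P} {l k k' : L} (hX : X ∈ l) (hY : Y ∈ l) (hYk : Y ∈ k)
    (hXk : X ∈ k') {s s' a : G} (hs : s ∈ Pg G Y k) (hs' : s' ∈ Pg G X k') (h1 : s • X = Z) (h2 : s' • Y = Z)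
    (hZX : Z ≠ X) (ha : a ∈ Pg G X l) : s' * (s * a * s⁻¹ * a⁻¹) * s'⁻¹ * (s * a * s⁻¹ * a⁻¹)⁻¹ = a := by
  have hb := comm_mem hY hYk hs ha
  set b := s * a * s⁻¹ * a⁻¹ with hbdef
  have h3 := comm_mem hX hXk hs' hb
  set c := s' * b * s'⁻¹ * b⁻¹ with hcdef
  have hba : b * a = a * b := comm_axis hT hY hX hb ha
  -- two elations with centre `Z`
  have e1 : b * a ∈ Pg G Z l := by
    have h4 : b * a = s * a * s⁻¹ := by rw [hbdef]; group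
    rw [h4]
    have h5 := ha.1.conj s
    have h6 := ha.2.conj s
    rw [hs.2 l hY] at h5
    rw [h1] at h6
    exact ⟨h5, h6⟩
  have e2 : c * b ∈ Pg G Z l := by
    have h4 : c * b = s' * b * s'⁻¹ := by rw [hcdef]; group
    rw [h4]
    have h5 := hb.1.conj s'
    have h6 := hb.2.conj s'
    rw [hs'.2 l hX] at h5
    rw [h2] at h6
    exact ⟨h5, h6⟩
  have hcb : c * b = b * c := comm_axis hT hX hY h3 hb
  have e3 : a⁻¹ * c ∈ Pg G Z l := by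
    have : a⁻¹ * c = (b * a)⁻¹ * (c * b) := by rw [hcb]; group
    rw [this]
    exact mul_mem (inv_mem e1) e2
  have e4 : a⁻¹ * c = 1 := Pg_inter hZX e3 (mul_mem (inv_mem ha) h3)
  exact (inv_mul_eq_one.1 e4).symm

/-- the inverses of the maps `a ↦ [s, a]` form an additive group -/
theorem comm_gl (hT : T2 G P) {X Y : P} {l k : L} (hXY : X ≠ Y) (hX : X ∈ l) (hY : Y ∈ l) (hYk : Y ∈ k) (hk : k ≠ l)
    {s₁ s₂ : G} (h1 : s₁ ∈ Pg G Y k) (h2 : s₂ ∈ Pg G Y k) (h11 : s₁ ≠ 1) (h21 : s₂ ≠ 1) :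
    (∀ a₁ ∈ Pg G X l, ∀ a₂ ∈ Pg G X l, s₁ * a₁ * s₁⁻¹ * a₁⁻¹ = s₂ * a₂ * s₂⁻¹ * a₂⁻¹ → a₁ * a₂ = 1) ∨
    ∃ s₃ ∈ Pg G Y k, s₃ ≠ 1 ∧ ∀ a₁ ∈ Pg G X l, ∀ a₂ ∈ Pg G X l, s₁ * a₁ * s₁⁻¹ * a₁⁻¹ = s₂ * a₂ * s₂⁻¹ * a₂⁻¹ →
      s₃ * (a₁ * a₂) * s₃⁻¹ * (a₁ * a₂)⁻¹ = s₁ * a₁ * s₁⁻¹ * a₁⁻¹ := by
  obtain ⟨k', hk', hk'l, -⟩ := ex_thirdL X l l
  have hXk : X ∉ k := fun h => hXY (uP hk h hX hYk hY)
  -- the partner of `s`
  have key : ∀ s ∈ Pg G Y k, s ≠ 1 → ∃ s' ∈ Pg G X k', s' • Y = s • X ∧ s • X ≠ X := by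
    intro s hs hs1
    have e1 : s • X ≠ X := Pg_ne hs hYk hs1 hXk
    have e2 : s • X ∈ l := by
      have := mem_smul s hX
      rwa [hs.2 l hY] at this
    obtain ⟨s', hs', h⟩ := Pg_trans hT hk' hX (Ne.symm hk'l) hY e2 (Ne.symm hXY) e1
    exact ⟨s', hs', h, e1⟩
  obtain ⟨s₁', h1', h1e, h1n⟩ := key s₁ h1 h11
  obtain ⟨s₂', h2', h2e, h2n⟩ := key s₂ h2 h21
  -- the product
  have hprod : ∀ a₁ ∈ Pg G X l, ∀ a₂ ∈ Pg G X l, s₁ * a₁ * s₁⁻¹ * a₁⁻¹ = s₂ * a₂ * s₂⁻¹ * a₂⁻¹ →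
      (s₁' * s₂') * (s₁ * a₁ * s₁⁻¹ * a₁⁻¹) * (s₁' * s₂')⁻¹ * (s₁ * a₁ * s₁⁻¹ * a₁⁻¹)⁻¹ = a₁ * a₂ := by
    intro a₁ ha₁ a₂ ha₂ he
    rw [comm_mulL hT hX hk' h1' h2' (comm_mem hY hYk h1 ha₁),
      comm_rel hT hX hY hYk hk' h1 h1' rfl h1e h1n ha₁, he,
      comm_rel hT hX hY hYk hk' h2 h2' rfl h2e h2n ha₂]
  by_cases h3 : s₁' * s₂' = 1
  · left
    intro a₁ ha₁ a₂ ha₂ he
    rw [← hprod a₁ ha₁ a₂ ha₂ he, h3]
    group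
  · right
    have h3' : s₁' * s₂' ∈ Pg G X k' := mul_mem h1' h2'
    have hYk' : Y ∉ k' := fun h => hXY (uP hk'l hk' hX h hY)
    have e1 : (s₁' * s₂') • Y ≠ Y := Pg_ne h3' hk' h3 hYk'
    have e2 : (s₁' * s₂') • Y ∈ l := by
      have := mem_smul (s₁' * s₂') hY
      rwa [h3'.2 l hX] at this
    have e3 : (s₁' * s₂') • Y ≠ X := by
      intro h
      exact hXY (MulAction.injective (s₁' * s₂') ((h3'.1 X hk').trans h.symm))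
    obtain ⟨s₃, hs₃, h4⟩ := Pg_trans hT hYk hY (Ne.symm hk) hX e2 hXY e1
    refine ⟨s₃, hs₃, ?_, ?_⟩
    · rintro rfl
      rw [one_smul] at h4
      exact e3 h4.symm
    · intro a₁ ha₁ a₂ ha₂ he
      have h5 := comm_rel hT hY hX hk' hYk h3' hs₃ rfl h4 e1 (comm_mem hY hYk h1 ha₁)
      rw [hprod a₁ ha₁ a₂ ha₂ he] at h5
      exact h5

/-- the dual statement -/
theorem comm_gl' (hT : T2 G P) {X Y : P} {l k : L} (hXY : X ≠ Y) (hX : X ∈ l) (hY : Y ∈ l) (hYk : Y ∈ k) (hk : k ≠ l)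
    {a₁ a₂ : G} (h1 : a₁ ∈ Pg G X l) (h2 : a₂ ∈ Pg G X l) (h11 : a₁ ≠ 1) (h21 : a₂ ≠ 1) :
    (∀ s₁ ∈ Pg G Y k, ∀ s₂ ∈ Pg G Y k, s₁ * a₁ * s₁⁻¹ * a₁⁻¹ = s₂ * a₂ * s₂⁻¹ * a₂⁻¹ → s₁ * s₂ = 1) ∨
    ∃ a₃ ∈ Pg G X l, a₃ ≠ 1 ∧ ∀ s₁ ∈ Pg G Y k, ∀ s₂ ∈ Pg G Y k, s₁ * a₁ * s₁⁻¹ * a₁⁻¹ = s₂ * a₂ * s₂⁻¹ * a₂⁻¹ →
      (s₁ * s₂) * a₃ * (s₁ * s₂)⁻¹ * a₃⁻¹ = s₁ * a₁ * s₁⁻¹ * a₁⁻¹ := by
  have hf1 := faithfulL G P L
  have hf2 : FaithfulSMul G (Dual L) := hf1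
  have hTL0 : T2 G L := T2.lines L hT
  have hTL : T2 G (Dual L) := hTL0
  have hinv : ∀ {s a s' a' : G}, s * a * s⁻¹ * a⁻¹ = s' * a' * s'⁻¹ * a'⁻¹ ↔
      a * s * a⁻¹ * s⁻¹ = a' * s' * a'⁻¹ * s'⁻¹ := by
    intro s a s' a'
    rw [← inv_inj]
    simp only [mul_inv_rev, inv_inv, mul_assoc]
  rcases comm_gl (P := Dual L) (L := Dual P) hTL (X := k) (Y := l) (l := Y) (k := X) hk hYk hY hX hXY
    (mem_Pg_dual.2 h1) (mem_Pg_dual.2 h2) h11 h21 with h3 | ⟨a₃, ha₃, ha₃1, h3⟩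
  · left
    intro s₁ hs₁ s₂ hs₂ he
    exact h3 s₁ (mem_Pg_dual.2 hs₁) s₂ (mem_Pg_dual.2 hs₂) (hinv.1 he)
  · right
    refine ⟨a₃, mem_Pg_dual.1 ha₃, ha₃1, ?_⟩
    intro s₁ hs₁ s₂ hs₂ he
    exact hinv.2 (h3 s₁ (mem_Pg_dual.2 hs₁) s₂ (mem_Pg_dual.2 hs₂) (hinv.1 he))

end Cfsg.Agent.H985.Pl
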