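import Cfsg.Agent.H985.Homol

/-!
# Elation groups (S3732, helper985)

* `El G P a` : the elations with axis `a`; `Pg G z a` : the perspectivities with centre `z` and axis `a`;
* `El_trans` : André's theorem; `odd_centres` : if the order is odd, an axis of an involutory homology has an odd number
  of centres.
-/

set_option autoImplicit false
set_option linter.unusedSectionVars false

namespace Cfsg.Agent.H985

theorem card_dvd_of_semireg {E Ω : Type*} [Group E] [MulAction E Ω] [Finite Ω]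
    (h : ∀ g : E, g ≠ 1 → ∀ ω : Ω, g • ω ≠ ω) : Nat.card E ∣ Nat.card Ω := by
  have h1 : ∀ b : Ω, MulAction.stabilizer E b = ⊥ := by
    intro b
    rw [eq_bot_iff]
    intro g hg
    by_contra hne
    exact h g (fun h2 => hne (by rw [h2]; exact Subgroup.mem_bot.2 rfl)) b hg
  rw [Nat.card_congr (MulAction.selfEquivOrbitsQuotientProd h1), Nat.card_prod]
  exact dvd_mul_left _ _

namespace Pl

open Configuration Configuration.ProjectivePlane

variable {G P L : Type*} [Group G] [Membership P L] [MulAction G P] [MulAction G L]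
variable [Act G P L] [ProjectivePlane P L] [Finite P] [Finite L] [FaithfulSMul G P]

variable (G) in
/-- perspectivities with centre `z` and axis `a` -/
def Pg (z : P) (a : L) : Subgroup G where
  carrier := {g | Ax g a P ∧ Ce g z L}
  mul_mem' := fun h1 h2 => ⟨h1.1.mul h2.1, h1.2.mul h2.2⟩
  one_mem' := ⟨Ax.one, Ce.one⟩
  inv_mem' := fun h => ⟨h.1.inv, h.2.inv⟩

theorem mem_Pg {g : G} {z : P} {a : L} : g ∈ Pg G z a ↔ Ax g a P ∧ Ce g z L := Iff.rfl

theorem mem_Pg_dual {g : G} {z : P} {a : L} : g ∈ Pg G (P := Dual L) (L := Dual P) a z ↔ g ∈ Pg G z a :=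
  ⟨fun h => ⟨h.2, h.1⟩, fun h => ⟨h.2, h.1⟩⟩

theorem El_mul {g h : G} {a : L} (hg : Ax g a P ∧ ∃ z, z ∈ a ∧ Ce g z L) (hh : Ax h a P ∧ ∃ z, z ∈ a ∧ Ce h z L) :
    Ax (g * h) a P ∧ ∃ z, z ∈ a ∧ Ce (g * h) z L := by
  obtain ⟨hg1, y, hy, hg2⟩ := hg
  obtain ⟨hh1, z, hz, hh2⟩ := hh
  have h1 := hg1.mul hh1
  refine ⟨h1, ?_⟩
  by_cases hg0 : g = 1
  · subst hg0; rw [one_mul]; exact ⟨z, hz, hh2⟩
  by_cases hh0 : h = 1
  · subst hh0; rw [mul_one]; exact ⟨y, hy, hg2⟩
  obtain ⟨c, hc⟩ := h1.exCe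
  by_cases hca : c ∈ a
  · exact ⟨c, hca, hc⟩
  · have hfix := hc.fix
    have h2 : h • c = g⁻¹ • c := by rw [eq_inv_smul_iff, ← mul_smul, hfix]
    have h3 : h • c ≠ c := by
      intro h4
      rcases fixpt hh1 hh2 (not_triv hh0) h4 with h5 | h5
      · exact hca h5
      · exact hca (h5 ▸ hz)
    obtain ⟨l, hl1, hl2⟩ := exL L c z
    obtain ⟨m, hm1, hm2⟩ := exL L c y
    have h4 : h • c ∈ l := by have := mem_smul h hl1; rwa [hh2 l hl2] at this
    have h5 : h • c ∈ m := by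
      have := mem_smul g⁻¹ hm1
      rw [hg2.inv m hm2] at this
      rwa [h2]
    have hlm : l = m := uL h3 h4 hl1 h5 hm1
    have hla : l ≠ a := fun h6 => hca (h6 ▸ hl1)
    have hyz : y = z := uP hla (hlm ▸ hm2) hy hl2 hz
    subst hyz
    exact ⟨y, hy, hg2.mul hh2⟩

variable (G P) in
/-- the elations with axis `a` -/
def El (a : L) : Subgroup G where
  carrier := {g | Ax g a P ∧ ∃ z, z ∈ a ∧ Ce g z L}
  mul_mem' := fun h1 h2 => El_mul h1 h2
  one_mem' := ⟨Ax.one, by
    obtain ⟨z, hz, -, -⟩ := ex_third (P := P) a (exOffP (P := P) a).choose (exOffP (P := P) a).choose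
    exact ⟨z, hz, Ce.one⟩⟩
  inv_mem' := fun h => ⟨h.1.inv, h.2.choose, h.2.choose_spec.1, h.2.choose_spec.2.inv⟩

theorem mem_El {g : G} {a : L} : g ∈ El G P a ↔ Ax g a P ∧ ∃ z, z ∈ a ∧ Ce g z L := Iff.rfl

theorem Pg_le_El {z : P} {a : L} (h : z ∈ a) : Pg G z a ≤ El G P a := fun _ hg => ⟨hg.1, z, h, hg.2⟩

theorem exPg {g : G} {a : L} (h : g ∈ El G P a) : ∃ z, z ∈ a ∧ g ∈ Pg G z a :=
  ⟨h.2.choose, h.2.choose_spec.1, h.1, h.2.choose_spec.2⟩

/-- a non-trivial elation moves all points off its axis -/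
theorem El_ne {g : G} {a : L} (h : g ∈ El G P a) (h1 : g ≠ 1) {p : P} (hp : p ∉ a) : g • p ≠ p := by
  intro h2
  obtain ⟨z, hz, h3⟩ := h.2
  rcases fixpt h.1 h3 (not_triv h1) h2 with h4 | h4
  · exact hp h4
  · exact hp (h4 ▸ hz)

theorem Pg_ne {g : G} {z : P} {a : L} (h : g ∈ Pg G z a) (hz : z ∈ a) (h1 : g ≠ 1) {p : P} (hp : p ∉ a) :
    g • p ≠ p := El_ne (Pg_le_El hz h) h1 hp

theorem El_eq {g h : G} {a : L} (hg : g ∈ El G P a) (hh : h ∈ El G P a) {p : P} (hp : p ∉ a)
    (he : g • p = h • p) : g = h := by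
  by_contra hne
  refine El_ne (mul_mem (inv_mem hh) hg) (fun h1 => hne (inv_mul_eq_one.1 h1).symm) hp ?_
  rw [mul_smul, he, inv_smul_smul]

theorem Ax.mem_El_iff {g : G} {a : L} (h : Ax g a P) : g ∈ El G P a ↔ (g = 1 ∨ ∀ p : P, p ∉ a → g • p ≠ p) := by
  constructor
  · intro h1
    by_cases h2 : g = 1
    · exact Or.inl h2
    · exact Or.inr fun p hp => El_ne h1 h2 hp
  · rintro (h1 | h1)
    · rw [h1]; exact one_mem _
    · obtain ⟨z, hz⟩ := h.exCe
      by_cases hza : z ∈ a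
      · exact ⟨h, z, hza, hz⟩
      · exact absurd hz.fix (h1 z hza)

theorem smul_off {g : G} {a : L} (h : g • a = a) {p : P} (hp : p ∉ a) : g • p ∉ a := by
  intro h1
  rw [← h, mem_smul_iff] at h1
  exact hp h1

/-- André's theorem -/
theorem El_trans [Finite G] {a : L} {c d : P} (hc : c ∉ a) (hd : d ∉ a) (h1 : ∃ g : G, g ≠ 1 ∧ Ax g a P ∧ g • c = c)
    (h2 : ∃ g : G, g ≠ 1 ∧ Ax g a P ∧ g • d = d) : ∃ e ∈ El G P a, e • c = d := by
  let S : Subgroup G :=
    { carrier := {g | Ax g a P}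
      mul_mem' := fun h1 h2 => h1.mul h2
      one_mem' := Ax.one
      inv_mem' := fun h => h.inv }
  let X : SubMulAction S P :=
    { carrier := {p | p ∉ a}
      smul_mem' := fun g p hp => smul_off g.2.fix hp }
  obtain ⟨g1, g1n, g1a, g1c⟩ := h1
  obtain ⟨g2, g2n, g2a, g2d⟩ := h2
  obtain ⟨e, he, hec⟩ := andre (S := S) (Ω := X) (by
    rintro ⟨g, hg⟩ hne ⟨x, hx⟩ ⟨y, hy⟩ hgx hgy
    by_contra hxy
    apply hne
    apply Subtype.ext
    change g = 1
    exact one_of (hg.triv (congrArg Subtype.val hgx) hx (congrArg Subtype.val hgy) hy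
      (fun h => hxy (Subtype.ext h)))) ((El G P a).subgroupOf S) (by
    rintro ⟨g, hg⟩
    rw [Subgroup.mem_subgroupOf]
    change g ∈ El G P a ↔ _
    rw [Ax.mem_El_iff hg]
    constructor
    · rintro (h | h)
      · exact Or.inl (Subtype.ext h)
      · exact Or.inr fun x hx => h x.1 x.2 (congrArg Subtype.val hx)
    · rintro (h | h)
      · exact Or.inl (congrArg Subtype.val h)
      · exact Or.inr fun p hp hgp => h ⟨p, hp⟩ (Subtype.ext hgp)) (x := ⟨c, hc⟩) (y := ⟨d, hd⟩)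
    ⟨⟨g1, g1a⟩, fun h => g1n (congrArg Subtype.val h), Subtype.ext g1c⟩
    ⟨⟨g2, g2a⟩, fun h => g2n (congrArg Subtype.val h), Subtype.ext g2d⟩
  exact ⟨e.1, Subgroup.mem_subgroupOf.1 he, congrArg Subtype.val hec⟩

variable (G) in
theorem card_El_dvd (a : L) : Nat.card (El G P a) ∣ order P L ^ 2 := by
  let X : SubMulAction (El G P a) P :=
    { carrier := {p | p ∉ a}
      smul_mem' := fun g p hp => smul_off g.2.1.fix hp }
  have h := card_dvd_of_semireg (E := El G P a) (Ω := X) (by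
    rintro ⟨g, hg⟩ hne ⟨x, hx⟩ hgx
    exact El_ne hg (fun h => hne (Subtype.ext h)) hx (congrArg Subtype.val hgx))
  rw [← card_off (P := P) a]
  exact h

variable (G) in
theorem card_Pg_dvd {z : P} {a : L} (hz : z ∈ a) : Nat.card (Pg G z a) ∣ order P L := by
  obtain ⟨f, hf, hfa, -⟩ := ex_thirdL z a a
  let X : SubMulAction (Pg G z a) P :=
    { carrier := {p | p ∈ f ∧ p ≠ z}
      smul_mem' := by
        rintro ⟨g, hg⟩ p ⟨hp1, hp2⟩
        refine ⟨?_, ?_⟩
        · have := mem_smul g hp1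
          rwa [hg.2 f hf] at this
        · intro h
          apply hp2
          have h' : g • p = z := h
          exact MulAction.injective g (h'.trans (hg.1 z hz).symm) }
  have h := card_dvd_of_semireg (E := Pg G z a) (Ω := X) (by
    rintro ⟨g, hg⟩ hne ⟨x, hx1, hx2⟩ hgx
    exact Pg_ne hg hz (fun h => hne (Subtype.ext h)) (fun h => hx2 (uP hfa hx1 h hf hz))
      (congrArg Subtype.val hgx))
  rw [← card_pts_ne (P := P) hf]
  exact h

theorem Hom.ex_off {c : P} {a : L} (h : Hom G c a) : c ∉ a ∧ ∃ g : G, g ≠ 1 ∧ Ax g a P ∧ g • c = c := by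
  obtain ⟨g, h1, h2, h3, h4, h5⟩ := h
  exact ⟨h5, g, h1, h3, h4.fix⟩

/-- the elation group is transitive on the centres -/
theorem Hom.trans [Finite G] {c d : P} {a : L} (h : Hom G c a) (h' : Hom G d a) : ∃ e ∈ El G P a, e • c = d := by
  obtain ⟨h1, h2⟩ := h.ex_off
  obtain ⟨h3, h4⟩ := h'.ex_off
  exact El_trans h1 h3 h2 h4

theorem card_centres [Finite G] {c : P} {a : L} (h : Hom G c a) : Nat.card {d : P // Hom G d a} = Nat.card (El G P a) := by
  symm
  refine Nat.card_congr (Equiv.ofBijective (fun e => ⟨e.1 • c, ?_⟩) ⟨?_, ?_⟩)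
  · have := h.conj e.1
    rwa [e.2.1.fix] at this
  · intro e f hef
    exact Subtype.ext (El_eq e.2 f.2 h.ex_off.1 (congrArg Subtype.val hef))
  · rintro ⟨d, hd⟩
    obtain ⟨e, he, hec⟩ := h.trans hd
    exact ⟨⟨e, he⟩, Subtype.ext hec⟩

theorem odd_El (hodd : Odd (order P L)) (a : L) : Odd (Nat.card (El G P a)) :=
  Odd.of_dvd_nat (hodd.pow) (card_El_dvd G a)

theorem odd_centres [Finite G] (hodd : Odd (order P L)) {c : P} {a : L} (h : Hom G c a) :
    Odd (Nat.card {d : P // Hom G d a}) := by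
  rw [card_centres h]
  exact odd_El hodd a

theorem odd_axes [Finite G] (hodd : Odd (order P L)) {c : P} {a : L} (h : Hom G c a) :
    Odd (Nat.card {b : L // Hom G c b}) := by
  haveI := faithfulL G P L
  haveI : FaithfulSMul G (Dual L) := this
  have h1 := odd_centres (G := G) (P := Dual L) (L := Dual P) (by rw [Dual.order]; exact hodd) h.dual
  have h2 : Nat.card {b : L // Hom G c b} = Nat.card {d : Dual L // Hom G (P := Dual L) (L := Dual P) d c} :=
    Nat.card_congr (Equiv.subtypeEquivRight fun b => ⟨fun h => h.dual, fun h => h.of_dual⟩)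
  rw [h2]
  exact h1

/-- an involution on a set of odd cardinality has a fixed point -/
theorem hom_through [Finite G] (hodd : Odd (order P L)) {c d : P} {w a : L} (h : Hom G c w) (hd : d ∈ w)
    (ha : Hom G d a) : ∃ b : L, Hom G d b ∧ c ∈ b := by
  have h1 := odd_axes hodd ha
  obtain ⟨s, s1, s2, s3, s4, s5⟩ := h
  have hsd : s • d = d := s3 d hd
  let X : SubMulAction (Subgroup.zpowers s) L :=
    { carrier := {b | Hom G d b}
      smul_mem' := by
        rintro ⟨g, k, rfl⟩ b hb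
        have h2 := Hom.conj hb (s ^ k)
        have h3 : (s ^ k) • d = d := by
          have : s ^ k ∈ MulAction.stabilizer G d := zpow_mem (MulAction.mem_stabilizer_iff.2 hsd) k
          exact this
        rw [h3] at h2
        exact h2 }
  have := Fintype.ofFinite X
  obtain ⟨b, hb⟩ := Equiv.Perm.exists_fixed_point_of_prime (α := X) (p := 2) (n := 1) (by
    rw [← Nat.card_eq_fintype_card]
    exact fun h => (Nat.not_even_iff_odd.2 h1) (even_iff_two_dvd.2 h))
    (σ := MulAction.toPerm (⟨s, Subgroup.mem_zpowers s⟩ : Subgroup.zpowers s)) (by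
      ext1 z
      rw [pow_one, pow_two, Equiv.Perm.mul_apply, MulAction.toPerm_apply, MulAction.toPerm_apply, ← mul_smul,
        Equiv.Perm.one_apply]
      have : (⟨s, Subgroup.mem_zpowers s⟩ : Subgroup.zpowers s) * ⟨s, Subgroup.mem_zpowers s⟩ = 1 :=
        Subtype.ext (by change s * s = 1; rw [← pow_two, s2])
      rw [this, one_smul])
  have hb' : s • b.1 = b.1 := congrArg Subtype.val hb
  refine ⟨b.1, b.2, ?_⟩
  rcases fixln s3 s4 (not_triv s1) hb' with h2 | h2
  · exact h2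
  · exact absurd (h2 ▸ hd) (Hom.ex_off b.2).1

end Pl

end Cfsg.Agent.H985
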