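import Cfsg.Agent.H985.OddPlane

/-!
# Doubly transitive planes of odd order have prime power order: the theorem (S3732, helper985)
-/

set_option autoImplicit false
set_option linter.unusedSectionVars false

namespace Cfsg.Agent.H985.Pl

open Configuration Configuration.ProjectivePlane

variable {G P L : Type*} [Group G] [Membership P L] [MulAction G P] [MulAction G L]
variable [Act G P L] [ProjectivePlane P L] [Finite P] [Finite L] [Finite G]

theorem Quad.of_FP {D : Subgroup G} (hD : Planar P L D) {a b c d : FP P D} (hq : Quad (FP L D) a b c d) :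
    Quad L a.1 b.1 c.1 d.1 := by
  let _ := fixPlane hD
  obtain ⟨n1, n2, n3, n4, n5, n6⟩ := hq.ne
  have key : ∀ {x y : FP P D} (hxy : x ≠ y) {l : L}, x.1 ∈ l → y.1 ∈ l → ∀ g ∈ D, g • l = l :=
    fun {x y} hxy {l} hx hy g hg => fixL (fun h => hxy (FP.ext h)) (x.2 g hg) (y.2 g hg) hx hy
  exact ⟨fun l h1 h2 => hq.1 ⟨l, key n1 h1 h2⟩ h1 h2, fun l h1 h2 => hq.2.1 ⟨l, key n1 h1 h2⟩ h1 h2,
    fun l h1 h2 => hq.2.2.1 ⟨l, key n2 h1 h2⟩ h1 h2, fun l h1 h2 => hq.2.2.2 ⟨l, key n4 h1 h2⟩ h1 h2⟩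

theorem allHom_max {D : Subgroup G} (hD2 : IsPGroup 2 D) (hD : Planar P L D)
    (hmax : ∀ E : Subgroup G, IsPGroup 2 E → Planar P L E → Nat.card E ≤ Nat.card D) (hodd : Odd (ord hD)) :
    letI := fixPlane hD
    AllHom (Im (Subgroup.normalizer (D : Set G)) (FP P D) (FP L D)) (FP P D) (FP L D) := by
  let _ := fixPlane hD
  rintro ⟨γ, h, hh⟩ hne h2
  have hne' : γ ≠ 1 := fun h3 => hne (Subtype.ext h3)
  have h2' : γ ^ 2 = 1 := congrArg Subtype.val h2
  obtain ⟨m, hm, hgp⟩ := ppart 2 h.1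
  have hmo : Odd m := by
    rw [← Nat.not_even_iff_odd, even_iff_two_dvd]
    exact (Nat.Prime.coprime_iff_not_dvd Nat.prime_two).1 hm
  have hγm : γ ^ m = γ := by
    obtain ⟨j, hj⟩ := hmo
    rw [hj, pow_succ, pow_mul, h2', one_pow, one_mul]
  have hg : ∀ p : FP P D, (h ^ m) • p = γ • p := by
    intro p
    have h3 : toColl (Subgroup.normalizer (D : Set G)) (FP P D) (FP L D) (h ^ m) = γ := by
      rw [map_pow, hh, hγm]
    rw [← h3]; rfl
  have h22 : ∀ p : FP P D, γ • γ • p = p := by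
    intro p
    rw [← mul_smul, ← pow_two, h2', one_smul]
  have hnt : ¬ ∀ p : FP P D, γ • p = p := by
    intro h3
    apply hne'
    apply FaithfulSMul.eq_of_smul_eq_smul (α := FP P D)
    intro p
    rw [h3, one_smul]
  rcases invol (L := FP L D) h22 hnt with ⟨a, ha⟩ | ⟨a, b, c, d, hq, h3, h4, h5, h6⟩
  · obtain ⟨c, hc, hce⟩ := invol_odd hodd h22 ha
    exact ⟨c, a, hc, ha, hce⟩
  · exfalso
    have key : ∀ p : FP P D, γ • p = p → h.1 ^ m • p.1 = p.1 := by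
      intro p hp
      rw [← hg] at hp
      exact congrArg Subtype.val hp
    have hgD : h.1 ^ m ∉ D := by
      intro h7
      apply hnt
      intro p
      rw [← hg]
      exact FP.ext (p.2 _ h7)
    have h8 := card_lt_sup hgD
    have h9 := hmax _ (isP_sup hD2 (Subgroup.pow_mem _ h.2 m) hgp)
      ⟨⟨a.1, fix_sup a.2 (key a h3)⟩, ⟨b.1, fix_sup b.2 (key b h4)⟩, ⟨c.1, fix_sup c.2 (key c h5)⟩,
        ⟨d.1, fix_sup d.2 (key d h6)⟩, hq.of_FP hD⟩
    omega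

theorem primePow_odd (hT : T2 G P) (hodd : Odd (order P L)) : ∃ p k : ℕ, p.Prime ∧ order P L = p ^ k := by
  obtain ⟨D, hD2, hD, hmax⟩ := ex_max_planar G P L
  obtain ⟨i, hi⟩ := ord_order hD hD2
  have hoD : Odd (ord hD) := by
    rw [hi] at hodd
    by_contra h
    rw [Nat.not_odd_iff_even] at h
    exact Nat.not_even_iff_odd.2 hodd (h.pow_of_ne_zero (by positivity))
  have hTL0 : T2 G L := T2.lines L hT
  have hTL : T2 G (Dual L) := hTL0
  let _ := fixPlane hD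
  have hdvd : ∀ {X : Type _} (K : Subgroup G), D ≤ K → ¬ IsSyl 2 D K → 2 ∣ D.relIndex K := by
    intro _ K h1 h2
    by_contra h3
    exact h2 ⟨hD2, h1, h3⟩
  have h1 : ∀ x y : FP P D, x ≠ y → ∃ g : Im (Subgroup.normalizer (D : Set G)) (FP P D) (FP L D),
      g ≠ 1 ∧ g ^ 2 = 1 ∧ g • x = x ∧ g • y = y := by
    intro x y hxy
    have hxy' : x.1 ≠ y.1 := fun h => hxy (FP.ext h)
    obtain ⟨g, hg1, hg2, hg3⟩ := ex_invol hD2 hD hmax (K := St G x.1 y.1) (fun d hd => mem_St.2 ⟨x.2 d hd, y.2 d hd⟩)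
      (hdvd (X := P) _ (fun d hd => mem_St.2 ⟨x.2 d hd, y.2 d hd⟩) (fun h => syl_not_planar hT hxy' h hD))
    refine ⟨⟨_, g, rfl⟩, fun h => hg2 (congrArg Subtype.val h), Subtype.ext hg3, ?_, ?_⟩
    · exact FP.ext (mem_St.1 hg1).1
    · exact FP.ext (mem_St.1 hg1).2
  have h3 : ∀ x y : FP L D, x ≠ y → ∃ g : Im (Subgroup.normalizer (D : Set G)) (FP P D) (FP L D),
      g ≠ 1 ∧ g ^ 2 = 1 ∧ g • x = x ∧ g • y = y := by
    intro x y hxy
    have hxy' : x.1 ≠ y.1 := fun h => hxy (FP.ext h)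
    obtain ⟨g, hg1, hg2, hg3⟩ := ex_invol hD2 hD hmax (K := St G x.1 y.1) (fun d hd => mem_St.2 ⟨x.2 d hd, y.2 d hd⟩)
      (hdvd (X := P) _ (fun d hd => mem_St.2 ⟨x.2 d hd, y.2 d hd⟩) (fun h =>
        syl_not_planar (P := Dual L) (L := Dual P) hTL hxy' h hD.dual))
    refine ⟨⟨_, g, rfl⟩, fun h => hg2 (congrArg Subtype.val h), Subtype.ext hg3, ?_, ?_⟩
    · exact FP.ext (mem_St.1 hg1).1
    · exact FP.ext (mem_St.1 hg1).2
  obtain ⟨p, k, hp, hk⟩ := primePow_of_hom (G := Im (Subgroup.normalizer (D : Set G)) (FP P D) (FP L D))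
    (P := FP P D) (L := FP L D) hoD (allHom_max hD2 hD hmax hoD) h1 h3
  refine ⟨p, k * 2 ^ i, hp, ?_⟩
  rw [hi, pow_mul, ← hk]
  rfl

end Cfsg.Agent.H985.Pl
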