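import Cfsg.Agent.H985.OrbAux
import Cfsg.Agent.H985.OddMain

/-!
# Doubly transitive planes have elations (S3732, helper985)
-/

set_option autoImplicit false
set_option linter.unusedSectionVars false

namespace Cfsg.Agent.H985

theorem orbit_univ {G X : Type*} [Group G] [MulAction G X] (h : ∀ x y : X, ∃ g : G, g • x = y) (x : X) :
    MulAction.orbit G x = Set.univ :=
  Set.eq_univ_of_forall fun y => h x y

theorem T2.orbit_stab {G X : Type*} [Group G] [MulAction G X] (h : T2 G X) {x y : X} (hxy : y ≠ x) :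
    MulAction.orbit (MulAction.stabilizer G x) y = {z | z ≠ x} := by
  ext z
  constructor
  · rintro ⟨⟨g, hg⟩, rfl⟩ h1
    have h2 : g • x = x := hg
    exact hxy (MulAction.injective g (h1.trans h2.symm))
  · intro hz
    obtain ⟨g, h1, h2⟩ := h x y x z (Ne.symm hxy) (Ne.symm hz)
    exact ⟨⟨g, h1⟩, h2⟩

theorem card_ne {X : Type*} [Finite X] (x : X) : Nat.card {z : X | z ≠ x} + 1 = Nat.card X := by
  have h1 : Set.ncard {z : X | z ≠ x} + Set.ncard ({x} : Set X) = Nat.card X := by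
    have h2 : {z : X | z ≠ x} = ({x} : Set X)ᶜ := rfl
    rw [h2, add_comm]
    exact Set.ncard_add_ncard_compl _
  rw [Set.ncard_singleton] at h1
  rw [Nat.card_coe_set_eq]
  exact h1

namespace Pl

open Configuration Configuration.ProjectivePlane

variable {G P L : Type*} [Group G] [Membership P L] [MulAction G P] [MulAction G L]
variable [Act G P L] [ProjectivePlane P L] [Finite P] [Finite L] [Finite G]

theorem T2.orbit_off (hT : T2 G P) {x : P} {u : L} (hxu : x ∉ u) :
    MulAction.orbit (MulAction.stabilizer G u) x = {z | z ∉ u} := by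
  ext z
  constructor
  · rintro ⟨⟨g, hg⟩, rfl⟩ h1
    have h2 : g • u = u := hg
    have h3 : g • x ∈ u := h1
    rw [← h2, mem_smul_iff] at h3
    exact hxu h3
  · intro hz
    obtain ⟨g, h1, h2⟩ := T2.antiflag hT hxu hz
    exact ⟨⟨g, h2⟩, h1⟩

variable (L) in
include L in
theorem T2.card_pts (hT : T2 G P) {x y : P} (hxy : x ≠ y) :
    Nat.card G = Nat.card P * (order P L ^ 2 + order P L) * Nat.card (St G x y) := by
  rw [card_St x y, orbit_univ (hT.one (ex_ne L)), hT.orbit_stab (Ne.symm hxy)]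
  have h1 := card_ne x
  rw [card_P P L] at h1
  have h2 : Nat.card {z : P | z ≠ x} = order P L ^ 2 + order P L := by omega
  rw [h2, Nat.card_congr (Equiv.Set.univ P)]

theorem T2.card_anti (hT : T2 G P) {x : P} {u : L} (hxu : x ∉ u) :
    Nat.card G = Nat.card L * order P L ^ 2 * Nat.card (St G x u) := by
  have h0 : St G x u = St G u x := inf_comm _ _
  have h1 : MulAction.orbit G u = Set.univ :=
    orbit_univ (T2.one (T2.lines L hT) (ex_ne (P := Dual L) (Dual P))) u
  have h2 : Nat.card {z : P | z ∉ u} = order P L ^ 2 := card_off u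
  rw [h0, card_St u x, h1, T2.orbit_off hT hxu, h2, Nat.card_congr (Equiv.Set.univ L)]

/-- **NP** -/
theorem anti_not_planar (hT : T2 G P) {p : ℕ} [Fact p.Prime] (hp : p ∣ order P L) {x : P} {u : L} (hxu : x ∉ u)
    {Q : Subgroup G} (hQ : IsSyl p Q (St G x u)) : ¬ Planar P L Q := by
  intro hpl
  have hpl' := hpl
  obtain ⟨a, b, c, d, hq⟩ := hpl'
  have hab := hq.ne.1
  have hQK : Q ≤ St G a.1 b.1 := fun g hg => mem_St.2 ⟨a.2 g hg, b.2 g hg⟩
  have hn := one_lt_order P L
  -- `p` divides the index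
  have hdvd : p ∣ Q.relIndex (St G a.1 b.1) := by
    have h1 := T2.card_pts L hT hab
    have h2 := T2.card_anti hT hxu
    rw [card_eq_relIndex hQK] at h1
    rw [card_eq_relIndex hQ.le, card_L P L] at h2
    rw [h2, card_P P L] at h1
    have hc : 0 < Nat.card Q := Nat.card_pos
    have h3 : (order P L + 1) * Q.relIndex (St G a.1 b.1) = order P L * Q.relIndex (St G x u) := by
      have h4 : ((order P L ^ 2 + order P L + 1) * order P L * Nat.card Q) *
          ((order P L + 1) * Q.relIndex (St G a.1 b.1)) =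
          ((order P L ^ 2 + order P L + 1) * order P L * Nat.card Q) * (order P L * Q.relIndex (St G x u)) := by
        linear_combination -h1
      refine Nat.eq_of_mul_eq_mul_left ?_ h4
      positivity
    have h5 : p ∣ (order P L + 1) * Q.relIndex (St G a.1 b.1) := by
      rw [h3]; exact Dvd.dvd.mul_right hp _
    refine ((Nat.Prime.dvd_mul Fact.out).1 h5).resolve_left ?_
    intro h6
    have h7 := (Nat.dvd_add_right hp).1 h6
    exact (Nat.Prime.one_lt (Fact.out : p.Prime)).ne' (Nat.dvd_one.1 h7)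
  obtain ⟨g, hgK, hgN, hgQ, hgp⟩ := ex_norm hQ.isP hQK hdvd
  let _ := fixPlane hpl
  let γ : Subgroup.normalizer (Q : Set G) := ⟨g, hgN⟩
  have hγa : γ • a = a := FP.ext (mem_St.1 hgK).1
  have hγb : γ • b = b := FP.ext (mem_St.1 hgK).2
  have hab' : a ≠ b := fun h => hab (congrArg Subtype.val h)
  have hcard := card_fix_eq (P := FP P Q) (L := FP L Q) γ
  have h2 : 1 < Nat.card {l : FP L Q // γ • l = l} := by
    rw [← hcard]
    exact Finite.one_lt_card_iff_nontrivial.2 ⟨⟨⟨a, hγa⟩, ⟨b, hγb⟩, fun h => hab' (congrArg Subtype.val h)⟩⟩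
  obtain ⟨⟨⟨l, hl⟩, ⟨m, hm⟩, hlm⟩⟩ := Finite.one_lt_card_iff_nontrivial.1 h2
  have hlm' : l ≠ m := fun h => hlm (Subtype.ext h)
  -- an antiflag
  have key : ∃ (y : FP P Q) (k : FP L Q), γ • y = y ∧ γ • k = k ∧ y ∉ k := by
    by_contra hno
    push Not at hno
    exact hlm' (uL hab' (hno a l hγa hl) (hno b l hγb hl) (hno a m hγa hm) (hno b m hγb hm))
  obtain ⟨y, k, hy, hk, hyk⟩ := key
  have h3 := card_lt_sup hgQ
  have h4 := hQ.card_le_conj (isP_sup hQ.isP hgN (isP_zpowers_of_pow hQ.isP hgp)) (u := y.1) (v := k.1)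
    (fun d hd => mem_St.2 ⟨fix_sup y.2 (congrArg Subtype.val hy) d hd, fix_sup k.2 (congrArg Subtype.val hk) d hd⟩)
    (T2.antiflag hT (fun h => hyk h) hxu)
  omega

/-- a `p`-group with two fixed points has a third one on the line joining them -/
theorem third_fixed {p : ℕ} [Fact p.Prime] (hp : p ∣ order P L) {Q : Subgroup G} (hQ : IsPGroup p Q) {x y : P} {l : L}
    (hxy : x ≠ y) (hx : x ∈ l) (hy : y ∈ l) (hxf : ∀ g ∈ Q, g • x = x) (hyf : ∀ g ∈ Q, g • y = y) :
    ∃ w : P, w ∈ l ∧ w ≠ x ∧ w ≠ y ∧ ∀ g ∈ Q, g • w = w := by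
  obtain ⟨w, hw, hwf⟩ := ex_fixed hQ {w : P | w ∈ l ∧ w ≠ x ∧ w ≠ y} (by
    rintro g hg w ⟨h1, h2, h3⟩
    have hl : g • l = l := fixL hxy (hxf g hg) (hyf g hg) hx hy
    refine ⟨?_, ?_, ?_⟩
    · have := mem_smul g h1; rwa [hl] at this
    · intro h; exact h2 (MulAction.injective g (h.trans (hxf g hg).symm))
    · intro h; exact h3 (MulAction.injective g (h.trans (hyf g hg).symm))) (by
    have h1 : {w : P | w ∈ l ∧ w ≠ x ∧ w ≠ y} = {w : P | w ∈ l ∧ w ≠ x} \ {y} := by
      ext w; simp [and_assoc]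
    have h2 : Set.ncard {w : P | w ∈ l ∧ w ≠ x} = order P L := by
      rw [← Nat.card_coe_set_eq]
      exact card_pts_ne hx
    have h0 : y ∈ {w : P | w ∈ l ∧ w ≠ x} := ⟨hy, Ne.symm hxy⟩
    rw [Nat.card_coe_set_eq, h1, Set.ncard_sdiff_singleton_of_mem h0, h2]
    intro h3
    have h4 := one_lt_order P L
    have h5 : order P L = (order P L - 1) + 1 := by omega
    rw [h5] at hp
    exact (Nat.Prime.one_lt (Fact.out : p.Prime)).ne' (Nat.dvd_one.1 ((Nat.dvd_add_right h3).1 hp)))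
  exact ⟨w, hw.1, hw.2.1, hw.2.2, hwf⟩

/-- a collineation fixing all points off a line is trivial -/
theorem triv_of_off {g : G} {u : L} (h : ∀ x : P, x ∉ u → g • x = x) (x : P) : g • x = x := by
  by_cases hx : x ∈ u
  · have h1 : ∀ l : L, l ≠ u → g • l = l := by
      intro l hl
      obtain ⟨r, hr1, hr2⟩ := exP0 (P := P) hl
      obtain ⟨a, ha, har, -⟩ := ex_third (P := P) l r r
      obtain ⟨b, hb, hbr, hba⟩ := ex_third (P := P) l r a
      exact fixL (Ne.symm hba) (h a (fun h1 => har (uP hl ha h1 hr1 hr2))) (h b (fun h1 => hbr (uP hl hb h1 hr1 hr2)))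
        ha hb
    obtain ⟨l, hl, hlu, -⟩ := ex_thirdL x u u
    obtain ⟨m, hm, hmu, hml⟩ := ex_thirdL x u l
    exact fixP (Ne.symm hml) (h1 l hlu) (h1 m hmu) hl hm
  · exact h x hx

theorem T2.syl_line (_hT : T2 G P) {p : ℕ} [Fact p.Prime] (hp : p ∣ order P L) {S : Subgroup G}
    (hS : IsSyl p S ⊤) : ∃ u : L, IsSyl p S (MulAction.stabilizer G u) := by
  have hnd : ¬ p ∣ Nat.card L := by
    rw [card_L P L, pow_two]
    intro h
    have h1 : p ∣ order P L * order P L + order P L := (Dvd.dvd.mul_right hp _).add hp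
    exact (Nat.Prime.one_lt (Fact.out : p.Prime)).ne' (Nat.dvd_one.1 ((Nat.dvd_add_right h1).1 h))
  obtain ⟨u, -, hu⟩ := ex_fixed hS.isP (Set.univ : Set L) (fun _ _ _ _ => trivial) (by
    rw [Nat.card_congr (Equiv.Set.univ L)]; exact hnd)
  exact ⟨u, hS.mono hu le_top⟩

/-- **elations in planes of order `p ^ a`** -/
theorem elation_p [FaithfulSMul G P] (hT : T2 G P) {p a : ℕ} (hp : p.Prime) (hn : order P L = p ^ a) :
    ∃ (z : P) (w : L), Fl G z w := by
  have : Fact p.Prime := ⟨hp⟩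
  have hn1 := one_lt_order P L
  have ha : a ≠ 0 := by
    rintro rfl
    rw [pow_zero] at hn
    omega
  have hpn : p ∣ order P L := hn ▸ dvd_pow_self p ha
  obtain ⟨S, hS⟩ := IsSyl.exists p (⊤ : Subgroup G)
  obtain ⟨u, hSu⟩ := T2.syl_line hT hpn hS
  have hu : ∀ g ∈ S, g • u = u := hSu.le
  have hn1' : ¬ p ∣ order P L + 1 := by
    intro h
    exact hp.one_lt.ne' (Nat.dvd_one.1 ((Nat.dvd_add_right hpn).1 h))
  -- the fixed point on `u`
  obtain ⟨M, hMu, hM⟩ := ex_fixed hS.isP {x : P | x ∈ u} (by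
    intro g hg y hy
    have hy' : y ∈ u := hy
    change g • y ∈ u
    have := mem_smul g hy'
    rwa [hu g hg] at this) (by
      change ¬ p ∣ Nat.card {x : P // x ∈ u}
      rw [card_pts]
      exact hn1')
  -- transitivity off `u`
  have htr : ∀ x : P, x ∉ u → MulAction.orbit S x = {z : P | z ∉ u} := by
    intro x hx
    refine orbit_eq_of_dvd S _ ?_ hx ?_
    · intro g hg y hy
      exact smul_off (hu g hg) hy
    · have h1 : Nat.card {z : P | z ∉ u} = p ^ (a * 2) := by
        have h2 : Nat.card {z : P | z ∉ u} = order P L ^ 2 := card_off u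
        rw [h2, hn, ← pow_mul]
      rw [h1]
      refine hSu.orbit_dvd ?_
      rw [T2.orbit_off hT hx, h1]
  -- a central element
  have hSne : S ≠ ⊥ := by
    rintro rfl
    obtain ⟨x, hx⟩ := exOffP (P := P) u
    have h1 := htr x hx
    have h2 : Nat.card {z : P | z ∉ u} = order P L ^ 2 := card_off u
    have h3 : Nat.card (MulAction.orbit (⊥ : Subgroup G) x) ≤ 1 := by
      rw [Finite.card_le_one_iff_subsingleton]
      refine ⟨?_⟩
      rintro ⟨_, ⟨g, hg⟩, rfl⟩ ⟨_, ⟨h, hh⟩, rfl⟩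
      rw [Subgroup.mem_bot] at hg hh
      subst hg hh
      rfl
    rw [h1, h2] at h3
    nlinarith
  obtain ⟨z, hzS, hz1, hzp, hzc⟩ := ex_central hS.isP hSne
  have hzno : ∀ x : P, x ∉ u → z • x ≠ x := by
    intro x hx hzx
    apply hz1
    apply one_of (P := P)
    apply triv_of_off (u := u)
    intro y hy
    have h1 : y ∈ MulAction.orbit S x := by rw [htr x hx]; exact hy
    obtain ⟨⟨g, hg⟩, rfl⟩ := h1
    change z • g • x = g • x
    rw [← mul_smul, ← hzc g hg, mul_smul, hzx]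
  have hzu : z • u = u := hu z hzS
  have hzM : z • M = M := hM z hzS
  -- main claim
  have key : ∀ x : P, x ∉ u → ∀ l : L, x ∈ l → M ∈ l → z • x ∈ l := by
    intro x hx l hxl hMl
    by_contra hzx
    have hxM : x ≠ M := fun h => hx (h ▸ hMu)
    have hQ := hSu.inf_stab (x := x) (by rw [htr x hx, T2.orbit_off hT hx])
    set Q := MulAction.stabilizer G x ⊓ S with hQdef
    have hQx : ∀ g ∈ Q, g • x = x := fun g hg => hg.1
    have hQzx : ∀ g ∈ Q, g • z • x = z • x := by
      intro g hg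
      rw [← mul_smul, hzc g hg.2, mul_smul, hQx g hg]
    have hQM : ∀ g ∈ Q, g • M = M := fun g hg => hM g hg.2
    obtain ⟨k, hk1, hk2⟩ := exL0 (L := L) (Ne.symm (hzno x hx))
    have hku : k ≠ u := fun h => hx (h ▸ hk1)
    have hlu : l ≠ u := fun h => hx (h ▸ hxl)
    have hlk : l ≠ k := fun h => hzx (h ▸ hk2)
    obtain ⟨R, hR1, hR2⟩ := exP0 (P := P) hku
    have hQk : ∀ g ∈ Q, g • k = k := fun g hg => fixL (Ne.symm (hzno x hx)) (hQx g hg) (hQzx g hg) hk1 hk2
    have hQR : ∀ g ∈ Q, g • R = R := fun g hg => fixP hku (hQk g hg) (hu g hg.2) hR1 hR2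
    have hRM : R ≠ M := by
      intro h
      exact hlk (uL hxM hxl hMl hk1 (h ▸ hR1))
    have hRx : R ≠ x := fun h => hx (h ▸ hR2)
    obtain ⟨X, hX, hXx, hXM, hQX⟩ := third_fixed hpn hQ.isP hxM hxl hMl hQx hQM
    obtain ⟨Y, hY, hYx, hYR, hQY⟩ := third_fixed hpn hQ.isP (Ne.symm hRx) hk1 hR1 hQx hQR
    refine anti_not_planar hT hpn hx hQ ⟨⟨X, hQX⟩, ⟨M, hQM⟩, ⟨Y, hQY⟩, ⟨R, hQR⟩, ?_, ?_, ?_, ?_⟩
    · intro m h1 h2 h3
      have e1 : m = l := uL hXM h1 h2 hX hMl
      exact hYx (uP hlk (e1 ▸ h3) hY hxl hk1)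
    · intro m h1 h2 h3
      have e1 : m = l := uL hXM h1 h2 hX hMl
      exact hRx (uP hlk (e1 ▸ h3) hR1 hxl hk1)
    · intro m h1 h2 h3
      have e1 : m = k := uL hYR h2 h3 hY hR1
      exact hXx (uP hlk hX (e1 ▸ h1) hxl hk1)
    · intro m h1 h2 h3
      have e1 : m = k := uL hYR h2 h3 hY hR1
      exact hlk (uL hxM hxl hMl hk1 (e1 ▸ h1))
  have hce : Ce z M L := by
    intro l hl
    by_cases hlu : l = u
    · rw [hlu, hzu]
    · obtain ⟨x, hx, hxM, -⟩ := ex_third (P := P) l M M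
      have hxu : x ∉ u := fun h => hxM (uP hlu hx h hl hMu)
      exact fixL' hxM hzM hx hl (key x hxu l hx hl)
  obtain ⟨w, hw⟩ := hce.exAx
  have hwu : w = u := by
    obtain ⟨x, hx, -, -⟩ := ex_third (P := P) w M M
    obtain ⟨y, hy, hyx, -⟩ := ex_third (P := P) w x x
    have hxu : x ∈ u := by
      by_contra h; exact hzno x h (hw x hx)
    have hyu : y ∈ u := by
      by_contra h; exact hzno y h (hw y hy)
    exact uL (Ne.symm hyx) hx hy hxu hyu
  subst hwu
  exact ⟨M, w, hMu, z, hz1, hw, hce⟩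

/-- **elations in planes of even order** -/
theorem elation_even [FaithfulSMul G P] (hT : T2 G P) (hn : Even (order P L)) :
    ∃ (z : P) (w : L), Fl G z w := by
  have hpn : 2 ∣ order P L := even_iff_two_dvd.1 hn
  have hn1 := one_lt_order P L
  obtain ⟨S, hS⟩ := IsSyl.exists 2 (⊤ : Subgroup G)
  obtain ⟨u, hSu⟩ := T2.syl_line hT hpn hS
  have hu : ∀ g ∈ S, g • u = u := hSu.le
  have hSne : S ≠ ⊥ := by
    rintro rfl
    obtain ⟨x, hx⟩ := exOffP (P := P) u
    have h3 := T2.card_anti hT hx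
    have h4 := hS.ndvd
    apply h4
    have h5 : (⊥ : Subgroup G).relIndex ⊤ = Nat.card G := by
      rw [Subgroup.relIndex_top_right, Subgroup.index_bot]
    rw [h5, h3, mul_assoc, pow_two, mul_assoc]
    exact Dvd.dvd.mul_left (Dvd.dvd.mul_right hpn _) _
  obtain ⟨z, hzS, hz1, hzp, hzc⟩ := ex_central hS.isP hSne
  have hnt := not_triv (P := P) hz1
  have h2 : ∀ x : P, z • z • x = x := by
    intro x
    rw [← mul_smul, ← pow_two, hzp, one_smul]
  rcases invol (L := L) h2 hnt with ⟨w, hw⟩ | ⟨a, b, c, d, hq, h3, h4, h5, h6⟩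
  · obtain ⟨c, hc, hce⟩ := invol_even hn h2 hnt hw
    exact ⟨c, w, hc, z, hz1, hw, hce⟩
  exfalso
  -- the planar case
  have hfix : ∀ x : P, z • x = x → ∀ g ∈ (⊥ : Subgroup G) ⊔ Subgroup.zpowers z, g • x = x := by
    intro x hx
    exact fix_sup (fun g hg => by rw [Subgroup.mem_bot.1 hg, one_smul]) hx
  have hD : Planar P L ((⊥ : Subgroup G) ⊔ Subgroup.zpowers z) :=
    ⟨⟨a, hfix a h3⟩, ⟨b, hfix b h4⟩, ⟨c, hfix c h5⟩, ⟨d, hfix d h6⟩, hq⟩
  have hzD : z ∈ (⊥ : Subgroup G) ⊔ Subgroup.zpowers z :=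
    (le_sup_right : Subgroup.zpowers z ≤ _) (Subgroup.mem_zpowers z)
  have hbot : Planar P L (⊥ : Subgroup G) := hD.mono bot_le
  have hord : order P L = ord hD ^ 2 := by
    rcases ord_step (E := (⊥ : Subgroup G)) (g := z) (by
      rw [Subgroup.mem_normalizer_iff]
      intro g
      rw [Subgroup.mem_bot, Subgroup.mem_bot, mul_inv_eq_one, mul_eq_left]) (by rw [hzp]; exact one_mem _) hbot hD with h7 | h7
    · exfalso
      apply hnt
      rw [ord_bot] at h7
      have h8 := card_FP hD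
      rw [← h7, ← card_P P L] at h8
      have h9 : Function.Injective (fun x : FP P ((⊥ : Subgroup G) ⊔ Subgroup.zpowers z) => x.1) :=
        fun x y h => FP.ext h
      have h10 := (Function.Injective.bijective_of_nat_card_le h9 (le_of_eq h8.symm)).2
      intro x
      obtain ⟨y, rfl⟩ := h10 x
      exact y.2 z hzD
    · rw [← h7, ord_bot]
  -- the 2-part of the order of the subplane
  set m := ord hD with hm
  have hm1 : 1 < m := ord_gt_one hD
  have hm2 : 2 ∣ m := by
    have : 2 ∣ m ^ 2 := hord ▸ hpn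
    exact Nat.Prime.dvd_of_dvd_pow Nat.prime_two this
  obtain ⟨k, j, hj, hmk⟩ := Nat.exists_eq_pow_mul_and_not_dvd (n := m) (by omega) 2 (by norm_num)
  have hk : 1 ≤ k := by
    rcases Nat.eq_zero_or_pos k with h | h
    · exfalso
      rw [h, pow_zero, one_mul] at hmk
      exact hj (hmk ▸ hm2)
    · exact h
  have hTL : T2 G L := T2.lines L hT
  have horb : ∀ l : L, l ≠ u → 2 ^ (2 * k) ∣ Nat.card (MulAction.orbit S l) := by
    intro l hl
    refine hSu.orbit_dvd ?_
    rw [hTL.orbit_stab hl]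
    have h7 := card_ne u
    rw [card_L P L] at h7
    have h8 : Nat.card {z : L | z ≠ u} = order P L * (order P L + 1) := by
      have : order P L * (order P L + 1) = order P L ^ 2 + order P L := by ring
      omega
    rw [h8, hord, hmk]
    refine Dvd.dvd.mul_right ?_ _
    rw [mul_pow, ← pow_mul, mul_comm k 2]
    exact dvd_mul_right _ _
  have hcard := dvd_card_of_inv S {l : L | z • l = l ∧ l ≠ u} (by
    rintro g hg l ⟨h7, h8⟩
    refine ⟨?_, fun h9 => h8 (MulAction.injective g (h9.trans (hu g hg).symm))⟩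
    rw [← mul_smul, ← hzc g hg, mul_smul, h7]) (d := 2 ^ (2 * k)) (fun l hl => horb l hl.2)
  have hcount : Nat.card {l : L | z • l = l ∧ l ≠ u} = m * (m + 1) := by
    have h7 : {l : L | z • l = l ∧ l ≠ u} = {l : L | z • l = l} \ {u} := by
      ext l; simp
    have h0 : u ∈ {l : L | z • l = l} := hu z hzS
    rw [Nat.card_coe_set_eq, h7, Set.ncard_sdiff_singleton_of_mem h0, ← Nat.card_coe_set_eq]
    have h8 : Nat.card {l : L | z • l = l} = m ^ 2 + m + 1 := by
      rw [← card_FP hD]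
      have h9 := card_fix_eq (P := P) (L := L) z
      change Nat.card {l : L // z • l = l} = _
      rw [← h9]
      exact Nat.card_congr ⟨fun x => ⟨x.1, hfix x.1 x.2⟩, fun x => ⟨x.1, x.2 z hzD⟩, fun _ => rfl, fun _ => rfl⟩
    rw [h8, Nat.add_sub_cancel]
    ring
  rw [hcount] at hcard
  have hodd : Nat.Coprime (2 ^ (2 * k)) (m + 1) := by
    apply Nat.Coprime.pow_left
    rw [Nat.Prime.coprime_iff_not_dvd Nat.prime_two]
    omega
  have h7 : 2 ^ (2 * k) ∣ m := Nat.Coprime.dvd_of_dvd_mul_right hodd hcard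
  have h8 : 2 ^ (k + 1) ∣ m := (pow_dvd_pow 2 (by omega)).trans h7
  apply hj
  rw [hmk, pow_succ] at h8
  exact Nat.dvd_of_mul_dvd_mul_left (by positivity) h8

theorem ex_elation [FaithfulSMul G P] (hT : T2 G P) : ∃ (z : P) (w : L), Fl G z w := by
  rcases Nat.even_or_odd (order P L) with h | h
  · exact elation_even hT h
  · obtain ⟨p, k, hp, hk⟩ := primePow_odd hT h
    exact elation_p hT hp hk

end Pl

end Cfsg.Agent.H985
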