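import Cfsg.Agent.H985.Points
import Cfsg.Agent.H985.AlgField

/-!
# Doubly transitive planes have coordinates in a field, S3732, helper985
-/

set_option autoImplicit false
set_option linter.unusedSectionVars false

namespace Cfsg.Agent.H985.Pl

open Configuration Configuration.ProjectivePlane

variable {G P L : Type*} [Group G] [Membership P L] [MulAction G P] [MulAction G L]
variable [Act G P L] [ProjectivePlane P L] [Finite P] [Finite L] [Finite G] [FaithfulSMul G P]

/-- the commutative group structure -/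
@[reducible] def commPg (hT : T2 G P) {z : P} {w : L} (hz : z ∈ w) : CommGroup (Pg G z w) :=
  { (inferInstance : Group (Pg G z w)) with
    mul_comm := fun a b => Subtype.ext (comm_axis hT hz hz a.2 b.2) }

/-- **the plane has coordinates in a field** -/
theorem desargues_coords (hT : T2 G P) :
    ∃ (F : Type) (_ : Field F) (_ : Fintype F) (e : P ≃ (F × F) ⊕ (F ⊕ Unit)), ∀ l : L,
      (∃ m b : F, ∀ p : P, p ∈ l ↔ ((∃ x, e p = Sum.inl (x, m * x + b)) ∨ e p = Sum.inr (Sum.inl m))) ∨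
      (∃ a : F, ∀ p : P, p ∈ l ↔ ((∃ y, e p = Sum.inl (a, y)) ∨ e p = Sum.inr (Sum.inr ()))) ∨
      (∀ p : P, p ∈ l ↔ ((∃ m, e p = Sum.inr (Sum.inl m)) ∨ e p = Sum.inr (Sum.inr ()))) := by
  -- the frame
  obtain ⟨l, -⟩ : ∃ l : L, True := by
    obtain ⟨a, b, c, d, -⟩ := ex_quad P L
    obtain ⟨l, -⟩ := exL L a b
    exact ⟨l, trivial⟩
  obtain ⟨O, hOl⟩ := exOffP (P := P) l
  obtain ⟨Y, hY⟩ := ex_on P l
  obtain ⟨X, hX, hXY⟩ := ex_on_ne (P := P) l Y
  have hOY : O ≠ Y := fun h => hOl (h ▸ hY)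
  obtain ⟨k, hOk, hYk⟩ := exL0 (L := L) hOY
  have hkl : k ≠ l := fun h => hOl (h ▸ hOk)
  let iA : CommGroup (Pg G X l) := commPg hT hX
  let iB : CommGroup (Pg G Y l) := commPg hT hY
  let iC : CommGroup (Pg G Y k) := commPg hT hYk
  have hN : Nontrivial (Pg G Y l) := by
    obtain ⟨g, hg, hg1⟩ := nontriv_Pg hT hY
    exact ⟨⟨g, hg⟩, 1, fun h => hg1 (congrArg Subtype.val h)⟩
  have hN' : Nontrivial (Additive (Pg G Y l)) := hN
  let m : Additive (Pg G Y k) →+ Additive (Pg G X l) →+ Additive (Pg G Y l) :=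
    AddMonoidHom.mk' (fun s => AddMonoidHom.mk' (fun a => Additive.ofMul
      ⟨s.toMul.1 * a.toMul.1 * (s.toMul.1)⁻¹ * (a.toMul.1)⁻¹, comm_mem hY hYk s.toMul.2 a.toMul.2⟩) (by
        intro a a'
        apply Subtype.ext
        exact comm_mulR hT hX hY hYk s.toMul.2 a.toMul.2 a'.toMul.2)) (by
      intro s s'
      apply DFunLike.ext
      intro a
      exact Subtype.ext (comm_mulL hT hY hYk s.toMul.2 s'.toMul.2 a.toMul.2))
  have hcard : ∀ {z : P} {w : L}, z ∈ w → Nat.card (Additive (Pg G z w)) = order P L := fun hz => card_Pg_all hT hz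
  obtain ⟨F, i1, i2, α, β, γ, h1, h2⟩ := alg_field m ((hcard hX).trans (hcard hY).symm)
    ((hcard hYk).trans (hcard hY).symm) (by
      intro s a h
      have h3 : s.toMul.1 * a.toMul.1 * (s.toMul.1)⁻¹ * (a.toMul.1)⁻¹ = 1 :=
        congrArg (fun t : Additive (Pg G Y l) => t.toMul.1) h
      rcases comm_nd hXY hX hY hYk hkl s.toMul.2 a.toMul.2 h3 with h4 | h4
      · exact Or.inl (Subtype.ext h4)
      · exact Or.inr (Subtype.ext h4)) (by
      intro s₁ s₂ h3 h4
      rcases comm_gl hT hXY hX hY hYk hkl s₁.toMul.2 s₂.toMul.2 (fun h => h3 (Subtype.ext h))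
        (fun h => h4 (Subtype.ext h)) with h5 | ⟨s₃, hs₃, h5, h6⟩
      · left
        intro a₁ a₂ h6
        exact Subtype.ext (h5 a₁.toMul.1 a₁.toMul.2 a₂.toMul.1 a₂.toMul.2
          (congrArg (fun t : Additive (Pg G Y l) => t.toMul.1) h6))
      · right
        refine ⟨Additive.ofMul ⟨s₃, hs₃⟩, fun h => h5 (congrArg (fun t : Additive (Pg G Y k) => t.toMul.1) h), ?_⟩
        intro a₁ a₂ h7
        exact Subtype.ext (h6 a₁.toMul.1 a₁.toMul.2 a₂.toMul.1 a₂.toMul.2
          (congrArg (fun t : Additive (Pg G Y l) => t.toMul.1) h7))) (by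
      intro a₁ a₂ h3 h4
      rcases comm_gl' hT hXY hX hY hYk hkl a₁.toMul.2 a₂.toMul.2 (fun h => h3 (Subtype.ext h))
        (fun h => h4 (Subtype.ext h)) with h5 | ⟨a₃, ha₃, h5, h6⟩
      · left
        intro s₁ s₂ h6
        exact Subtype.ext (h5 s₁.toMul.1 s₁.toMul.2 s₂.toMul.1 s₂.toMul.2
          (congrArg (fun t : Additive (Pg G Y l) => t.toMul.1) h6))
      · right
        refine ⟨Additive.ofMul ⟨a₃, ha₃⟩, fun h => h5 (congrArg (fun t : Additive (Pg G X l) => t.toMul.1) h), ?_⟩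
        intro s₁ s₂ h7
        exact Subtype.ext (h6 s₁.toMul.1 s₁.toMul.2 s₂.toMul.1 s₂.toMul.2
          (congrArg (fun t : Additive (Pg G Y l) => t.toMul.1) h7)))
  refine ⟨F, i1, i2, exists_coords (k := k) (O := O) (Additive.ofMul.trans α) (Additive.ofMul.trans β)
    (Additive.ofMul.trans γ) hXY hX hY hYk hOk hOl hT ?_ ?_⟩
  · intro b b'
    exact h1 (Additive.ofMul b) (Additive.ofMul b')
  · intro s a
    exact h2 (Additive.ofMul s) (Additive.ofMul a)

end Cfsg.Agent.H985.Pl
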