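import Cfsg.Agent.H985.Elat

/-!
# All elations (Gleason), S3732, helper985
-/

set_option autoImplicit false
set_option linter.unusedSectionVars false

namespace Cfsg.Agent.H985.Pl

open Configuration Configuration.ProjectivePlane

variable {G P L : Type*} [Group G] [Membership P L] [MulAction G P] [MulAction G L]
variable [Act G P L] [ProjectivePlane P L] [Finite P] [Finite L] [Finite G] [FaithfulSMul G P]

theorem card_Pg_conj (z : P) (w : L) (g : G) : Nat.card (Pg G z w) = Nat.card (Pg G (g • z) (g • w)) := by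
  refine Nat.card_congr ⟨fun x => ⟨g * x.1 * g⁻¹, x.2.1.conj g, x.2.2.conj g⟩,
    fun x => ⟨g⁻¹ * x.1 * g, ?_⟩, fun x => ?_, fun x => ?_⟩
  · have h1 := x.2.1.conj g⁻¹
    have h2 := x.2.2.conj g⁻¹
    rw [inv_smul_smul, inv_inv] at h1 h2
    exact ⟨h1, h2⟩
  · apply Subtype.ext
    change g⁻¹ * (g * x.1 * g⁻¹) * g = x.1
    group
  · apply Subtype.ext
    change g * (g⁻¹ * x.1 * g) * g⁻¹ = x.1
    group

theorem gleason_arith {n h e : ℕ} (hn : 1 < n) (hh : 1 < h) (h1 : h ∣ n) (h2 : e ∣ n ^ 2)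
    (he : (n + 1) * (h - 1) = e - 1) (he0 : 0 < e) : h = n := by
  obtain ⟨t, ht⟩ := h1
  obtain ⟨f, hf⟩ := h2
  obtain ⟨h', rfl⟩ : ∃ h', h = h' + 1 := ⟨h - 1, by omega⟩
  obtain ⟨e', rfl⟩ : ∃ e', e = e' + 1 := ⟨e - 1, by omega⟩
  simp only [Nat.add_sub_cancel] at he
  subst he
  have hh' : 1 ≤ h' := by omega
  -- f ≡ 1 mod (n+1)
  have hf0 : 1 ≤ f := by
    rcases Nat.eq_zero_or_pos f with h | h
    · rw [h, mul_zero] at hf; nlinarith
    · exact h
  have hf1 : f = 1 := by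
    by_contra hne
    have hf2 : 2 ≤ f := by omega
    -- n² = (1 + (n+1) h') f  ⇒ (n+1) ∣ f - 1
    have h3 : (n + 1) ∣ (f - 1) := by
      obtain ⟨f', rfl⟩ : ∃ f', f = f' + 1 := ⟨f - 1, by omega⟩
      simp only [Nat.add_sub_cancel]
      have h4 : (n + 1) * (n - 1) = (n + 1) * (h' * (f' + 1)) + f' := by
        obtain ⟨n', rfl⟩ : ∃ n', n = n' + 1 := ⟨n - 1, by omega⟩
        simp only [Nat.add_sub_cancel]
        nlinarith
      exact (Nat.dvd_add_right (dvd_mul_right _ _)).1 (h4 ▸ dvd_mul_right _ _)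
    have h5 := Nat.le_of_dvd (by omega) h3
    have h6 : n + 2 ≤ f := by omega
    have h7 : (n + 2) * (n + 2) ≤ n ^ 2 := by
      rw [hf]
      exact Nat.mul_le_mul (by nlinarith) h6
    nlinarith
  subst hf1
  nlinarith

/-- all elation groups are as large as possible -/
theorem card_Pg_all (hT : T2 G P) {z : P} {w : L} (hz : z ∈ w) : Nat.card (Pg G z w) = order P L := by
  classical
  have hconst : ∀ (y : P) (u : L), y ∈ u → Nat.card (Pg G y u) = Nat.card (Pg G z w) := by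
    intro y u hy
    obtain ⟨g, hg1, hg2⟩ := T2.flag hT hy hz
    rw [card_Pg_conj y u g, hg1, hg2]
  obtain ⟨y, u, hyu, g, hg1, hga, hgc⟩ := ex_elation (G := G) (P := P) (L := L) hT
  have h1 : 1 < Nat.card (Pg G z w) := by
    rw [← hconst y u hyu]
    refine Finite.one_lt_card_iff_nontrivial.2 ⟨⟨⟨g, hga, hgc⟩, 1, fun h => hg1 (congrArg Subtype.val h)⟩⟩
  have F : Fintype {z : P // z ∈ w} := Fintype.ofFinite _
  have h2 := card_El_sum (G := G) w F
  have h3 : ∑ z' : {z : P // z ∈ w}, (Nat.card (Pg G z'.1 w) - 1) = (order P L + 1) * (Nat.card (Pg G z w) - 1) := by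
    rw [Finset.sum_congr rfl (fun z' _ => by rw [hconst z'.1 w z'.2]), Finset.sum_const, smul_eq_mul,
      Finset.card_univ, ← Nat.card_eq_fintype_card, card_pts]
  rw [h3] at h2
  exact gleason_arith (one_lt_order P L) h1 (card_Pg_dvd G hz) (card_El_dvd G w) h2 Nat.card_pos

/-- `(z, w)`-transitivity -/
theorem Pg_trans (hT : T2 G P) {z : P} {w : L} (hz : z ∈ w) {l : L} {x y : P} (hzl : z ∈ l) (hlw : l ≠ w) (hx : x ∈ l)
    (hy : y ∈ l) (hxz : x ≠ z) (hyz : y ≠ z) : ∃ g ∈ Pg G z w, g • x = y := by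
  classical
  have hxw : x ∉ w := fun h => hxz (uP hlw hx h hzl hz)
  let f : Pg G z w → {p : P // p ∈ l ∧ p ≠ z} := fun g => ⟨g.1 • x, by
    have h1 := mem_smul g.1 hx
    rwa [g.2.2 l hzl] at h1, fun h => hxz (MulAction.injective g.1 (h.trans (g.2.1 z hz).symm))⟩
  have hinj : Function.Injective f := by
    intro g h hgh
    exact Subtype.ext (El_eq (Pg_le_El hz g.2) (Pg_le_El hz h.2) hxw (congrArg Subtype.val hgh))
  have hcard : Nat.card {p : P // p ∈ l ∧ p ≠ z} ≤ Nat.card (Pg G z w) := by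
    rw [card_Pg_all hT hz, card_pts_ne hzl]
  obtain ⟨g, hg⟩ := (Function.Injective.bijective_of_nat_card_le hinj hcard).2 ⟨y, hy, hyz⟩
  exact ⟨g.1, g.2, congrArg Subtype.val hg⟩

/-- transitivity on the lines through a point of the axis -/
theorem Pg_transL (hT : T2 G P) {z : P} {w : L} (hz : z ∈ w) {q : P} {l m : L} (hqw : q ∈ w) (hqz : q ≠ z) (hl : q ∈ l)
    (hm : q ∈ m) (hlw : l ≠ w) (hmw : m ≠ w) : ∃ g ∈ Pg G z w, g • l = m := by
  obtain ⟨k, hk, hkw, -⟩ := ex_thirdL z w w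
  have hkq : q ∉ k := fun h => hkw (uL hqz h hk hqw hz)
  have hkl : k ≠ l := fun h => hkq (h ▸ hl)
  have hkm : k ≠ m := fun h => hkq (h ▸ hm)
  obtain ⟨x, hx1, hx2⟩ := exP0 (P := P) hkl
  obtain ⟨y, hy1, hy2⟩ := exP0 (P := P) hkm
  have hxz : x ≠ z := fun h => hlw (uL (Ne.symm hqz) (h ▸ hx2) hl hz hqw)
  have hyz : y ≠ z := fun h => hmw (uL (Ne.symm hqz) (h ▸ hy2) hm hz hqw)
  obtain ⟨g, hg, hgx⟩ := Pg_trans hT hz hk hkw hx1 hy1 hxz hyz
  refine ⟨g, hg, uL (p := y) (q := q) (fun h => hkq (h ▸ hy1)) ?_ ?_ hy2 hm⟩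
  · rw [← hgx]; exact mem_smul g hx2
  · have := mem_smul g hl; rwa [hg.1 q hqw] at this

end Cfsg.Agent.H985.Pl
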