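import Cfsg.Agent.H985.Persp

/-!
# Involutions of finite projective planes (S3732, helper985)

`invol` : an involutory collineation fixes a quadrangle or all points of a line.
-/

set_option autoImplicit false
set_option linter.unusedSectionVars false

namespace Cfsg.Agent.H985.Pl

open Configuration Configuration.ProjectivePlane

/-- no three of the four points are collinear -/
def Quad {P : Type*} (L : Type*) [Membership P L] (a b c d : P) : Prop :=
  (∀ l : L, a ∈ l → b ∈ l → c ∉ l) ∧ (∀ l : L, a ∈ l → b ∈ l → d ∉ l) ∧ (∀ l : L, a ∈ l → c ∈ l → d ∉ l) ∧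
    (∀ l : L, b ∈ l → c ∈ l → d ∉ l)

section

variable {P L : Type*} [Membership P L] [ProjectivePlane P L]

theorem Quad.ne {a b c d : P} (h : Quad L a b c d) :
    a ≠ b ∧ a ≠ c ∧ a ≠ d ∧ b ≠ c ∧ b ≠ d ∧ c ≠ d := by
  obtain ⟨h1, h2, h3, h4⟩ := h
  refine ⟨?_, ?_, ?_, ?_, ?_, ?_⟩
  · rintro rfl
    obtain ⟨l, hl1, hl2⟩ := exL L a c
    exact h1 l hl1 hl1 hl2
  · rintro rfl
    obtain ⟨l, hl1, hl2⟩ := exL L a b
    exact h1 l hl1 hl2 hl1
  · rintro rfl
    obtain ⟨l, hl1, hl2⟩ := exL L a b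
    exact h2 l hl1 hl2 hl1
  · rintro rfl
    obtain ⟨l, hl1, hl2⟩ := exL L a b
    exact h1 l hl1 hl2 hl2
  · rintro rfl
    obtain ⟨l, hl1, hl2⟩ := exL L a b
    exact h2 l hl1 hl2 hl2
  · rintro rfl
    obtain ⟨l, hl1, hl2⟩ := exL L a c
    exact h3 l hl1 hl2 hl2

end

/-- there is a quadrangle -/
theorem ex_quad (P L : Type*) [Membership P L] [ProjectivePlane P L] [Finite P] [Finite L] :
    ∃ a b c d : P, Quad L a b c d := by
  obtain ⟨a, -⟩ := exOffP (P := P) (L := L) (Classical.choice ⟨(exists_config (P := P) (L := L)).choose_spec.choose_spec.choose_spec.choose⟩)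
  obtain ⟨l, hl⟩ := exOffL (L := L) a
  obtain ⟨b, hb, -⟩ := ex_third (P := P) l a a
  obtain ⟨c, hc, hcb, -⟩ := ex_third (P := P) l b b
  have hab : a ≠ b := fun h => hl (h ▸ hb)
  have hac : a ≠ c := fun h => hl (h ▸ hc)
  obtain ⟨m, hm1, hm2⟩ := exL0 (L := L) hab
  obtain ⟨k, hk1, hk2⟩ := exL0 (L := L) hac
  have hmk : m ≠ k := by
    intro h
    have : m = l := uL (Ne.symm hcb) hm2 (h ▸ hk2) hb hc
    exact hl (this ▸ hm1)
  obtain ⟨d, hd, hda, hdc⟩ := ex_third (P := P) k a c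
  obtain ⟨e, he, hea, heb⟩ := ex_third (P := P) m a b
  -- the quadrangle `b, c, d, e`
  have hml : m ≠ l := fun h => hl (h ▸ hm1)
  have hkl : k ≠ l := fun h => hl (h ▸ hk1)
  have hbk : b ∉ k := fun h => hkl (uL (Ne.symm hcb) h hk2 hb hc)
  have hcm : c ∉ m := fun h => hml (uL (Ne.symm hcb) hm2 h hb hc)
  have hdm : d ∉ m := fun h => hmk (uL hda h hm1 hd hk1)
  have hek : e ∉ k := fun h => hmk (uL hea he hm1 h hk1)
  have hdl : d ∉ l := fun h => hkl (uL hdc hd hk2 h hc)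
  have hel : e ∉ l := fun h => hml (uL heb he hm2 h hb)
  refine ⟨b, c, d, e, ?_, ?_, ?_, ?_⟩
  · intro x h1 h2 h3
    exact hdl ((uL (Ne.symm hcb) h1 h2 hb hc) ▸ h3)
  · intro x h1 h2 h3
    exact hel ((uL (Ne.symm hcb) h1 h2 hb hc) ▸ h3)
  · intro x h1 h2 h3
    exact hdm ((uL heb h3 h1 he hm2) ▸ h2)
  · intro x h1 h2 h3
    exact hek ((uL hdc h2 h1 hd hk2) ▸ h3)

variable {G P L : Type*} [Group G] [Membership P L] [MulAction G P] [MulAction G L]
variable [Act G P L] [ProjectivePlane P L]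

/-- the line `p ∨ gp` is fixed by an involution -/
theorem inv_line {g : G} {p : P} {l : L} (h2 : g • g • p = p) (hp : g • p ≠ p) (h1 : p ∈ l) (h3 : g • p ∈ l) :
    g • l = l := by
  refine uL hp (mem_smul g h1) ?_ h3 h1
  have := mem_smul g h3
  rwa [h2] at this

theorem inv_point {g : G} {p : P} {l : L} (h2 : g • g • l = l) (hl : g • l ≠ l) (h1 : p ∈ l) (h3 : p ∈ g • l) :
    g • p = p :=
  inv_line (P := Dual L) (L := Dual P) (p := l) (l := p) h2 hl h1 h3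

theorem invol_lines {g : G} (h2 : ∀ p : P, g • g • p = p) (l : L) : g • g • l = l := by
  rw [← mul_smul]
  exact triv_lines (P := P) (fun p => by rw [mul_smul, h2]) l

variable [Finite P] [Finite L]

/-- the number of fixed points off a fixed line with a non-fixed point -/
theorem card_fix_off {g : G} (h2 : ∀ p : P, g • g • p = p) {x : P} {f : L} (hx : g • x ≠ x) (hxf : x ∈ f)
    (hf : g • f = f) : Nat.card {y : P // g • y = y ∧ y ∉ f} = order P L := by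
  rw [← card_lns_ne (P := P) (L := L) hxf]
  have hm : ∀ m : L, x ∈ m → m ≠ f → g • m ≠ m := fun m h1 h3 h4 => hx (fixP h3 h4 hf h1 hxf)
  have hy : ∀ m : L, x ∈ m → m ≠ f → ∃ y : P, (y ∈ m ∧ y ∈ g • m) ∧ g • y = y ∧ y ∉ f := by
    intro m h1 h3
    obtain ⟨y, hy1, hy2⟩ := exP0 (P := P) (hm m h1 h3)
    have hgy : g • y = y := inv_point (invol_lines h2 m) (hm m h1 h3) hy2 hy1
    refine ⟨y, ⟨hy2, hy1⟩, hgy, fun h4 => ?_⟩
    have : y = x := uP h3 hy2 h4 h1 hxf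
    exact hx (this ▸ hgy)
  choose φ hφ1 hφ2 using hy
  symm
  refine Nat.card_congr (Equiv.ofBijective (fun m => ⟨φ m.1 m.2.1 m.2.2, hφ2 m.1 m.2.1 m.2.2⟩) ⟨?_, ?_⟩)
  · rintro ⟨m, m1, m2⟩ ⟨k, k1, k2⟩ h
    have h' : φ m m1 m2 = φ k k1 k2 := congrArg Subtype.val h
    apply Subtype.ext
    change m = k
    have hne : φ m m1 m2 ≠ x := fun h3 => hx (h3 ▸ (hφ2 m m1 m2).1)
    exact uL hne (hφ1 m m1 m2).1 m1 (h' ▸ (hφ1 k k1 k2).1) k1
  · rintro ⟨y, y1, y2⟩
    have hxy : x ≠ y := fun h3 => hx (h3 ▸ y1)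
    obtain ⟨m, m1, m2⟩ := exL0 (L := L) hxy
    have hmf : m ≠ f := fun h3 => y2 (h3 ▸ m2)
    refine ⟨⟨m, m1, hmf⟩, Subtype.ext ?_⟩
    change φ m m1 hmf = y
    have h4 := hφ1 m m1 hmf
    have h5 : y ∈ g • m := by have := mem_smul g m2; rwa [y1] at this
    exact uP (hm m m1 hmf) h4.2 h4.1 h5 m2

/-- an involution fixes all points of a line or a quadrangle -/
theorem invol {g : G} (h2 : ∀ p : P, g • g • p = p) (hnt : ¬ ∀ p : P, g • p = p) :
    (∃ a : L, Ax g a P) ∨ ∃ a b c d : P, Quad L a b c d ∧ g • a = a ∧ g • b = b ∧ g • c = c ∧ g • d = d := by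
  classical
  by_cases hax : ∃ a : L, Ax g a P
  · exact Or.inl hax
  right
  push Not at hnt
  obtain ⟨x, hx⟩ := hnt
  obtain ⟨f, hxf, hgf⟩ := exL L x (g • x)
  have hf := inv_line (h2 x) hx hxf hgf
  have hY := card_fix_off (L := L) h2 hx hxf hf
  have h1n := one_lt_order P L
  -- two fixed points off `f`
  have : Nontrivial {y : P // g • y = y ∧ y ∉ f} := Finite.one_lt_card_iff_nontrivial.1 (by rw [hY]; exact h1n)
  obtain ⟨⟨y1, a1, a2⟩, ⟨y2, b1, b2⟩, hne⟩ := exists_pair_ne {y : P // g • y = y ∧ y ∉ f}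
  have h12 : y1 ≠ y2 := fun h => hne (Subtype.ext h)
  obtain ⟨h, hh1, hh2⟩ := exL0 (L := L) h12
  have hgh : g • h = h := fixL h12 a1 b1 hh1 hh2
  have hhf : h ≠ f := fun h3 => a2 (h3 ▸ hh1)
  obtain ⟨r, hr1, hr2⟩ := exP0 (P := P) hhf
  have hgr : g • r = r := fixP hhf hgh hf hr1 hr2
  -- a fixed point off `f` and `h`
  have hex : ∃ y3 : P, g • y3 = y3 ∧ y3 ∉ f ∧ y3 ∉ h := by
    by_contra hno
    push Not at hno
    apply hax
    refine ⟨h, fun p hp => ?_⟩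
    by_cases hpr : p = r
    · rw [hpr, hgr]
    -- compare the cardinalities
    have hcard := card_pts_ne (P := P) hr1
    have : Finite {p : P // p ∈ h ∧ p ≠ r} := inferInstance
    have hinj : Function.Injective (fun y : {y : P // g • y = y ∧ y ∉ f} =>
        (⟨y.1, hno y.1 y.2.1 y.2.2, fun h3 => y.2.2 (h3 ▸ hr2)⟩ : {p : P // p ∈ h ∧ p ≠ r})) := by
      intro y z hyz
      exact Subtype.ext (congrArg (fun t : {p : P // p ∈ h ∧ p ≠ r} => t.1) hyz)
    have hsur := (Function.Injective.bijective_of_nat_card_le hinj (by rw [hcard, hY])).2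
    obtain ⟨y, hy⟩ := hsur ⟨p, hp, hpr⟩
    have : y.1 = p := congrArg Subtype.val hy
    rw [← this]; exact y.2.1
  obtain ⟨y3, c1, c2, c3⟩ := hex
  have h13 : y1 ≠ y3 := fun h3 => c3 (h3 ▸ hh1)
  have h23 : y2 ≠ y3 := fun h3 => c3 (h3 ▸ hh2)
  obtain ⟨k, hk1, hk3⟩ := exL0 (L := L) h13
  obtain ⟨m, hm2, hm3⟩ := exL0 (L := L) h23
  have hkf : k ≠ f := fun h3 => a2 (h3 ▸ hk1)
  have hmf : m ≠ f := fun h3 => b2 (h3 ▸ hm2)
  obtain ⟨s, hs1, hs2⟩ := exP0 (P := P) hkf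
  obtain ⟨t, ht1, ht2⟩ := exP0 (P := P) hmf
  have hgk : g • k = k := fixL h13 a1 c1 hk1 hk3
  have hgm : g • m = m := fixL h23 b1 c1 hm2 hm3
  have hkh : k ≠ h := fun h3 => c3 (h3 ▸ hk3)
  have hmh : m ≠ h := fun h3 => c3 (h3 ▸ hm3)
  have hkm : k ≠ m := fun h3 => by
    have := uL h12 hk1 (h3 ▸ hm2) hh1 hh2
    exact hkh this
  have hs1' : s ≠ y1 := fun h3 => a2 (h3 ▸ hs2)
  have ht1' : t ≠ y2 := fun h3 => b2 (h3 ▸ ht2)
  have hst : s ≠ t := fun h3 => by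
    have h4 : s = y3 := uP hkm hs1 (h3 ▸ ht1) hk3 hm3
    exact c2 (h4 ▸ hs2)
  refine ⟨y1, y2, s, t, ⟨?_, ?_, ?_, ?_⟩, a1, b1, fixP hkf hgk hf hs1 hs2, fixP hmf hgm hf ht1 ht2⟩
  · intro l l1 l2 l3
    have e1 : l = h := uL h12 l1 l2 hh1 hh2
    have e2 : l = k := uL hs1' l3 l1 hs1 hk1
    exact hkh (e2.symm.trans e1)
  · intro l l1 l2 l3
    have e1 : l = h := uL h12 l1 l2 hh1 hh2
    have e2 : l = m := uL ht1' l3 l2 ht1 hm2
    exact hmh (e2.symm.trans e1)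
  · intro l l1 l2 l3
    have e1 : l = k := uL hs1' l2 l1 hs1 hk1
    have e2 : l = f := uL hst l2 l3 hs2 ht2
    exact hkf (e1.symm.trans e2)
  · intro l l1 l2 l3
    have e1 : l = m := uL ht1' l3 l1 ht1 hm2
    have e2 : l = f := uL hst l2 l3 hs2 ht2
    exact hmf (e1.symm.trans e2)

variable (L) in
include L in
/-- an involution fixes two points -/
theorem invol_two {g : G} (h2 : ∀ p : P, g • g • p = p) (hnt : ¬ ∀ p : P, g • p = p) :
    ∃ x y : P, x ≠ y ∧ g • x = x ∧ g • y = y := by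
  rcases invol (L := L) h2 hnt with ⟨a, ha⟩ | ⟨a, b, c, d, hq, h3, h4, -, -⟩
  · obtain ⟨x, hx, -, -⟩ := ex_third (P := P) a (exOffP (P := P) a).choose (exOffP (P := P) a).choose
    obtain ⟨y, hy, hyx, -⟩ := ex_third a x x
    exact ⟨x, y, Ne.symm hyx, ha x hx, ha y hy⟩
  · exact ⟨a, b, hq.ne.1, h3, h4⟩

/-- an involution with an axis, odd order: a homology -/
theorem invol_odd {g : G} (hodd : Odd (order P L)) (h2 : ∀ p : P, g • g • p = p) {a : L} (ha : Ax g a P) :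
    ∃ c : P, c ∉ a ∧ Ce g c L := by
  classical
  have := Fintype.ofFinite {p : P // p ∉ a}
  have hmap : ∀ p : P, p ∉ a → g • p ∉ a := by
    intro p hp h1
    have h3 := mem_smul g h1
    rw [h2, ha.fix] at h3
    exact hp h3
  let σ : Equiv.Perm {p : P // p ∉ a} :=
    { toFun := fun p => ⟨g • p.1, hmap p.1 p.2⟩
      invFun := fun p => ⟨g • p.1, hmap p.1 p.2⟩
      left_inv := fun p => Subtype.ext (h2 p.1)
      right_inv := fun p => Subtype.ext (h2 p.1) }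
  obtain ⟨c, hc⟩ := Equiv.Perm.exists_fixed_point_of_prime (α := {p : P // p ∉ a}) (p := 2) (n := 1) (by
    rw [← Nat.card_eq_fintype_card, card_off]
    intro h
    exact (Nat.not_even_iff_odd.2 (hodd.pow)) (even_iff_two_dvd.2 h)) (σ := σ) (by
      ext1 z
      rw [pow_one, pow_two]
      exact Subtype.ext (h2 z.1))
  exact ⟨c.1, c.2, ha.ce (congrArg Subtype.val hc) c.2⟩

/-- an involution with an axis, even order: an elation -/
theorem invol_even {g : G} (heven : Even (order P L)) (h2 : ∀ p : P, g • g • p = p)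
    (hnt : ¬ ∀ p : P, g • p = p) {a : L} (ha : Ax g a P) : ∃ z : P, z ∈ a ∧ Ce g z L := by
  classical
  obtain ⟨z, hz⟩ := ha.exCe
  by_cases hza : z ∈ a
  · exact ⟨z, hza, hz⟩
  exfalso
  -- the points off `a` different from `z`
  have hmap : ∀ p : P, (p ∉ a ∧ p ≠ z) → (g • p ∉ a ∧ g • p ≠ z) := by
    rintro p ⟨hp, hpz⟩
    refine ⟨fun h1 => ?_, fun h1 => ?_⟩
    · have h3 := mem_smul g h1
      rw [h2, ha.fix] at h3
      exact hp h3
    · exact hpz (MulAction.injective g (h1.trans hz.fix.symm))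
  have hfin : Finite {p : P // p ∉ a ∧ p ≠ z} := inferInstance
  have := Fintype.ofFinite {p : P // p ∉ a ∧ p ≠ z}
  let σ : Equiv.Perm {p : P // p ∉ a ∧ p ≠ z} :=
    { toFun := fun p => ⟨g • p.1, hmap p.1 p.2⟩
      invFun := fun p => ⟨g • p.1, hmap p.1 p.2⟩
      left_inv := fun p => Subtype.ext (h2 p.1)
      right_inv := fun p => Subtype.ext (h2 p.1) }
  have hcard : Nat.card {p : P // p ∉ a ∧ p ≠ z} + 1 = order P L ^ 2 := by
    rw [← card_off (P := P) a]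
    have h3 : Nat.card {p : {p : P // p ∉ a} // p = ⟨z, hza⟩} +
        Nat.card {p : {p : P // p ∉ a} // ¬ (p = ⟨z, hza⟩)} = Nat.card {p : P // p ∉ a} := by
      rw [← Nat.card_sum]
      exact Nat.card_congr (Equiv.sumCompl _)
    have h4 : Nat.card {p : {p : P // p ∉ a} // p = ⟨z, hza⟩} = 1 := by
      rw [Nat.card_eq_one_iff_unique]
      exact ⟨⟨fun a b => Subtype.ext (a.2.trans b.2.symm)⟩, ⟨⟨_, rfl⟩⟩⟩
    have h5 : Nat.card {p : P // p ∉ a ∧ p ≠ z} = Nat.card {p : {p : P // p ∉ a} // ¬ (p = ⟨z, hza⟩)} :=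
      Nat.card_congr ⟨fun p => ⟨⟨p.1, p.2.1⟩, fun h => p.2.2 (congrArg Subtype.val h)⟩,
        fun p => ⟨p.1.1, p.1.2, fun h => p.2 (Subtype.ext h)⟩, fun _ => rfl, fun _ => rfl⟩
    omega
  obtain ⟨c, hc⟩ := Equiv.Perm.exists_fixed_point_of_prime (α := {p : P // p ∉ a ∧ p ≠ z}) (p := 2) (n := 1) (by
    rw [← Nat.card_eq_fintype_card]
    intro h
    obtain ⟨k, hk⟩ := h
    have h6 : Even (order P L ^ 2) := heven.pow_of_ne_zero (by norm_num)
    obtain ⟨j, hj⟩ := h6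
    omega) (σ := σ) (by
      ext1 z
      rw [pow_one, pow_two]
      exact Subtype.ext (h2 z.1))
  have hcc : g • c.1 = c.1 := congrArg Subtype.val hc
  rcases fixpt ha hz hnt hcc with h3 | h3
  · exact c.2.1 h3
  · exact c.2.2 h3

end Cfsg.Agent.H985.Pl
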