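import Mathlib

/-!
# Sylow subgroups of subgroups (S3732, helper985)
-/

set_option autoImplicit false
set_option linter.unusedSectionVars false

namespace Cfsg.Agent.H985

open scoped Pointwise

variable {G : Type*} [Group G] [Finite G] {p : ℕ} [Fact p.Prime]

/-- `D` is a Sylow subgroup of `K` -/
structure IsSyl (p : ℕ) (D K : Subgroup G) : Prop where
  isP : IsPGroup p D
  le : D ≤ K
  ndvd : ¬ p ∣ D.relIndex K

theorem card_eq_relIndex {D K : Subgroup G} (h : D ≤ K) : Nat.card K = Nat.card D * D.relIndex K := by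
  have := Subgroup.card_mul_index (D.subgroupOf K)
  rw [Nat.card_congr (Subgroup.subgroupOfEquivOfLe h).toEquiv] at this
  exact this.symm

theorem isP_subgroupOf {D K : Subgroup G} (hD : IsPGroup p D) : IsPGroup p (D.subgroupOf K) :=
  hD.comap_subtype

variable (p) in
theorem IsSyl.exists (K : Subgroup G) : ∃ D, IsSyl p D K := by
  obtain ⟨S⟩ : Nonempty (Sylow p K) := inferInstance
  refine ⟨S.1.map K.subtype, S.2.map _, Subgroup.map_subtype_le _, ?_⟩
  have h := S.not_dvd_index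
  intro h1
  apply h
  have h2 : (S.1.map K.subtype).subgroupOf K = S.1 := by
    rw [Subgroup.subgroupOf, Subgroup.comap_map_eq_self_of_injective (Subgroup.subtype_injective K)]
  rw [Subgroup.relIndex, h2] at h1
  exact h1

theorem IsSyl.card_dvd {D E K : Subgroup G} (hD : IsSyl p D K) (hE : IsPGroup p E) (hEK : E ≤ K) :
    Nat.card E ∣ Nat.card D := by
  obtain ⟨k, hk⟩ := IsPGroup.iff_card.1 hE
  have h1 : Nat.card E ∣ Nat.card K := Subgroup.card_dvd_of_le hEK
  rw [card_eq_relIndex hD.le] at h1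
  refine Nat.Coprime.dvd_of_dvd_mul_right ?_ h1
  rw [hk]
  exact Nat.Coprime.pow_left _ ((Nat.Prime.coprime_iff_not_dvd Fact.out).2 hD.ndvd)

theorem IsSyl.of_card {D E K : Subgroup G} (hD : IsSyl p D K) (hE : IsPGroup p E) (hEK : E ≤ K)
    (h : Nat.card D = Nat.card E) : IsSyl p E K := by
  refine ⟨hE, hEK, ?_⟩
  have h1 := card_eq_relIndex hD.le
  have h2 := card_eq_relIndex hEK
  rw [h1, h] at h2
  rw [← Nat.eq_of_mul_eq_mul_left Nat.card_pos h2]
  exact hD.ndvd

theorem IsSyl.frattini {D K : Subgroup G} (hD : IsSyl p D K) {h : G} (hh : ∀ g, g ∈ K → h * g * h⁻¹ ∈ K) :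
    ∃ k ∈ K, k * h ∈ Subgroup.normalizer (D : Set G) := by
  let E : Subgroup G := D.map (MulAut.conj h).toMonoidHom
  have hE : E ≤ K := by
    rintro _ ⟨g, hg, rfl⟩
    exact hh g (hD.le hg)
  have hEc : Nat.card D = Nat.card E :=
    (Nat.card_congr (Subgroup.equivMapOfInjective D _ (MulAut.conj h).injective).toEquiv)
  have hES : IsSyl p E K := hD.of_card (hD.isP.map _) hE hEc
  obtain ⟨k, hk⟩ := MulAction.exists_smul_eq K ((isP_subgroupOf hES.isP (K := K)).toSylow hES.ndvd)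
    ((isP_subgroupOf hD.isP (K := K)).toSylow hD.ndvd)
  refine ⟨k.1, k.2, ?_⟩
  rw [Subgroup.mem_normalizer_iff]
  intro g
  have h1 : ∀ x : K, x ∈ E.subgroupOf K ↔ k * x * k⁻¹ ∈ D.subgroupOf K := by
    intro x
    have h2 := congrArg (fun S : Sylow p K => (S : Subgroup K)) hk
    have h2' : (MulAut.conj k) • (E.subgroupOf K) = D.subgroupOf K := h2
    rw [← h2', Subgroup.mem_pointwise_smul_iff_inv_smul_mem]
    rw [MulAut.smul_def, ← map_inv, MulAut.conj_apply, inv_inv]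
    have : k⁻¹ * (k * x * k⁻¹) * k = x := by group
    rw [this]
  have h3 : g ∈ D ↔ h * g * h⁻¹ ∈ E := by
    constructor
    · intro hg
      exact ⟨g, hg, rfl⟩
    · rintro ⟨x, hx, hxg⟩
      have : x = g := (MulAut.conj h).injective hxg
      rwa [← this]
  rw [h3]
  by_cases hg : h * g * h⁻¹ ∈ K
  · have h4 := h1 ⟨_, hg⟩
    rw [Subgroup.mem_subgroupOf, Subgroup.mem_subgroupOf] at h4
    rw [h4]
    have : k.1 * h * g * (k.1 * h)⁻¹ = k.1 * (h * g * h⁻¹) * k.1⁻¹ := by group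
    rw [this]
    rfl
  · constructor
    · intro h5
      exact absurd (hE h5) hg
    · intro h5
      exfalso
      apply hg
      have h6 := hD.le h5
      have : h * g * h⁻¹ = k.1⁻¹ * (k.1 * h * g * (k.1 * h)⁻¹) * k.1 := by group
      rw [this]
      exact K.mul_mem (K.mul_mem (K.inv_mem k.2) h6) k.2

theorem isP_zpowers_of_pow {D : Subgroup G} (hD : IsPGroup p D) {g : G} (hg : g ^ p ∈ D) :
    IsPGroup p (Subgroup.zpowers g) := by
  obtain ⟨k, hk⟩ := hD ⟨_, hg⟩
  have h1 : g ^ p ^ (k + 1) = 1 := by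
    have := congrArg Subtype.val hk
    simp only [SubmonoidClass.mk_pow, OneMemClass.coe_one] at this
    rw [← pow_mul] at this
    rw [pow_succ', this]
  have h2 : orderOf g ∣ p ^ (k + 1) := orderOf_dvd_of_pow_eq_one h1
  obtain ⟨m, -, hm⟩ := (Nat.dvd_prime_pow Fact.out).1 h2
  exact IsPGroup.of_card (n := m) (by rw [Nat.card_zpowers, hm])

theorem isP_sup {D : Subgroup G} (hD : IsPGroup p D) {g : G} (hg : g ∈ Subgroup.normalizer (D : Set G))
    (h : IsPGroup p (Subgroup.zpowers g)) : IsPGroup p (D ⊔ Subgroup.zpowers g : Subgroup G) :=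
  IsPGroup.to_sup_of_normal_left' hD h (by rwa [Subgroup.zpowers_le])

theorem card_lt_sup {D : Subgroup G} {g : G} (hg : g ∉ D) :
    Nat.card D < Nat.card (D ⊔ Subgroup.zpowers g : Subgroup G) := by
  have h1 : D ≤ D ⊔ Subgroup.zpowers g := le_sup_left
  refine lt_of_le_of_ne (Nat.le_of_dvd Nat.card_pos (Subgroup.card_dvd_of_le h1)) ?_
  intro h2
  have h3 := Subgroup.eq_of_le_of_card_ge h1 (le_of_eq h2.symm)
  apply hg
  rw [h3]
  exact (le_sup_right : Subgroup.zpowers g ≤ D ⊔ Subgroup.zpowers g) (Subgroup.mem_zpowers g)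

theorem ex_cauchy {N : Type*} [Group N] [Finite N] {p : ℕ} [Fact p.Prime] (H : Subgroup N) [H.Normal]
    (h : p ∣ Nat.card (N ⧸ H)) : ∃ g : N, g ∉ H ∧ g ^ p ∈ H := by
  obtain ⟨x, hx⟩ := exists_prime_orderOf_dvd_card' p h
  obtain ⟨g, rfl⟩ := QuotientGroup.mk_surjective x
  refine ⟨g, ?_, ?_⟩
  · intro h2
    rw [(QuotientGroup.eq_one_iff g).2 h2, orderOf_one] at hx
    exact (Nat.Prime.one_lt (Fact.out : p.Prime)).ne hx
  · rw [← QuotientGroup.eq_one_iff]
    have := pow_orderOf_eq_one (g : N ⧸ H)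
    rw [hx] at this
    exact this

theorem ex_norm {D K : Subgroup G} (hD : IsPGroup p D) (hDK : D ≤ K) (h : p ∣ D.relIndex K) :
    ∃ g ∈ K, g ∈ Subgroup.normalizer (D : Set G) ∧ g ∉ D ∧ g ^ p ∈ D := by
  obtain ⟨n, hn⟩ := IsPGroup.iff_card.1 hD
  have hc : Nat.card (D.subgroupOf K) = p ^ n := by
    rw [Nat.card_congr (Subgroup.subgroupOfEquivOfLe hDK).toEquiv, hn]
  have hdvd : p ^ (n + 1) ∣ Nat.card K := by
    rw [card_eq_relIndex hDK, hn, pow_succ]
    exact Nat.mul_dvd_mul_left _ h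
  have h1 := Sylow.prime_dvd_card_quotient_normalizer hdvd hc
  obtain ⟨g, h2, h3⟩ := @ex_cauchy _ _ _ p _ _ (Subgroup.normal_in_normalizer) h1
  refine ⟨g.1.1, g.1.2, ?_, h2, h3⟩
  rw [Subgroup.mem_normalizer_iff]
  intro d
  have h4 := Subgroup.mem_normalizer_iff.1 g.2
  constructor
  · intro hd
    exact (h4 ⟨d, hDK hd⟩).1 hd
  · intro hd
    have h5 : d ∈ K := by
      have h6 := K.mul_mem (K.mul_mem (K.inv_mem g.1.2) (hDK hd)) g.1.2
      have : (g.1.1)⁻¹ * (g.1.1 * d * (g.1.1)⁻¹) * g.1.1 = d := by group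
      rwa [this] at h6
    exact (h4 ⟨d, h5⟩).2 hd

/-- the `p`-part of an element -/
theorem ppart (p : ℕ) [Fact p.Prime] (g : G) : ∃ m, Nat.Coprime p m ∧ IsPGroup p (Subgroup.zpowers (g ^ m)) := by
  obtain ⟨k, m, hm, hkm⟩ := Nat.exists_eq_pow_mul_and_not_dvd (orderOf_pos g).ne' p (Nat.Prime.one_lt Fact.out).ne'
  refine ⟨m, (Nat.Prime.coprime_iff_not_dvd Fact.out).2 hm, ?_⟩
  refine IsPGroup.of_card (n := k) ?_
  rw [Nat.card_zpowers, orderOf_pow, hkm]
  have : (p ^ k * m).gcd m = m := Nat.gcd_eq_right (dvd_mul_left _ _)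
  rw [this, Nat.mul_div_cancel]
  exact Nat.pos_of_ne_zero (fun h => hm (h ▸ dvd_zero _))

section Orbits

variable {X : Type*} [MulAction G X]

theorem card_orbit_eq (H : Subgroup G) (x : X) : Nat.card (MulAction.orbit H x) = (MulAction.stabilizer G x).relIndex H := by
  have h1 := MulAction.index_stabilizer H x
  rw [← Nat.card_coe_set_eq] at h1
  rw [← h1, Subgroup.relIndex]
  congr 1

theorem IsSyl.orbit_dvd {S H : Subgroup G} (hS : IsSyl p S H) {x : X} {k : ℕ}
    (h : p ^ k ∣ Nat.card (MulAction.orbit H x)) : p ^ k ∣ Nat.card (MulAction.orbit S x) := by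
  rw [card_orbit_eq] at h ⊢
  set A := MulAction.stabilizer G x with hA
  have h1 : (A ⊓ S).relIndex S * S.relIndex H = (A ⊓ S).relIndex H :=
    Subgroup.relIndex_mul_relIndex _ _ _ inf_le_right hS.le
  have h2 : (A ⊓ S).relIndex (A ⊓ H) * (A ⊓ H).relIndex H = (A ⊓ S).relIndex H :=
    Subgroup.relIndex_mul_relIndex _ _ _ (inf_le_inf_left A hS.le) inf_le_right
  rw [Subgroup.inf_relIndex_right] at h1 h2
  have h3 : p ^ k ∣ A.relIndex S * S.relIndex H := by
    rw [h1, ← h2]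
    exact Dvd.dvd.mul_left h _
  exact Nat.Coprime.dvd_of_dvd_mul_right
    (Nat.Coprime.pow_left _ ((Nat.Prime.coprime_iff_not_dvd Fact.out).2 hS.ndvd)) h3

theorem IsSyl.trans {S H K : Subgroup G} (hS : IsSyl p S H) (hHK : H ≤ K) (h : ¬ p ∣ H.relIndex K) : IsSyl p S K := by
  refine ⟨hS.isP, hS.le.trans hHK, ?_⟩
  rw [← Subgroup.relIndex_mul_relIndex _ _ _ hS.le hHK]
  intro h1
  rcases (Nat.Prime.dvd_mul Fact.out).1 h1 with h2 | h2
  · exact hS.ndvd h2
  · exact h h2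

theorem IsSyl.mono {S H K : Subgroup G} (hS : IsSyl p S K) (hSH : S ≤ H) (hHK : H ≤ K) : IsSyl p S H := by
  refine ⟨hS.isP, hSH, ?_⟩
  intro h1
  apply hS.ndvd
  rw [← Subgroup.relIndex_mul_relIndex _ _ _ hSH hHK]
  exact Dvd.dvd.mul_right h1 _

end Orbits

end Cfsg.Agent.H985
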