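import Cfsg.Agent.H985.Trans
import Cfsg.Agent.H985.SylAux

/-!
# Doubly transitive planes of odd order have prime power order (S3732, helper985)
-/

set_option autoImplicit false
set_option linter.unusedSectionVars false

namespace Cfsg.Agent.H985

/-- the stabiliser of two points -/
def St (G : Type*) {X Y : Type*} [Group G] [MulAction G X] [MulAction G Y] (x : X) (y : Y) : Subgroup G :=
  MulAction.stabilizer G x ⊓ MulAction.stabilizer G y

theorem mem_St {G X Y : Type*} [Group G] [MulAction G X] [MulAction G Y] {x : X} {y : Y} {g : G} :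
    g ∈ St G x y ↔ g • x = x ∧ g • y = y := Iff.rfl

theorem fix_sup {G X : Type*} [Group G] [MulAction G X] {D : Subgroup G} {g : G} {x : X} (h1 : ∀ d ∈ D, d • x = x)
    (h2 : g • x = x) : ∀ d ∈ D ⊔ Subgroup.zpowers g, d • x = x := by
  have h : D ⊔ Subgroup.zpowers g ≤ MulAction.stabilizer G x := by
    refine sup_le h1 ?_
    rw [Subgroup.zpowers_le]
    exact h2
  exact fun d hd => h hd

theorem T2.card_le {G X : Type*} [Group G] [Finite G] [MulAction G X] (hT : T2 G X) {p : ℕ} [Fact p.Prime] {x y u v : X}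
    (hxy : x ≠ y) (huv : u ≠ v) {D E : Subgroup G} (hD : IsSyl p D (St G x y)) (hE : IsPGroup p E) (hEuv : E ≤ St G u v) :
    Nat.card E ≤ Nat.card D := by
  obtain ⟨g, hg1, hg2⟩ := hT u v x y huv hxy
  have h1 : Nat.card E = Nat.card (E.map (MulAut.conj g).toMonoidHom) :=
    Nat.card_congr (Subgroup.equivMapOfInjective E _ (MulAut.conj g).injective).toEquiv
  rw [h1]
  refine Nat.le_of_dvd Nat.card_pos (hD.card_dvd (hE.map _) ?_)
  rintro _ ⟨e, he, rfl⟩
  obtain ⟨h3, h4⟩ := mem_St.1 (hEuv he)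
  refine mem_St.2 ⟨?_, ?_⟩
  · change (g * e * g⁻¹) • x = x
    rw [mul_smul, mul_smul, ← hg1, inv_smul_smul, h3]
  · change (g * e * g⁻¹) • y = y
    rw [mul_smul, mul_smul, ← hg2, inv_smul_smul, h4]

namespace Pl

open Configuration Configuration.ProjectivePlane

variable {G P L : Type*} [Group G] [Membership P L] [MulAction G P] [MulAction G L]
variable [Act G P L] [ProjectivePlane P L] [Finite P] [Finite L] [Finite G]

/-- the order of the fixed plane -/
noncomputable def ord {D : Subgroup G} (h : Planar P L D) : ℕ := @order (FP P D) (FP L D) _ (fixPlane h)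

theorem sq_inj {a b : ℕ} (h : a ^ 2 + a + 1 = b ^ 2 + b + 1) : a = b := by
  rcases lt_trichotomy a b with h1 | h1 | h1
  · nlinarith
  · exact h1
  · nlinarith

theorem card_FP {D : Subgroup G} (h : Planar P L D) : Nat.card (FP P D) = ord h ^ 2 + ord h + 1 :=
  letI := fixPlane h
  card_P (FP P D) (FP L D)

theorem ord_bot (h : Planar P L (⊥ : Subgroup G)) : ord h = order P L := by
  apply sq_inj
  rw [← card_FP, ← card_P P L]
  exact Nat.card_congr ⟨fun p => p.1, fun p => ⟨p, fun d hd => by rw [Subgroup.mem_bot.1 hd, one_smul]⟩,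
    fun _ => rfl, fun _ => rfl⟩

theorem ord_gt_one {D : Subgroup G} (h : Planar P L D) : 1 < ord h :=
  letI := fixPlane h
  one_lt_order (FP P D) (FP L D)

theorem ord_step {E : Subgroup G} {g : G} (hg : g ∈ Subgroup.normalizer (E : Set G)) (hg2 : g ^ 2 ∈ E)
    (hE : Planar P L E) (hD : Planar P L (E ⊔ Subgroup.zpowers g)) : ord hE = ord hD ∨ ord hE = ord hD ^ 2 := by
  let _ := fixPlane hE
  let γ : Subgroup.normalizer (E : Set G) := ⟨g, hg⟩
  have h2 : ∀ p : FP P E, γ • γ • p = p := by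
    intro p
    apply FP.ext
    change g • g • p.1 = p.1
    rw [← mul_smul, ← pow_two]
    exact p.2 _ hg2
  have hres : ∀ p : FP P (E ⊔ Subgroup.zpowers g), (∀ e ∈ E, e • p.1 = p.1) ∧ g • p.1 = p.1 := by
    intro p
    exact ⟨fun e he => p.2 e ((le_sup_left : E ≤ E ⊔ Subgroup.zpowers g) he),
      p.2 g ((le_sup_right : Subgroup.zpowers g ≤ E ⊔ Subgroup.zpowers g) (Subgroup.mem_zpowers g))⟩
  have hresL : ∀ p : FP L (E ⊔ Subgroup.zpowers g), (∀ e ∈ E, e • p.1 = p.1) ∧ g • p.1 = p.1 := by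
    intro p
    exact ⟨fun e he => p.2 e ((le_sup_left : E ≤ E ⊔ Subgroup.zpowers g) he),
      p.2 g ((le_sup_right : Subgroup.zpowers g ≤ E ⊔ Subgroup.zpowers g) (Subgroup.mem_zpowers g))⟩
  by_cases ht : ∀ p : FP P E, γ • p = p
  · left
    apply sq_inj
    rw [← card_FP, ← card_FP]
    exact Nat.card_congr ⟨fun p => ⟨p.1, fix_sup p.2 (congrArg Subtype.val (ht p))⟩,
      fun p => ⟨p.1, (hres p).1⟩, fun _ => rfl, fun _ => rfl⟩
  · right
    push Not at ht
    obtain ⟨x, hx⟩ := ht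
    obtain ⟨f, hxf, hgf⟩ := exL (FP L E) x (γ • x)
    have hf : γ • f = f := inv_line (h2 x) hx hxf hgf
    have hY := card_fix_off h2 hx hxf hf
    have hY' : ord hE = Nat.card {y : FP P E // γ • y = y ∧ y ∉ f} := hY.symm
    rw [hY']
    have hfD : ∀ d ∈ E ⊔ Subgroup.zpowers g, d • f.1 = f.1 := fix_sup f.2 (congrArg Subtype.val hf)
    let fD : FP L (E ⊔ Subgroup.zpowers g) := ⟨f.1, hfD⟩
    have h3 : Nat.card {y : FP P (E ⊔ Subgroup.zpowers g) // y ∉ fD} = ord hD ^ 2 :=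
      letI := fixPlane hD
      card_off (P := FP P (E ⊔ Subgroup.zpowers g)) (L := FP L (E ⊔ Subgroup.zpowers g)) _
    rw [← h3]
    exact Nat.card_congr ⟨fun y => ⟨⟨y.1.1, fix_sup y.1.2 (congrArg Subtype.val y.2.1)⟩, fun h => y.2.2 h⟩,
      fun y => ⟨⟨y.1.1, (hres y.1).1⟩, FP.ext (hres y.1).2, fun h => y.2 h⟩, fun _ => rfl, fun _ => rfl⟩

theorem ord_chain {D : Subgroup G} (hD : Planar P L D) (h2 : IsPGroup 2 D) : ∀ (k : ℕ) (E : Subgroup G)
    (hED : E ≤ D), Nat.card D - Nat.card E = k → ∃ i, ord (hD.mono hED) = ord hD ^ (2 ^ i) := by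
  intro k
  induction k using Nat.strong_induction_on with
  | _ k ih =>
    intro E hED hk
    by_cases hE : E = D
    · subst hE
      exact ⟨0, by simp⟩
    have hne : E.relIndex D ≠ 1 := by
      intro h
      exact hE (le_antisymm hED (Subgroup.relIndex_eq_one.1 h))
    have h2E : IsPGroup 2 E := h2.to_le hED
    have hdvd : 2 ∣ E.relIndex D := by
      obtain ⟨m, hm⟩ := IsPGroup.iff_card.1 h2
      have : E.relIndex D ∣ 2 ^ m := by
        rw [← hm, card_eq_relIndex hED]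
        exact dvd_mul_left _ _
      obtain ⟨j, -, hj⟩ := (Nat.dvd_prime_pow Nat.prime_two).1 this
      rw [hj] at hne ⊢
      exact dvd_pow_self 2 (fun h => hne (by rw [h, pow_zero]))
    obtain ⟨g, hgD, hgN, hgE, hg2⟩ := ex_norm h2E hED hdvd
    have hle : E ⊔ Subgroup.zpowers g ≤ D := sup_le hED (by rwa [Subgroup.zpowers_le])
    have hlt := card_lt_sup hgE
    have hle' : Nat.card (E ⊔ Subgroup.zpowers g : Subgroup G) ≤ Nat.card D :=
      Nat.le_of_dvd Nat.card_pos (Subgroup.card_dvd_of_le hle)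
    obtain ⟨i, hi⟩ := ih _ (by omega) _ hle rfl
    rcases ord_step hgN hg2 (hD.mono hED) (hD.mono hle) with h3 | h3
    · exact ⟨i, h3.trans hi⟩
    · refine ⟨i + 1, ?_⟩
      rw [h3, hi, ← pow_mul, pow_succ]

theorem ord_order {D : Subgroup G} (hD : Planar P L D) (h2 : IsPGroup 2 D) : ∃ i, order P L = ord hD ^ (2 ^ i) := by
  obtain ⟨i, hi⟩ := ord_chain hD h2 _ ⊥ bot_le rfl
  exact ⟨i, by rw [← hi, ord_bot]⟩

/-- a Sylow 2-subgroup of a two-point stabiliser fixes no quadrangle -/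
theorem syl_not_planar (hT : T2 G P) {x y : P} (hxy : x ≠ y) {D : Subgroup G} (hD : IsSyl 2 D (St G x y)) :
    ¬ Planar P L D := by
  intro hpl
  obtain ⟨h, hh1, hh2⟩ := hT x y y x hxy (Ne.symm hxy)
  obtain ⟨k, hk, hkh⟩ := hD.frattini (h := h) (by
    intro g hg
    obtain ⟨h3, h4⟩ := mem_St.1 hg
    refine mem_St.2 ⟨?_, ?_⟩
    · rw [mul_smul, mul_smul, ← hh2, inv_smul_smul, h4]
    · rw [mul_smul, mul_smul, ← hh1, inv_smul_smul, h3])
  obtain ⟨k1, k2⟩ := mem_St.1 hk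
  -- the 2-part
  obtain ⟨m, hm, hgp⟩ := ppart 2 (k * h)
  have hmo : Odd m := by
    rw [← Nat.not_even_iff_odd, even_iff_two_dvd]
    exact (Nat.Prime.coprime_iff_not_dvd Nat.prime_two).1 hm
  set a := k * h with ha
  have ha1 : a • x = y := by rw [ha, mul_smul, hh1, k2]
  have ha2 : a • y = x := by rw [ha, mul_smul, hh2, k1]
  have ha3 : ∀ j : ℕ, a ^ (2 * j) • x = x ∧ a ^ (2 * j) • y = y := by
    intro j
    induction j with
    | zero => simp
    | succ j ih =>
      have : a ^ (2 * (j + 1)) = a ^ (2 * j) * (a * a) := by rw [mul_add, pow_add]; simp [pow_two]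
      rw [this]
      constructor
      · rw [mul_smul, mul_smul, ha1, ha2, ih.1]
      · rw [mul_smul, mul_smul, ha2, ha1, ih.2]
  obtain ⟨j, hj⟩ := hmo
  set g := a ^ m with hgdef
  have hg1 : g • x = y := by
    rw [hgdef, hj, pow_succ, mul_smul, ha1, (ha3 j).2]
  have hg2 : g • y = x := by
    rw [hgdef, hj, pow_succ, mul_smul, ha2, (ha3 j).1]
  have hgN : g ∈ Subgroup.normalizer (D : Set G) := Subgroup.pow_mem _ hkh m
  -- the square lies in `D`
  have hggP : IsPGroup 2 (Subgroup.zpowers (g ^ 2)) :=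
    hgp.to_le (by rw [Subgroup.zpowers_le]; exact Subgroup.pow_mem _ (Subgroup.mem_zpowers g) 2)
  have hgg : g ^ 2 ∈ D := by
    by_contra hne
    have h3 := card_lt_sup hne
    have h4 := hD.card_dvd (isP_sup hD.isP (Subgroup.pow_mem _ hgN 2) hggP) (sup_le hD.le (by
      rw [Subgroup.zpowers_le]
      refine mem_St.2 ⟨?_, ?_⟩
      · rw [pow_two, mul_smul, hg1, hg2]
      · rw [pow_two, mul_smul, hg2, hg1]))
    have h5 := Nat.le_of_dvd Nat.card_pos h4
    omega
  let _ := fixPlane hpl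
  let γ : Subgroup.normalizer (D : Set G) := ⟨g, hgN⟩
  have hx : ∀ d ∈ D, d • x = x := fun d hd => (mem_St.1 (hD.le hd)).1
  have h2 : ∀ p : FP P D, γ • γ • p = p := by
    intro p
    apply FP.ext
    change g • g • p.1 = p.1
    rw [← mul_smul, ← pow_two]
    exact p.2 _ hgg
  have hnt : ¬ ∀ p : FP P D, γ • p = p := by
    intro h3
    have h4 := congrArg Subtype.val (h3 ⟨x, hx⟩)
    have h5 : g • x = x := h4
    exact hxy (h5.symm.trans hg1)
  obtain ⟨u, v, huv, hu, hv⟩ := invol_two (FP L D) h2 hnt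
  have hu' : g • u.1 = u.1 := congrArg Subtype.val hu
  have hv' : g • v.1 = v.1 := congrArg Subtype.val hv
  have h6 : g ∉ D := fun h7 => hxy ((hx g h7).symm.trans hg1)
  have h7 := card_lt_sup h6
  have h8 := hT.card_le hxy (fun h9 => huv (FP.ext h9)) hD (isP_sup hD.isP hgN hgp) (fun d hd =>
    mem_St.2 ⟨fix_sup u.2 hu' d hd, fix_sup v.2 hv' d hd⟩)
  omega

variable (G P L) in
/-- a planar 2-subgroup of maximal order -/
theorem ex_max_planar : ∃ D : Subgroup G, IsPGroup 2 D ∧ Planar P L D ∧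
    ∀ E : Subgroup G, IsPGroup 2 E → Planar P L E → Nat.card E ≤ Nat.card D := by
  obtain ⟨D, hD, hmax⟩ := Set.exists_max_image {D : Subgroup G | IsPGroup 2 D ∧ Planar P L D} (fun D => Nat.card D)
    (Set.toFinite _) ⟨⊥, IsPGroup.of_bot, by
      obtain ⟨a, b, c, d, hq⟩ := ex_quad P L
      have h : ∀ p : P, ∀ g ∈ (⊥ : Subgroup G), g • p = p := fun p g hg => by rw [Subgroup.mem_bot.1 hg, one_smul]
      exact ⟨⟨a, h a⟩, ⟨b, h b⟩, ⟨c, h c⟩, ⟨d, h d⟩, hq⟩⟩
  exact ⟨D, hD.1, hD.2, fun E h1 h2 => hmax E ⟨h1, h2⟩⟩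

/-- the involution of the fixed plane -/
theorem ex_invol {D : Subgroup G} (hD2 : IsPGroup 2 D) (hD : Planar P L D)
    (hmax : ∀ E : Subgroup G, IsPGroup 2 E → Planar P L E → Nat.card E ≤ Nat.card D) {K : Subgroup G}
    (hDK : D ≤ K) (hdvd : 2 ∣ D.relIndex K) : ∃ g : Subgroup.normalizer (D : Set G), g.1 ∈ K ∧
      toColl (Subgroup.normalizer (D : Set G)) (FP P D) (FP L D) g ≠ 1 ∧
      toColl (Subgroup.normalizer (D : Set G)) (FP P D) (FP L D) g ^ 2 = 1 := by
  let _ := fixPlane hD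
  obtain ⟨g, hgK, hgN, hgD, hg2⟩ := ex_norm hD2 hDK hdvd
  refine ⟨⟨g, hgN⟩, hgK, ?_, ?_⟩
  · intro h1
    have h2 : ∀ p : FP P D, g • p.1 = p.1 := by
      intro p
      have h3 : toColl (Subgroup.normalizer (D : Set G)) (FP P D) (FP L D) ⟨g, hgN⟩ • p = p := by
        rw [h1, one_smul]
      exact congrArg Subtype.val h3
    have h3 := card_lt_sup hgD
    have h4 := hmax _ (isP_sup hD2 hgN (isP_zpowers_of_pow hD2 hg2)) (by
      obtain ⟨a, b, c, d, hq⟩ := hD
      exact ⟨⟨a.1, fix_sup a.2 (h2 a)⟩, ⟨b.1, fix_sup b.2 (h2 b)⟩, ⟨c.1, fix_sup c.2 (h2 c)⟩,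
        ⟨d.1, fix_sup d.2 (h2 d)⟩, hq⟩)
    omega
  · rw [← map_pow]
    apply FaithfulSMul.eq_of_smul_eq_smul (α := FP P D)
    intro p
    rw [one_smul]
    apply FP.ext
    exact p.2 _ hg2

end Pl

end Cfsg.Agent.H985
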