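import Cfsg.Agent.H985.OddPlane

/-!
# Orbits and Sylow subgroups, auxiliary lemmas (S3732, helper985)
-/

set_option autoImplicit false
set_option linter.unusedSectionVars false

namespace Cfsg.Agent.H985

theorem dvd_card_of_orbits {S X : Type*} [Group S] [MulAction S X] [Finite X] {d : ℕ}
    (h : ∀ x : X, d ∣ Nat.card (MulAction.orbit S x)) : d ∣ Nat.card X := by
  classical
  have : Fintype (MulAction.orbitRel.Quotient S X) := Fintype.ofFinite _
  rw [Nat.card_congr (MulAction.selfEquivSigmaOrbits S X), Nat.card_sigma]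
  exact Finset.dvd_sum fun ω _ => h _

/-- an invariant subset, as a type with an action -/
def inv' {G X : Type*} [Group G] [MulAction G X] (S : Subgroup G) (Y : Set X) (hY : ∀ g ∈ S, ∀ y ∈ Y, g • y ∈ Y) :
    SubMulAction S X where
  carrier := Y
  smul_mem' := fun g {_} hy => hY g.1 g.2 _ hy

theorem dvd_card_of_inv {G X : Type*} [Group G] [MulAction G X] [Finite X] (S : Subgroup G) (Y : Set X)
    (hY : ∀ g ∈ S, ∀ y ∈ Y, g • y ∈ Y) {d : ℕ} (h : ∀ y ∈ Y, d ∣ Nat.card (MulAction.orbit S y)) :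
    d ∣ Nat.card Y := by
  have h1 : d ∣ Nat.card (inv' S Y hY) := by
    apply dvd_card_of_orbits (S := S)
    intro x
    have h2 := h x.1 x.2
    have h3 : Nat.card (MulAction.orbit S x) = Nat.card (MulAction.orbit S x.1) := by
      rw [← SubMulAction.val_image_orbit, Nat.card_image_of_injective Subtype.val_injective]
    rwa [h3]
  exact h1

variable {p : ℕ} [Fact p.Prime]

theorem ex_fixed {G X : Type*} [Group G] [MulAction G X] [Finite X] {Q : Subgroup G} (hQ : IsPGroup p Q) (Y : Set X)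
    (hY : ∀ g ∈ Q, ∀ y ∈ Y, g • y ∈ Y) (h : ¬ p ∣ Nat.card Y) : ∃ y ∈ Y, ∀ g ∈ Q, g • y = y := by
  obtain ⟨y, hy⟩ := hQ.nonempty_fixed_point_of_prime_not_dvd_card (inv' Q Y hY) h
  exact ⟨y.1, y.2, fun g hg => congrArg Subtype.val (hy ⟨g, hg⟩)⟩

/-- if all orbits are large, then there is one orbit -/
theorem orbit_eq_of_dvd {G X : Type*} [Group G] [MulAction G X] [Finite X] (S : Subgroup G) (Y : Set X)
    (hY : ∀ g ∈ S, ∀ y ∈ Y, g • y ∈ Y) {y : X} (hy : y ∈ Y) (h : Nat.card Y ∣ Nat.card (MulAction.orbit S y)) :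
    MulAction.orbit S y = Y := by
  have hsub : MulAction.orbit S y ⊆ Y := by
    rintro _ ⟨g, rfl⟩
    exact hY g.1 g.2 y hy
  refine Set.eq_of_subset_of_ncard_le hsub ?_ (Set.toFinite _)
  rw [← Nat.card_coe_set_eq, ← Nat.card_coe_set_eq]
  have : Nonempty (MulAction.orbit S y) := ⟨⟨y, MulAction.mem_orbit_self y⟩⟩
  exact Nat.le_of_dvd Nat.card_pos h

variable {G : Type*} [Group G] [Finite G]

theorem IsSyl.inf_stab {X : Type*} [MulAction G X] [Finite X] {S H : Subgroup G} (hS : IsSyl p S H) {x : X}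
    (h : Nat.card (MulAction.orbit S x) = Nat.card (MulAction.orbit H x)) :
    IsSyl p (MulAction.stabilizer G x ⊓ S) (MulAction.stabilizer G x ⊓ H) := by
  refine ⟨hS.isP.to_le inf_le_right, inf_le_inf_left _ hS.le, ?_⟩
  have h0 : 0 < Nat.card (MulAction.orbit H x) := by
    have : Nonempty (MulAction.orbit H x) := ⟨⟨x, MulAction.mem_orbit_self x⟩⟩
    exact Nat.card_pos
  rw [card_orbit_eq, card_orbit_eq] at h
  rw [card_orbit_eq] at h0
  set A := MulAction.stabilizer G x with hA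
  have h1 : (A ⊓ S).relIndex S * S.relIndex H = (A ⊓ S).relIndex H :=
    Subgroup.relIndex_mul_relIndex _ _ _ inf_le_right hS.le
  have h2 : (A ⊓ S).relIndex (A ⊓ H) * (A ⊓ H).relIndex H = (A ⊓ S).relIndex H :=
    Subgroup.relIndex_mul_relIndex _ _ _ (inf_le_inf_left A hS.le) inf_le_right
  rw [Subgroup.inf_relIndex_right] at h1 h2
  rw [← h1, h, mul_comm] at h2
  rw [Nat.eq_of_mul_eq_mul_left h0 h2]
  exact hS.ndvd

theorem IsSyl.card_le_conj {X Y : Type*} [MulAction G X] [MulAction G Y] {x u : X} {y v : Y} {D E : Subgroup G}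
    (hD : IsSyl p D (St G x y)) (hE : IsPGroup p E) (hEuv : E ≤ St G u v) (h : ∃ g : G, g • u = x ∧ g • v = y) :
    Nat.card E ≤ Nat.card D := by
  obtain ⟨g, hg1, hg2⟩ := h
  have h1 : Nat.card E = Nat.card (E.map (MulAut.conj g).toMonoidHom) :=
    Nat.card_congr (Subgroup.equivMapOfInjective E _ (MulAut.conj g).injective).toEquiv
  rw [h1]
  refine Nat.le_of_dvd Nat.card_pos (hD.card_dvd (hE.map _) ?_)
  rintro _ ⟨e, he, rfl⟩
  obtain ⟨h3, h4⟩ := mem_St.1 (hEuv he)
  refine mem_St.2 ⟨?_, ?_⟩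
  · change (g * e * g⁻¹) • x = x
    rw [mul_smul, mul_smul, ← hg1, inv_smul_smul, h3]
  · change (g * e * g⁻¹) • y = y
    rw [mul_smul, mul_smul, ← hg2, inv_smul_smul, h4]

/-- central elements of prime order -/
theorem ex_central {S : Subgroup G} (hS : IsPGroup p S) (hne : S ≠ ⊥) :
    ∃ z ∈ S, z ≠ 1 ∧ z ^ p = 1 ∧ ∀ g ∈ S, g * z = z * g := by
  have : Nontrivial S := (Subgroup.nontrivial_iff_ne_bot S).2 hne
  have h1 := hS.center_nontrivial
  have h2 : p ∣ Nat.card (Subgroup.center S) := by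
    obtain ⟨n, hn⟩ := IsPGroup.iff_card.1 (hS.to_subgroup (Subgroup.center S))
    rw [hn]
    refine dvd_pow_self p ?_
    rintro rfl
    rw [pow_zero] at hn
    exact (Finite.one_lt_card_iff_nontrivial.2 h1).ne hn.symm
  obtain ⟨z, hz⟩ := exists_prime_orderOf_dvd_card' p h2
  refine ⟨z.1.1, z.1.2, ?_, ?_, ?_⟩
  · intro h3
    have : z = 1 := Subtype.ext (Subtype.ext h3)
    rw [this, orderOf_one] at hz
    exact (Nat.Prime.one_lt (Fact.out : p.Prime)).ne hz
  · have := pow_orderOf_eq_one z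
    rw [hz] at this
    exact congrArg (fun t : Subgroup.center S => t.1.1) this
  · intro g hg
    exact congrArg Subtype.val (Subgroup.mem_center_iff.1 z.2 ⟨g, hg⟩)

theorem card_St {X Y : Type*} [MulAction G X] [MulAction G Y] (x : X) (y : Y) :
    Nat.card G = Nat.card (MulAction.orbit G x) * Nat.card (MulAction.orbit (MulAction.stabilizer G x) y) *
      Nat.card (St G x y) := by
  have h1 := MulAction.index_stabilizer G x
  rw [← Nat.card_coe_set_eq] at h1
  rw [card_orbit_eq, ← h1]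
  have h2 := card_eq_relIndex (D := St G x y) (K := MulAction.stabilizer G x) inf_le_left
  have h3 : (St G x y).relIndex (MulAction.stabilizer G x) =
      (MulAction.stabilizer G y).relIndex (MulAction.stabilizer G x) := by
    rw [St, Subgroup.inf_relIndex_left]
  rw [h3] at h2
  have h4 := Subgroup.card_mul_index (MulAction.stabilizer G x)
  rw [← h4, h2]
  ring

end Cfsg.Agent.H985
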