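import Cfsg.Agent.H985.PlBasic
import Cfsg.Agent.H985.Andre

/-!
# Perspectivities of finite projective planes (S3732, helper985)

`Ax g a` : `g` fixes all points of the line `a`; `Ce g z` : `g` fixes all lines through `z`.
-/

set_option autoImplicit false

namespace Cfsg.Agent.H985.Pl

open Configuration Configuration.ProjectivePlane

variable {G P L : Type*} [Group G] [Membership P L] [MulAction G P] [MulAction G L]

/-- `a` is an axis of `g` -/
def Ax (g : G) (a : L) (P : Type*) [Membership P L] [MulAction G P] : Prop := ∀ p : P, p ∈ a → g • p = p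

/-- `z` is a centre of `g` -/
def Ce (g : G) (z : P) (L : Type*) [Membership P L] [MulAction G L] : Prop := ∀ l : L, z ∈ l → g • l = l

variable [Act G P L] [ProjectivePlane P L]

theorem Ax.fix [Finite P] [Finite L] {g : G} {a : L} (h : Ax g a P) : g • a = a := by
  obtain ⟨p, hp, -, -⟩ := ex_third (P := P) a (exOffP (P := P) a).choose (exOffP (P := P) a).choose
  obtain ⟨q, hq, hqp, -⟩ := ex_third a p p
  exact fixL (Ne.symm hqp) (h p hp) (h q hq) hp hq

theorem Ce.fix [Finite P] [Finite L] {g : G} {z : P} (h : Ce g z L) : g • z = z :=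
  Ax.fix (P := Dual L) (L := Dual P) (g := g) (a := z) h

omit [Group G] [MulAction G P] [MulAction G L] [Act G P L] in
/-- there is a point off two lines -/
theorem exOff2 [Finite P] [Finite L] (l m : L) : ∃ p : P, p ∉ l ∧ p ∉ m := by
  by_cases h : l = m
  · subst h
    obtain ⟨p, hp⟩ := exOffP (P := P) l
    exact ⟨p, hp, hp⟩
  · obtain ⟨x, hx1, hx2⟩ := exP0 (P := P) h
    obtain ⟨p, hp, hpx, -⟩ := ex_third l x x
    obtain ⟨q, hq, hqx, -⟩ := ex_third m x x
    have hpm : p ∉ m := fun h1 => hpx (uP h hp h1 hx1 hx2)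
    have hql : q ∉ l := fun h1 => hqx (uP h h1 hq hx1 hx2)
    have hpq : p ≠ q := fun h1 => hpm (h1 ▸ hq)
    obtain ⟨k, hk1, hk2⟩ := exL0 (L := L) hpq
    obtain ⟨r, hr, hrp, hrq⟩ := ex_third k p q
    refine ⟨r, fun h1 => ?_, fun h1 => ?_⟩
    · have := uL hrp h1 hp hr hk1
      exact hql (this ▸ hk2)
    · have := uL hrq h1 hq hr hk2
      exact hpm (this ▸ hk1)

omit [Group G] [MulAction G P] [MulAction G L] [Act G P L] in
theorem exOffL2 [Finite P] [Finite L] (p q : P) : ∃ l : L, p ∉ l ∧ q ∉ l :=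
  exOff2 (P := Dual L) (L := Dual P) p q

/-- an axis and a fixed point off it give a centre -/
theorem Ax.ce {g : G} {a : L} (h : Ax g a P) {c : P} (hc : g • c = c) (hca : c ∉ a) : Ce g c L := by
  intro l hl
  have hla : l ≠ a := fun h1 => hca (h1 ▸ hl)
  obtain ⟨x, hx1, hx2⟩ := exP0 (P := P) hla
  have hxc : x ≠ c := fun h1 => hca (h1 ▸ hx2)
  exact fixL hxc (h x hx2) hc hx1 hl

theorem Ce.ax {g : G} {z : P} (h : Ce g z L) {m : L} (hm : g • m = m) (hmz : z ∉ m) : Ax g m P :=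
  Ax.ce (P := Dual L) (L := Dual P) (g := g) (a := z) h hm hmz

variable [Finite P] [Finite L]

/-- two fixed points off the axis: trivial -/
theorem Ax.triv {g : G} {a : L} (h : Ax g a P) {c d : P} (hc : g • c = c) (hca : c ∉ a)
    (hd : g • d = d) (hda : d ∉ a) (hcd : c ≠ d) (p : P) : g • p = p := by
  have key : ∀ c d : P, g • c = c → c ∉ a → g • d = d → d ∉ a → c ≠ d → ∀ f : L, c ∈ f → d ∈ f →
      ∀ p, p ∉ f → g • p = p := by
    intro c d hc hca hd hda hcd f hcf hdf p hp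
    have h1 := h.ce hc hca
    have h2 := h.ce hd hda
    obtain ⟨l, hl1, hl2⟩ := exL L p c
    obtain ⟨m, hm1, hm2⟩ := exL L p d
    have hlm : l ≠ m := by
      rintro rfl
      exact hp (uL hcd hl2 hm2 hcf hdf ▸ hl1)
    exact fixP hlm (h1 l hl2) (h2 m hm2) hl1 hm1
  obtain ⟨f, hcf, hdf⟩ := exL0 (L := L) hcd
  by_cases hpf : p ∈ f
  · obtain ⟨e, he1, he2⟩ := exOff2 (P := P) a f
    have hge := key c d hc hca hd hda hcd f hcf hdf e he2
    by_cases hpc : p = c
    · rw [hpc, hc]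
    · have hce : c ≠ e := fun h1 => he2 (h1 ▸ hcf)
      obtain ⟨k, hk1, hk2⟩ := exL0 (L := L) hce
      refine key c e hc hca hge he1 hce k hk1 hk2 p fun hpk => ?_
      have := uL hpc hpk hk1 hpf hcf
      exact he2 (this ▸ hk2)
  · exact key c d hc hca hd hda hcd f hcf hdf p hpf

/-- a collineation with an axis has a centre -/
theorem Ax.exCe {g : G} {a : L} (h : Ax g a P) : ∃ z : P, Ce g z L := by
  by_cases h1 : ∃ c : P, c ∉ a ∧ g • c = c
  · obtain ⟨c, hca, hc⟩ := h1
    exact ⟨c, h.ce hc hca⟩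
  · push Not at h1
    -- the lines `p ∨ gp`
    have h2 : ∀ p : P, p ∉ a → ∃ f : L, p ∈ f ∧ g • p ∈ f ∧ g • f = f := by
      intro p hp
      obtain ⟨f, hf1, hf2⟩ := exL L p (g • p)
      have hfa : f ≠ a := fun h3 => hp (h3 ▸ hf1)
      obtain ⟨x, hx1, hx2⟩ := exP0 (P := P) hfa
      have hxp : p ≠ x := fun h3 => hp (h3 ▸ hx2)
      exact ⟨f, hf1, hf2, fixL' hxp (h x hx2) hf1 hx1 hf2⟩
    obtain ⟨p, hp⟩ := exOffP (P := P) a
    obtain ⟨f, hf1, hf2, hf3⟩ := h2 p hp
    have hfa : f ≠ a := fun h3 => hp (h3 ▸ hf1)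
    obtain ⟨z, hz1, hz2⟩ := exP0 (P := P) hfa
    refine ⟨z, fun l hl => ?_⟩
    by_cases hla : l = a
    · rw [hla]; exact h.fix
    · -- a point of `l` off `a`
      obtain ⟨q, hq, hqz, -⟩ := ex_third l z z
      have hqa : q ∉ a := fun h3 => hla (uL hqz hq hl h3 hz2)
      obtain ⟨m, hm1, hm2, hm3⟩ := h2 q hqa
      by_cases hmf : m = f
      · subst hmf
        rw [uL hqz hq hl hm1 hz1]; exact hm3
      · obtain ⟨x, hx1, hx2⟩ := exP0 (P := P) hmf
        have hx3 := fixP hmf hm3 hf3 hx1 hx2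
        have hxa : x ∈ a := by
          by_contra h4
          exact h1 x h4 hx3
        have hxz : x = z := uP hfa hx2 hxa hz1 hz2
        rw [uL hqz hq hl hm1 (hxz ▸ hx1)]; exact hm3

theorem Ce.exAx {g : G} {z : P} (h : Ce g z L) : ∃ a : L, Ax g a P :=
  Ax.exCe (P := Dual L) (L := Dual P) (g := g) (a := z) h

/-- fixed points of a non-trivial perspectivity -/
theorem fixpt {g : G} {a : L} {z : P} (ha : Ax g a P) (hz : Ce g z L) (hg : ¬ ∀ p : P, g • p = p) {p : P}
    (hp : g • p = p) : p ∈ a ∨ p = z := by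
  by_contra hn
  push Not at hn
  obtain ⟨hpa, hpz⟩ := hn
  by_cases hza : z ∈ a
  · have hcp := ha.ce hp hpa
    -- a point off the line `zp` and off `a`
    obtain ⟨f, hf1, hf2⟩ := exL0 (L := L) hpz
    obtain ⟨q, hq1, hq2⟩ := exOff2 (P := P) a f
    obtain ⟨l, hl1, hl2⟩ := exL L q z
    obtain ⟨m, hm1, hm2⟩ := exL L q p
    have hlm : l ≠ m := by
      rintro rfl
      exact hq2 (uL hpz hm2 hl2 hf1 hf2 ▸ hl1)
    have hgq := fixP hlm (hz l hl2) (hcp m hm2) hl1 hm1
    exact hg (ha.triv hp hpa hgq hq1 (fun h => hq2 (h ▸ hf1)))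
  · exact hg (ha.triv hp hpa hz.fix hza hpz)

theorem fixln {g : G} {a : L} {z : P} (ha : Ax g a P) (hz : Ce g z L) (hg : ¬ ∀ p : P, g • p = p) {l : L}
    (hl : g • l = l) : z ∈ l ∨ l = a :=
  fixpt (P := Dual L) (L := Dual P) (g := g) (a := z) (z := a) hz ha
    (fun h => hg (triv_points (L := L) h)) hl

/-- uniqueness of the axis -/
theorem ax_unique {g : G} {a b : L} (ha : Ax g a P) (hb : Ax g b P) (hg : ¬ ∀ p : P, g • p = p) : a = b := by
  by_contra hab
  obtain ⟨x, hx1, hx2⟩ := exP0 (P := P) hab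
  obtain ⟨p, hp, hpx, -⟩ := ex_third b x x
  obtain ⟨q, hq, hqx, hqp⟩ := ex_third b x p
  have hpa : p ∉ a := fun h => hpx (uP hab h hp hx1 hx2)
  have hqa : q ∉ a := fun h => hqx (uP hab h hq hx1 hx2)
  exact hg (ha.triv (hb p hp) hpa (hb q hq) hqa (Ne.symm hqp))

theorem ce_unique {g : G} {y z : P} (hy : Ce g y L) (hz : Ce g z L) (hg : ¬ ∀ p : P, g • p = p) : y = z :=
  ax_unique (P := Dual L) (L := Dual P) (g := g) hy hz (fun h => hg (triv_points (L := L) h))

/-! ### products and conjugates -/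

omit [Act G P L] [ProjectivePlane P L] [Finite P] [Finite L] in
theorem Ax.mul {g h : G} {a : L} (hg : Ax g a P) (hh : Ax h a P) : Ax (g * h) a P := by
  intro p hp
  rw [mul_smul, hh p hp, hg p hp]

omit [Act G P L] [ProjectivePlane P L] [Finite P] [Finite L] in
theorem Ax.inv {g : G} {a : L} (hg : Ax g a P) : Ax g⁻¹ a P := by
  intro p hp
  rw [inv_smul_eq_iff, hg p hp]

omit [Act G P L] [ProjectivePlane P L] [Finite P] [Finite L] in
theorem Ax.one {a : L} : Ax (1 : G) a P := fun p _ => one_smul _ p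

omit [Act G P L] [ProjectivePlane P L] [Finite P] [Finite L] in
theorem Ax.pow {g : G} {a : L} (hg : Ax g a P) (n : ℕ) : Ax (g ^ n) a P := by
  induction n with
  | zero => rw [pow_zero]; exact Ax.one
  | succ n ih => rw [pow_succ]; exact ih.mul hg

omit [ProjectivePlane P L] [Finite P] [Finite L] in
theorem Ax.conj {g : G} {a : L} (hg : Ax g a P) (h : G) : Ax (h * g * h⁻¹) (h • a) P := by
  intro p hp
  rw [mem_smul_line_iff] at hp
  rw [mul_smul, mul_smul, hg _ hp, smul_inv_smul]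

omit [Act G P L] [ProjectivePlane P L] [Finite P] [Finite L] in
theorem Ce.mul {g h : G} {z : P} (hg : Ce g z L) (hh : Ce h z L) : Ce (g * h) z L := by
  intro p hp
  rw [mul_smul, hh p hp, hg p hp]

omit [Act G P L] [ProjectivePlane P L] [Finite P] [Finite L] in
theorem Ce.inv {g : G} {z : P} (hg : Ce g z L) : Ce g⁻¹ z L := by
  intro p hp
  rw [inv_smul_eq_iff, hg p hp]

omit [Act G P L] [ProjectivePlane P L] [Finite P] [Finite L] in
theorem Ce.one {z : P} : Ce (1 : G) z L := fun p _ => one_smul _ p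

omit [Act G P L] [ProjectivePlane P L] [Finite P] [Finite L] in
theorem Ce.pow {g : G} {z : P} (hg : Ce g z L) (n : ℕ) : Ce (g ^ n) z L := by
  induction n with
  | zero => rw [pow_zero]; exact Ce.one
  | succ n ih => rw [pow_succ]; exact ih.mul hg

omit [ProjectivePlane P L] [Finite P] [Finite L] in
theorem Ce.conj {g : G} {z : P} (hg : Ce g z L) (h : G) : Ce (h * g * h⁻¹) (h • z) L := by
  intro l hl
  rw [smul_mem_iff] at hl
  rw [mul_smul, mul_smul, hg _ hl, smul_inv_smul]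

end Cfsg.Agent.H985.Pl
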