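import Mathlib

/-!
# Collineation groups of finite projective planes: basic facts (S3732, helper985)

* `Act G P L` : the group `G` acts by collineations;
* `card_fix_eq` : a collineation fixes as many points as lines;
* `card_orbits_eq` : a collineation group has as many orbits on points as on lines.
-/

set_option autoImplicit false

namespace Cfsg.Agent.H985.Pl

open Configuration Configuration.ProjectivePlane

section Incidence

variable {P L : Type*} [Membership P L] [ProjectivePlane P L]

theorem exL0 {p q : P} (h : p ≠ q) : ∃ l : L, p ∈ l ∧ q ∈ l :=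
  ⟨HasLines.mkLine h, HasLines.mkLine_ax h⟩

theorem exP0 {l m : L} (h : l ≠ m) : ∃ p : P, p ∈ l ∧ p ∈ m :=
  ⟨HasPoints.mkPoint h, HasPoints.mkPoint_ax h⟩

theorem uL {p q : P} {l m : L} (h : p ≠ q) (h1 : p ∈ l) (h2 : q ∈ l) (h3 : p ∈ m) (h4 : q ∈ m) : l = m :=
  (Nondegenerate.eq_or_eq h1 h2 h3 h4).resolve_left h

theorem uP {p q : P} {l m : L} (h : l ≠ m) (h1 : p ∈ l) (h2 : p ∈ m) (h3 : q ∈ l) (h4 : q ∈ m) : p = q :=
  (Nondegenerate.eq_or_eq h1 h3 h2 h4).resolve_right h

theorem exOffP (l : L) : ∃ p : P, p ∉ l := Nondegenerate.exists_point l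

theorem exOffL (p : P) : ∃ l : L, p ∉ l := Nondegenerate.exists_line p

variable (L) in
/-- a line through two points (which may be equal) -/
theorem exL (p q : P) : ∃ l : L, p ∈ l ∧ q ∈ l := by
  by_cases h : p = q
  · subst h
    obtain ⟨l, hl⟩ := exOffL (L := L) p
    obtain ⟨r, hr⟩ := exOffP (P := P) l
    by_cases hrp : r = p
    · obtain ⟨a, b, c, l1, l2, l3, h⟩ := exists_config (P := P) (L := L)
      by_cases hap : a = p
      · by_cases hbp : b = p
        · exact absurd (hap.trans hbp.symm) (fun hab => h.1 (hab ▸ h.2.2.2.1))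
        · obtain ⟨m, hm⟩ := exL0 (L := L) hbp
          exact ⟨m, hm.2, hm.2⟩
      · obtain ⟨m, hm⟩ := exL0 (L := L) hap
        exact ⟨m, hm.2, hm.2⟩
    · obtain ⟨m, hm⟩ := exL0 (L := L) hrp
      exact ⟨m, hm.2, hm.2⟩
  · exact exL0 h

variable (P) in
theorem exP (l m : L) : ∃ p : P, p ∈ l ∧ p ∈ m := exL (P := Dual L) (Dual P) l m

variable [Finite P] [Finite L]

theorem card_pts (l : L) : Nat.card {p : P // p ∈ l} = order P L + 1 := pointCount_eq P l

theorem card_lns (p : P) : Nat.card {l : L // p ∈ l} = order P L + 1 := lineCount_eq L p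

variable (P L) in
theorem card_P : Nat.card P = order P L ^ 2 + order P L + 1 := by
  have := Fintype.ofFinite P
  rw [Nat.card_eq_fintype_card]
  exact card_points P L

variable (P L) in
theorem card_L : Nat.card L = order P L ^ 2 + order P L + 1 := by
  have := Fintype.ofFinite L
  rw [Nat.card_eq_fintype_card]
  exact card_lines P L

/-- the number of points off a line -/
theorem card_off (l : L) : Nat.card {p : P // p ∉ l} = order P L ^ 2 := by
  classical
  have h1 : Nat.card {p : P // p ∈ l} + Nat.card {p : P // p ∉ l} = Nat.card P := by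
    rw [← Nat.card_sum]
    exact Nat.card_congr (Equiv.sumCompl (fun p => p ∈ l))
  rw [card_pts, card_P P L] at h1
  omega

theorem card_offL (p : P) : Nat.card {l : L // p ∉ l} = order P L ^ 2 := by
  classical
  have h1 : Nat.card {l : L // p ∈ l} + Nat.card {l : L // p ∉ l} = Nat.card L := by
    rw [← Nat.card_sum]
    exact Nat.card_congr (Equiv.sumCompl (fun l => p ∈ l))
  rw [card_lns, card_L P L] at h1
  omega

/-- points of a line different from a given point of it -/
theorem card_pts_ne {l : L} {q : P} (hq : q ∈ l) : Nat.card {p : P // p ∈ l ∧ p ≠ q} = order P L := by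
  classical
  have h1 : Nat.card {p : P // p ∈ l ∧ p ≠ q} + 1 = Nat.card {p : P // p ∈ l} := by
    have h2 : Nat.card {p : {p : P // p ∈ l} // ¬ (p = ⟨q, hq⟩)} + 1 = Nat.card {p : P // p ∈ l} := by
      have h3 : Nat.card {p : {p : P // p ∈ l} // p = ⟨q, hq⟩} +
          Nat.card {p : {p : P // p ∈ l} // ¬ (p = ⟨q, hq⟩)} = Nat.card {p : P // p ∈ l} := by
        rw [← Nat.card_sum]
        exact Nat.card_congr (Equiv.sumCompl _)
      have h4 : Nat.card {p : {p : P // p ∈ l} // p = ⟨q, hq⟩} = 1 := by
        rw [Nat.card_eq_one_iff_unique]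
        exact ⟨⟨fun a b => Subtype.ext (a.2.trans b.2.symm)⟩, ⟨⟨_, rfl⟩⟩⟩
      omega
    rw [← h2]
    congr 1
    exact Nat.card_congr ⟨fun p => ⟨⟨p.1, p.2.1⟩, fun h => p.2.2 (congrArg Subtype.val h)⟩,
      fun p => ⟨p.1.1, p.1.2, fun h => p.2 (Subtype.ext h)⟩, fun _ => rfl, fun _ => rfl⟩
  rw [card_pts] at h1
  omega

theorem card_lns_ne {l : L} {q : P} (hq : q ∈ l) : Nat.card {m : L // q ∈ m ∧ m ≠ l} = order P L := by
  have := card_pts_ne (P := Dual L) (L := Dual P) (l := q) (q := l) hq
  rw [Dual.order P L] at this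
  exact this

/-- a line has a point different from two given points -/
theorem ex_third (l : L) (a b : P) : ∃ p : P, p ∈ l ∧ p ≠ a ∧ p ≠ b := by
  classical
  by_contra h
  push Not at h
  have h1 : Nat.card {p : P // p ∈ l} ≤ 2 := by
    have := Fintype.ofFinite P
    rw [Nat.card_eq_fintype_card, Fintype.card_subtype]
    refine le_trans (Finset.card_le_card (t := {a, b}) ?_) (Finset.card_le_two)
    intro p hp
    simp only [Finset.mem_filter, Finset.mem_univ, true_and] at hp
    simp only [Finset.mem_insert, Finset.mem_singleton]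
    by_cases hpa : p = a
    · exact Or.inl hpa
    · exact Or.inr (h p hp hpa)
  rw [card_pts] at h1
  have := one_lt_order P L
  omega

theorem ex_thirdL (p : P) (a b : L) : ∃ l : L, p ∈ l ∧ l ≠ a ∧ l ≠ b :=
  ex_third (P := Dual L) (L := Dual P) p a b

end Incidence

/-- `G` acts by collineations -/
class Act (G P L : Type*) [Group G] [Membership P L] [MulAction G P] [MulAction G L] : Prop where
  mem' : ∀ (g : G) {p : P} {l : L}, p ∈ l → g • p ∈ g • l

section Action

variable {G P L : Type*} [Group G] [Membership P L] [MulAction G P] [MulAction G L] [Act G P L]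

instance : MulAction G (Dual P) := inferInstanceAs (MulAction G P)

instance : Act G (Dual L) (Dual P) := ⟨fun g _ _ h => Act.mem' (P := P) (L := L) g h⟩

theorem mem_smul (g : G) {p : P} {l : L} (h : p ∈ l) : g • p ∈ g • l := Act.mem' g h

theorem mem_smul_iff (g : G) {p : P} {l : L} : g • p ∈ g • l ↔ p ∈ l := by
  refine ⟨fun h => ?_, mem_smul g⟩
  have := mem_smul g⁻¹ h
  rwa [inv_smul_smul, inv_smul_smul] at this

theorem smul_mem_iff (g : G) {p : P} {l : L} : g • p ∈ l ↔ p ∈ g⁻¹ • l := by
  rw [← mem_smul_iff g (l := g⁻¹ • l), smul_inv_smul]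

theorem mem_smul_line_iff (g : G) {p : P} {l : L} : p ∈ g • l ↔ g⁻¹ • p ∈ l := by
  rw [smul_mem_iff, inv_inv]

variable [ProjectivePlane P L]

/-- two fixed points are joined by a fixed line -/
theorem fixL {g : G} {p q : P} {l : L} (h : p ≠ q) (h1 : g • p = p) (h2 : g • q = q) (h3 : p ∈ l) (h4 : q ∈ l) :
    g • l = l := by
  refine uL h ?_ ?_ h3 h4
  · have := mem_smul g h3; rwa [h1] at this
  · have := mem_smul g h4; rwa [h2] at this

theorem fixP {g : G} {p : P} {l m : L} (h : l ≠ m) (h1 : g • l = l) (h2 : g • m = m) (h3 : p ∈ l) (h4 : p ∈ m) :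
    g • p = p := by
  refine uP h ?_ ?_ h3 h4
  · have := mem_smul g h3; rwa [h1] at this
  · have := mem_smul g h4; rwa [h2] at this

/-- the line `p ∨ gp` is fixed if it contains a fixed point different from `p` -/
theorem fixL' {g : G} {p q : P} {l : L} (h : p ≠ q) (h1 : g • q = q) (h2 : p ∈ l) (h3 : q ∈ l) (h4 : g • p ∈ l) :
    g • l = l := by
  have h5 : g • p ≠ q := fun h6 => h (MulAction.injective g (h6.trans h1.symm))
  refine uL h5 (mem_smul g h2) ?_ h4 h3
  have := mem_smul g h3; rwa [h1] at this

theorem triv_lines {g : G} (h : ∀ p : P, g • p = p) (l : L) : g • l = l := by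
  by_cases hf : Finite P ∧ Finite L
  · obtain ⟨_, _⟩ := hf
    obtain ⟨p, hp, -, -⟩ := ex_third (P := P) l (Classical.choice ⟨(exOffP (P := P) l).choose⟩)
      (Classical.choice ⟨(exOffP (P := P) l).choose⟩)
    obtain ⟨q, hq, hqp, -⟩ := ex_third l p p
    exact fixL (Ne.symm hqp) (h p) (h q) hp hq
  · -- general case: every line has two points
    obtain ⟨p1, p2, p3, l1, l2, l3, h1, h2, h3, h4, h5, h6, h7, h8⟩ := exists_config (P := P) (L := L)
    by_contra hne
    obtain ⟨x, hx1, hx2⟩ := exP0 (P := P) hne
    -- all points of `l` are equal to `x`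
    have hall : ∀ y : P, y ∈ l → y = x := by
      intro y hy
      have hy' : y ∈ g • l := by have := mem_smul g hy; rwa [h y] at this
      exact uP hne hy' hy hx1 hx2
    -- every line meets `l` in `x`
    have hall2 : ∀ m : L, x ∈ m := by
      intro m
      by_cases hm : m = l
      · rw [hm]; exact hx2
      · obtain ⟨y, hy1, hy2⟩ := exP0 (P := P) hm
        rw [← hall y hy2]; exact hy1
    obtain ⟨m, hm⟩ := exOffL (L := L) x
    exact hm (hall2 m)

theorem triv_points {g : G} (h : ∀ l : L, g • l = l) (p : P) : g • p = p :=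
  triv_lines (P := Dual L) (L := Dual P) h p

variable [Finite P] [Finite L]

open Classical in
/-- a collineation fixes as many points as lines -/
theorem card_fix_eq (g : G) : Nat.card {p : P // g • p = p} = Nat.card {l : L // g • l = l} := by
  have := Fintype.ofFinite P
  have := Fintype.ofFinite L
  set n := order P L with hn
  have h1 : ∀ p : P, (Finset.univ.filter (fun l : L => p ∈ l ∧ g • p ∈ l)).card =
      1 + (if g • p = p then n else 0) := by
    intro p
    split_ifs with hp
    · simp only [hp, and_self]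
      rw [← Fintype.card_subtype, ← Nat.card_eq_fintype_card, card_lns, hn, add_comm]
    · rw [add_zero, Finset.card_eq_one]
      obtain ⟨l, hl⟩ := exL0 (L := L) (Ne.symm hp)
      refine ⟨l, Finset.ext fun m => ?_⟩
      simp only [Finset.mem_filter, Finset.mem_univ, true_and, Finset.mem_singleton]
      refine ⟨fun hm => uL (Ne.symm hp) hm.1 hm.2 hl.1 hl.2, fun hm => hm ▸ hl⟩
  have h2 : ∀ l : L, (Finset.univ.filter (fun p : P => p ∈ l ∧ g • p ∈ l)).card =
      1 + (if g • l = l then n else 0) := by
    intro l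
    split_ifs with hl
    · have h3 : ∀ p : P, (p ∈ l ∧ g • p ∈ l) ↔ p ∈ l := by
        intro p
        refine ⟨fun h => h.1, fun h => ⟨h, ?_⟩⟩
        have := mem_smul g h; rwa [hl] at this
      simp only [h3]
      rw [← Fintype.card_subtype, ← Nat.card_eq_fintype_card, card_pts, hn, add_comm]
    · rw [add_zero, Finset.card_eq_one]
      have hl' : l ≠ g⁻¹ • l := by
        intro h
        apply hl
        conv_lhs => rw [h]
        rw [smul_inv_smul]
      obtain ⟨p, hp⟩ := exP0 (P := P) hl'
      refine ⟨p, Finset.ext fun q => ?_⟩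
      simp only [Finset.mem_filter, Finset.mem_univ, true_and, Finset.mem_singleton]
      refine ⟨fun hq => uP hl' hq.1 ((smul_mem_iff g).1 hq.2) hp.1 hp.2, fun hq => ?_⟩
      rw [hq]; exact ⟨hp.1, (smul_mem_iff g).2 hp.2⟩
  have h3 := Finset.sum_card_bipartiteAbove_eq_sum_card_bipartiteBelow
    (s := (Finset.univ : Finset P)) (t := (Finset.univ : Finset L)) (fun p l => p ∈ l ∧ g • p ∈ l)
  simp only [Finset.bipartiteAbove, Finset.bipartiteBelow, h1, h2, Finset.sum_add_distrib,
    Finset.sum_const, Finset.card_univ, smul_eq_mul, mul_one, ← Finset.sum_filter] at h3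
  rw [Nat.card_eq_fintype_card, Nat.card_eq_fintype_card, Fintype.card_subtype, Fintype.card_subtype]
  have h4 := card_points_eq_card_lines P L
  have h5 := one_lt_order P L
  rw [h4] at h3
  have h6 := Nat.add_left_cancel h3
  exact Nat.eq_of_mul_eq_mul_right (by omega) h6

/-- as many orbits on points as on lines -/
theorem card_orbits_eq [Finite G] :
    Nat.card (MulAction.orbitRel.Quotient G P) = Nat.card (MulAction.orbitRel.Quotient G L) := by
  classical
  have := Fintype.ofFinite P
  have := Fintype.ofFinite L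
  have := Fintype.ofFinite G
  have h1 := MulAction.sum_card_fixedBy_eq_card_orbits_mul_card_group G P
  have h2 := MulAction.sum_card_fixedBy_eq_card_orbits_mul_card_group G L
  have h3 : ∀ g : G, Fintype.card (MulAction.fixedBy P g) = Fintype.card (MulAction.fixedBy L g) := by
    intro g
    rw [← Nat.card_eq_fintype_card, ← Nat.card_eq_fintype_card]
    exact card_fix_eq (P := P) (L := L) g
  simp only [h3] at h1
  rw [h2] at h1
  rw [Nat.card_eq_fintype_card, Nat.card_eq_fintype_card]
  exact (Nat.eq_of_mul_eq_mul_right Fintype.card_pos h1).symm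

end Action

end Cfsg.Agent.H985.Pl
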