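import Cfsg.Agent.H985.CommAlg

/-!
# Coordinates from elations, S3732, helper985
-/

set_option autoImplicit false
set_option linter.unusedSectionVars false

namespace Cfsg.Agent.H985.Pl

open Configuration Configuration.ProjectivePlane

variable {G P L : Type*} [Group G] [Membership P L] [MulAction G P] [MulAction G L]
variable [Act G P L] [ProjectivePlane P L] [Finite P] [Finite L] [Finite G] [FaithfulSMul G P]

/-- the coordinate map -/
def crd {F : Type} {X Y O : P} {l k : L} (α : Pg G X l ≃ F) (β : Pg G Y l ≃ F) (γ : Pg G Y k ≃ F) :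
    (F × F) ⊕ (F ⊕ Unit) → P
  | Sum.inl t => (α.symm t.1).1 • (β.symm t.2).1 • O
  | Sum.inr (Sum.inl m) => (γ.symm m).1 • X
  | Sum.inr (Sum.inr _) => Y

section

variable {F : Type} {X Y O : P} {l k : L} (α : Pg G X l ≃ F) (β : Pg G Y l ≃ F) (γ : Pg G Y k ≃ F)
variable (hXY : X ≠ Y) (hX : X ∈ l) (hY : Y ∈ l) (hYk : Y ∈ k) (hOk : O ∈ k) (hOl : O ∉ l)

include hX hY in
theorem smul_in {g : G} {z : P} {w : L} (hz : z ∈ l) (hg : g ∈ Pg G z w) {p : P} (hp : p ∈ l) : g • p ∈ l := by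
  have := mem_smul g hp
  rwa [hg.2 l hz] at this

include hX hY hOl in
theorem crd_off {t : F × F} : crd (O := O) α β γ (Sum.inl t) ∉ l := by
  have h1 : (β.symm t.2).1 • l = l := (β.symm t.2).2.2 l hY
  have h2 : (α.symm t.1).1 • l = l := (α.symm t.1).2.2 l hX
  exact smul_off h2 (smul_off h1 hOl)

include hX hY in
theorem crd_on {t : F ⊕ Unit} : crd (O := O) α β γ (Sum.inr t) ∈ l := by
  rcases t with m | u
  · exact smul_in hX hY hY (γ.symm m).2 hX
  · exact hY

include hXY hYk in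
theorem crd_neY {m : F} : crd (O := O) α β γ (Sum.inr (Sum.inl m)) ≠ Y := by
  intro h
  have h1 : (γ.symm m).1 • Y = Y := (γ.symm m).2.1 Y hYk
  exact hXY (MulAction.injective (γ.symm m).1 (h.trans h1.symm))

include hXY hX hY hYk hOk hOl in
theorem crd_inj : Function.Injective (crd (O := O) α β γ) := by
  have hkl : k ≠ l := fun h => hOl (h ▸ hOk)
  have hXk : X ∉ k := fun h => hXY (uP hkl h hX hYk hY)
  rintro (⟨x, y⟩ | m | u) (⟨x', y'⟩ | m' | u') h
  · have h1 : ((α.symm x).1 * (β.symm y).1) • O = ((α.symm x').1 * (β.symm y').1) • O := by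
      rw [mul_smul, mul_smul]; exact h
    have h2 := El_eq (mul_mem (Pg_le_El hX (α.symm x).2) (Pg_le_El hY (β.symm y).2))
      (mul_mem (Pg_le_El hX (α.symm x').2) (Pg_le_El hY (β.symm y').2)) hOl h1
    have h3 : ((α.symm x').1)⁻¹ * (α.symm x).1 = (β.symm y').1 * ((β.symm y).1)⁻¹ := by
      rw [inv_mul_eq_iff_eq_mul, ← mul_assoc, ← h2]; group
    have h4 : ((α.symm x').1)⁻¹ * (α.symm x).1 = 1 :=
      Pg_inter hXY (mul_mem (inv_mem (α.symm x').2) (α.symm x).2)
        (h3 ▸ mul_mem (β.symm y').2 (inv_mem (β.symm y).2))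
    have h5 : x' = x := α.symm.injective (Subtype.ext (inv_mul_eq_one.1 h4))
    rw [h4] at h3
    have h6 : y' = y := β.symm.injective (Subtype.ext (mul_inv_eq_one.1 h3.symm))
    rw [h5, h6]
  · exact absurd (h ▸ crd_on α β γ hX hY) (crd_off α β γ hX hY hOl)
  · exact absurd (h ▸ crd_on α β γ hX hY) (crd_off α β γ hX hY hOl)
  · exact absurd (h ▸ crd_on α β γ hX hY) (crd_off α β γ hX hY hOl)
  · have h1 : (((γ.symm m').1)⁻¹ * (γ.symm m).1) • X = X := by
      rw [mul_smul, inv_smul_eq_iff]; exact h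
    have h2 : ((γ.symm m').1)⁻¹ * (γ.symm m).1 = 1 := by
      by_contra hne
      exact Pg_ne (mul_mem (inv_mem (γ.symm m').2) (γ.symm m).2) hYk hne hXk h1
    have h3 : m' = m := γ.symm.injective (Subtype.ext (inv_mul_eq_one.1 h2))
    rw [h3]
  · exact absurd h (crd_neY α β γ hXY hYk)
  · exact absurd (h ▸ crd_on α β γ hX hY) (crd_off α β γ hX hY hOl)
  · exact absurd h.symm (crd_neY α β γ hXY hYk)
  · rfl

include hXY hX hY hYk hOk hOl in
theorem crd_bij (hT : T2 G P) : Function.Bijective (crd (O := O) α β γ) := by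
  have hcF : Nat.card F = order P L := by
    rw [← card_Pg_all hT hY]; exact (Nat.card_congr β).symm
  have hfin : Finite F := Finite.of_equiv _ β
  refine Function.Injective.bijective_of_nat_card_le (crd_inj α β γ hXY hX hY hYk hOk hOl) ?_
  rw [card_P P L, Nat.card_sum, Nat.card_prod, Nat.card_sum, hcF, Nat.card_unique]
  nlinarith

variable [Field F]

include hXY hX hYk hOk hOl in
/-- **coordinates** -/
theorem exists_coords (hT : T2 G P) (hβ : ∀ b b', β (b * b') = β b + β b')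
    (hm : ∀ (s : Pg G Y k) (a : Pg G X l), β ⟨s.1 * a.1 * s.1⁻¹ * a.1⁻¹, comm_mem hY hYk s.2 a.2⟩ = γ s * α a) :
    ∃ e : P ≃ (F × F) ⊕ (F ⊕ Unit), ∀ l : L,
      (∃ m b : F, ∀ p : P, p ∈ l ↔ ((∃ x, e p = Sum.inl (x, m * x + b)) ∨ e p = Sum.inr (Sum.inl m))) ∨
      (∃ a : F, ∀ p : P, p ∈ l ↔ ((∃ y, e p = Sum.inl (a, y)) ∨ e p = Sum.inr (Sum.inr ()))) ∨
      (∀ p : P, p ∈ l ↔ ((∃ m, e p = Sum.inr (Sum.inl m)) ∨ e p = Sum.inr (Sum.inr ()))) := by
  have hkl : k ≠ l := fun h => hOl (h ▸ hOk)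
  have hXk : X ∉ k := fun h => hXY (uP hkl h hX hYk hY)
  have hOY : O ≠ Y := fun h => hOl (h ▸ hY)
  have hOX : O ≠ X := fun h => hOl (h ▸ hX)
  have hinj := crd_inj α β γ hXY hX hY hYk hOk hOl
  let e := (Equiv.ofBijective _ (crd_bij α β γ hXY hX hY hYk hOk hOl hT)).symm
  refine ⟨e, fun l' => ?_⟩
  have he : ∀ (p : P) t, e p = t ↔ p = crd (O := O) α β γ t := fun p t => Equiv.symm_apply_eq _
  simp only [he]
  -- enough to check the points `crd t`
  have hsur : ∀ p : P, ∃ t, p = crd (O := O) α β γ t := fun p => ⟨e p, ((he p (e p)).1 rfl)⟩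
  -- points `b O`
  have hbO : ∀ y : F, (β.symm y).1 • O ∈ k := fun y => by
    have := mem_smul (β.symm y).1 hOk
    rwa [(β.symm y).2.2 k hYk] at this
  have hbOY : ∀ y : F, (β.symm y).1 • O ≠ Y := fun y h =>
    hOY (MulAction.injective (β.symm y).1 (h.trans ((β.symm y).2.1 Y hY).symm))
  by_cases h1 : l' = l
  · subst h1
    right; right
    intro p
    obtain ⟨t, rfl⟩ := hsur p
    constructor
    · intro h
      rcases t with t | m | u
      · exact absurd h (crd_off α β γ hX hY hOl)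
      · exact Or.inl ⟨m, rfl⟩
      · exact Or.inr rfl
    · rintro (⟨m, h⟩ | h)
      · rw [h]; exact crd_on α β γ hX hY
      · rw [h]; exact crd_on α β γ hX hY
  by_cases h2 : Y ∈ l'
  · right; left
    obtain ⟨a, ha, hak⟩ := Pg_transL hT hX hY (Ne.symm hXY) hYk h2 hkl h1
    refine ⟨α ⟨a, ha⟩, ?_⟩
    intro p
    obtain ⟨t, rfl⟩ := hsur p
    constructor
    · intro h
      rcases t with ⟨x, y⟩ | m | u
      · left
        refine ⟨y, ?_⟩
        have h3 : ((α.symm x).1)⁻¹ • a • k = k := by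
          refine uL (hbOY y) ?_ ?_ (hbO y) hYk
          · rw [hak, ← smul_mem_iff]; exact h
          · have h4 := mem_smul a hYk
            rw [ha.1 Y hY] at h4
            have h5 := mem_smul ((α.symm x).1)⁻¹ h4
            rwa [(α.symm x).2.1.inv Y hY] at h5
        have h4 : ((α.symm x).1)⁻¹ * a = 1 := by
          by_contra hne
          have h5 := mul_mem (inv_mem (α.symm x).2) ha
          rcases fixln h5.1 h5.2 (not_triv hne) (l := k) (by rw [mul_smul]; exact h3) with h6 | h6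
          · exact hXk h6
          · exact hkl h6
        have h5 : α ⟨a, ha⟩ = x := by
          rw [← Equiv.eq_symm_apply]
          exact Subtype.ext (inv_mul_eq_one.1 h4).symm
        rw [h5]
      · exfalso
        exact crd_neY α β γ hXY hYk (uP h1 h (crd_on α β γ hX hY) h2 hY)
      · exact Or.inr rfl
    · rintro (⟨y, h⟩ | h)
      · rw [h, ← hak]
        change (α.symm (α ⟨a, ha⟩)).1 • (β.symm y).1 • O ∈ a • k
        rw [Equiv.symm_apply_apply]
        exact mem_smul a (hbO y)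
      · rw [h]; exact h2
  · left
    -- the point at infinity
    obtain ⟨Z, hZ1, hZ2⟩ := exP0 (P := P) h1
    have hZY : Z ≠ Y := fun h => h2 (h ▸ hZ1)
    obtain ⟨s, hs, hsZ⟩ := Pg_trans hT hYk hY (Ne.symm hkl) hX hZ2 hXY hZY
    obtain ⟨h, hh1, hh2⟩ := exL0 (L := L) hOX
    have hhl : h ≠ l := fun h' => hOl (h' ▸ hh1)
    have hsO : s • O = O := hs.1 O hOk
    have hsh1 : O ∈ s • h := by have := mem_smul s hh1; rwa [hsO] at this
    have hsh2 : Z ∈ s • h := by have := mem_smul s hh2; rwa [hsZ] at this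
    have hshl : s • h ≠ l := fun h' => hOl (h' ▸ hsh1)
    obtain ⟨b, hb, hbl⟩ := Pg_transL hT hY hZ2 hZY hsh2 hZ1 hshl h1
    refine ⟨γ ⟨s, hs⟩, β ⟨b, hb⟩, ?_⟩
    -- the points of `l'`
    have key : ∀ x : F, crd (O := O) α β γ (Sum.inl (x, γ ⟨s, hs⟩ * x + β ⟨b, hb⟩)) ∈ l' := by
      intro x
      have h3 := hm ⟨s, hs⟩ (α.symm x)
      rw [Equiv.apply_symm_apply] at h3
      rw [← h3, ← hβ]
      change (α.symm x).1 • (β.symm (β _)).1 • O ∈ l'
      rw [Equiv.symm_apply_apply]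
      change (α.symm x).1 • ((s * (α.symm x).1 * s⁻¹ * (α.symm x).1⁻¹) * b) • O ∈ l'
      have h4 : (s * (α.symm x).1 * s⁻¹ * (α.symm x).1⁻¹) ∈ Pg G Y l := comm_mem hY hYk hs (α.symm x).2
      have h5 := comm_axis hT hX hY (α.symm x).2 (mul_mem h4 hb)
      have h6 := comm_centre hT hYk hY hs hb
      have h7 := comm_axis hT hX hY (α.symm x).2 hb
      rw [← mul_smul, h5, mul_smul]
      have h8 : (s * (α.symm x).1 * s⁻¹ * (α.symm x).1⁻¹) * b * (α.symm x).1 = b * s * (α.symm x).1 * s⁻¹ := by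
        have h9 : s⁻¹ * b = b * s⁻¹ := by
          calc s⁻¹ * b = s⁻¹ * (b * s) * s⁻¹ := by group
            _ = s⁻¹ * (s * b) * s⁻¹ := by rw [h6]
            _ = b * s⁻¹ := by group
        calc (s * (α.symm x).1 * s⁻¹ * (α.symm x).1⁻¹) * b * (α.symm x).1
            = s * (α.symm x).1 * s⁻¹ * (α.symm x).1⁻¹ * (b * (α.symm x).1) := by group
          _ = s * (α.symm x).1 * s⁻¹ * (α.symm x).1⁻¹ * ((α.symm x).1 * b) := by rw [h7]
          _ = s * (α.symm x).1 * (s⁻¹ * b) := by group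
          _ = s * (α.symm x).1 * (b * s⁻¹) := by rw [h9]
          _ = s * ((α.symm x).1 * b) * s⁻¹ := by group
          _ = s * (b * (α.symm x).1) * s⁻¹ := by rw [h7]
          _ = (s * b) * (α.symm x).1 * s⁻¹ := by group
          _ = b * s * (α.symm x).1 * s⁻¹ := by rw [h6]
      rw [← mul_smul, h8, ← hbl, mul_smul, hs.1.inv O hOk, mul_smul, mul_smul]
      apply mem_smul
      apply mem_smul
      have := mem_smul (α.symm x).1 hh1
      rwa [(α.symm x).2.2 h hh2] at this
    have hs' : crd (O := O) α β γ (Sum.inr (Sum.inl (γ ⟨s, hs⟩))) = Z := by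
      change (γ.symm (γ ⟨s, hs⟩)).1 • X = Z
      rw [Equiv.symm_apply_apply]
      exact hsZ
    intro p
    obtain ⟨t, rfl⟩ := hsur p
    constructor
    · intro hp
      rcases t with ⟨x, y⟩ | m | u
      · left
        refine ⟨x, ?_⟩
        have hak : ∀ y : F, crd (O := O) α β γ (Sum.inl (x, y)) ∈ (α.symm x).1 • k := fun y => mem_smul _ (hbO y)
        have hne : l' ≠ (α.symm x).1 • k := by
          intro h'
          apply h2
          rw [h', mem_smul_line_iff, (α.symm x).2.1.inv Y hY]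
          exact hYk
        exact uP hne hp (hak _) (key x) (hak _)
      · right
        rw [hs']
        exact uP h1 hp (crd_on α β γ hX hY) hZ1 hZ2
      · exact absurd hp h2
    · rintro (⟨x, h3⟩ | h3)
      · rw [h3]; exact key x
      · rw [h3, hs']; exact hZ1

end

end Cfsg.Agent.H985.Pl
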