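import Cfsg.Agent.H985.PlBasic

/-!
# A polarity of a finite projective plane has an absolute point (S3732, helper985)
-/

set_option autoImplicit false

namespace Cfsg.Agent.H985.Pl

open Configuration Configuration.ProjectivePlane

open Classical in
theorem no_polarity {P L : Type*} [Membership P L] [ProjectivePlane P L] [Finite P] [Finite L] (f : P → L)
    (hinj : Function.Injective f) (hsymm : ∀ x y : P, y ∈ f x → x ∈ f y) (habs : ∀ x : P, x ∉ f x) : False := by
  have := Fintype.ofFinite P
  obtain ⟨p, hp, hpn⟩ := Nat.exists_prime_and_dvd (n := order P L) (by have := one_lt_order P L; omega)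
  have : Fact p.Prime := ⟨hp⟩
  have hn : ((order P L : ℕ) : ZMod p) = 0 := (ZMod.natCast_eq_zero_iff _ _).2 hpn
  let N : Matrix P P (ZMod p) := fun x y => if y ∈ f x then 1 else 0
  let J : Matrix P P (ZMod p) := fun _ _ => 1
  have hcard : ∀ x : P, ((Finset.univ.filter (fun z : P => z ∈ f x)).card : ZMod p) = 1 := by
    intro x
    rw [← Fintype.card_subtype, ← Nat.card_eq_fintype_card, card_pts]
    push_cast
    rw [hn, zero_add]
  have hNN : N * N = J := by
    ext x y
    rw [Matrix.mul_apply]
    have h1 : ∀ z : P, N x z * N z y = if (z ∈ f x ∧ z ∈ f y) then 1 else 0 := by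
      intro z
      have h2 : y ∈ f z ↔ z ∈ f y := ⟨fun h => hsymm z y h, fun h => hsymm y z h⟩
      simp only [N, h2]
      by_cases ha : z ∈ f x <;> by_cases hb : z ∈ f y <;> simp [ha, hb]
    rw [Finset.sum_congr rfl (fun z _ => h1 z), Finset.sum_boole]
    change _ = (1 : ZMod p)
    by_cases hxy : x = y
    · subst hxy
      simp only [and_self]
      exact hcard x
    · obtain ⟨z, hz⟩ := exP0 (P := P) (fun h => hxy (hinj h) : f x ≠ f y)
      have h3 : (Finset.univ.filter (fun w : P => w ∈ f x ∧ w ∈ f y)) = {z} := by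
        ext w
        simp only [Finset.mem_filter, Finset.mem_univ, true_and, Finset.mem_singleton]
        exact ⟨fun hw => uP (fun h => hxy (hinj h)) hw.1 hw.2 hz.1 hz.2, fun hw => hw ▸ hz⟩
      rw [h3, Finset.card_singleton, Nat.cast_one]
  have hNJ : N * J = J := by
    ext x y
    rw [Matrix.mul_apply]
    have h1 : ∀ z : P, N x z * J z y = if z ∈ f x then 1 else 0 := fun z => mul_one _
    rw [Finset.sum_congr rfl (fun z _ => h1 z), Finset.sum_boole]
    exact hcard x
  have hpow : ∀ m : ℕ, 2 ≤ m → N ^ m = J := by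
    intro m hm
    induction m, hm using Nat.le_induction with
    | base => rw [pow_two, hNN]
    | succ m hm ih => rw [pow_succ', ih, hNJ]
  have h1 : N ^ p = J := hpow p hp.two_le
  have h2 : Matrix.trace (N ^ p) = Matrix.trace N ^ p := ZMod.trace_pow_card N
  have h3 : Matrix.trace N = 0 := by
    change ∑ x : P, N x x = 0
    refine Finset.sum_eq_zero fun x _ => ?_
    simp only [N, if_neg (habs x)]
  have h4 : Matrix.trace J = 1 := by
    change ∑ x : P, (1 : ZMod p) = 1
    simp only [Finset.sum_const, Finset.card_univ, nsmul_eq_mul, mul_one]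
    rw [← Nat.card_eq_fintype_card, card_P P L]
    push_cast
    rw [hn]; ring
  rw [h1, h3, h4, zero_pow hp.ne_zero] at h2
  exact one_ne_zero h2

end Cfsg.Agent.H985.Pl
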