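import Cfsg.Agent.H985.CaseOne
import Cfsg.Agent.H985.Polar

/-!
# Theorem B (S3732, helper985)

`primePow_of_hom` : a finite plane of odd order with a collineation group all of whose involutions are homologies, such
that any two points and any two lines are fixed by an involution, has prime power order.
-/

set_option autoImplicit false
set_option linter.unusedSectionVars false

namespace Cfsg.Agent.H985.Pl

open Configuration Configuration.ProjectivePlane

variable {G P L : Type*} [Group G] [Membership P L] [MulAction G P] [MulAction G L]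

variable (G) in
/-- there is a non-trivial elation with centre `z` and axis `w` -/
def Fl (z : P) (w : L) : Prop := z ∈ w ∧ ∃ g : G, g ≠ 1 ∧ Ax g w P ∧ Ce g z L

theorem Fl.dual {z : P} {w : L} (h : Fl G z w) : Fl G (P := Dual L) (L := Dual P) w z := by
  obtain ⟨h1, g, h2, h3, h4⟩ := h
  exact ⟨h1, g, h2, h4, h3⟩

theorem Fl.of_dual {z : P} {w : L} (h : Fl G (P := Dual L) (L := Dual P) w z) : Fl G z w := by
  obtain ⟨h1, g, h2, h3, h4⟩ := h
  exact ⟨h1, g, h2, h4, h3⟩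

variable [Act G P L] [ProjectivePlane P L] [Finite P] [Finite L] [FaithfulSMul G P]

theorem Fl.conj {z : P} {w : L} (h : Fl G z w) (g : G) : Fl G (g • z) (g • w) := by
  obtain ⟨h1, s, h2, h3, h4⟩ := h
  refine ⟨mem_smul g h1, g * s * g⁻¹, ?_, h3.conj g, h4.conj g⟩
  intro h6
  apply h2
  have : s = g⁻¹ * (g * s * g⁻¹) * g := by group
  rw [this, h6]; group

variable (G P L) in
/-- the matching case -/
structure Mat : Prop where
  m1 : ∀ (y z : P) (w : L), Fl G y w → Fl G z w → y = z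
  m2 : ∀ (z : P) (v w : L), Fl G z v → Fl G z w → v = w
  hc : ∀ y : P, ∃ a : L, Hom G y a
  ha : ∀ a : L, ∃ c : P, Hom G c a

theorem Mat.dual (h : Mat G P L) : Mat G (Dual L) (Dual P) where
  m1 := fun _ _ _ h1 h2 => h.m2 _ _ _ (Fl.of_dual (P := P) (L := L) h1) (Fl.of_dual (P := P) (L := L) h2)
  m2 := fun _ _ _ h1 h2 => h.m1 _ _ _ (Fl.of_dual (P := P) (L := L) h1) (Fl.of_dual (P := P) (L := L) h2)
  hc := fun y => ⟨(h.ha y).choose, (h.ha y).choose_spec.dual⟩
  ha := fun a => ⟨(h.hc a).choose, (h.hc a).choose_spec.dual⟩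

/-- the centres of `w` lie on a line through `z` -/
theorem Mat.factG [Finite G] (h : Mat G P L) {z : P} {w : L} (hF : Fl G z w) {c d : P} (hc : Hom G c w)
    (hd : Hom G d w) {l : L} (hz : z ∈ l) (hcl : c ∈ l) : d ∈ l := by
  obtain ⟨e, he, hec⟩ := hc.trans hd
  by_cases he1 : e = 1
  · subst he1
    rw [one_smul] at hec
    exact hec ▸ hcl
  · obtain ⟨y, hy, hey⟩ := exPg he
    have hyz : y = z := h.m1 _ _ _ ⟨hy, e, he1, hey.1, hey.2⟩ hF
    subst hyz
    have := mem_smul e hcl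
    rwa [hec, hey.2 l hz] at this

theorem Mat.factE [Finite G] (h : Mat G P L) {z : P} {w : L} (hF : Fl G z w) {a b : L} (ha : Hom G z a)
    (hb : Hom G z b) {x : P} (hx : x ∈ w) (hxa : x ∈ a) : x ∈ b := by
  have := faithfulL G P L
  have : FaithfulSMul G (Dual L) := this
  exact Mat.factG (P := Dual L) (L := Dual P) h.dual hF.dual ha.dual hb.dual hx hxa

theorem Mat.stepA (h : Mat G P L) {z y : P} {w v : L} (h1 : Fl G z w) (h2 : Fl G y v) (hzy : z ≠ y) : y ∉ w := by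
  intro hyw
  obtain ⟨hyv, e, he, e1, e2⟩ := id h2
  have h3 := h1.conj e
  rw [e2 w hyw] at h3
  have h4 := h.m1 _ _ _ h3 h1
  rcases fixpt e1 e2 (not_triv he) h4 with h5 | h5
  · have hwv : w ≠ v := fun h6 => hzy (h.m1 _ _ _ h1 (h6 ▸ h2))
    exact hzy (uP hwv h1.1 h5 hyw hyv)
  · exact hzy h5

theorem Mat.stepB [Finite G] (h : Mat G P L) {z y : P} {w v : L} (h1 : Fl G z w) (h2 : Fl G y v) (hzy : z ≠ y)
    {a : L} (ha : Hom G z a) : ∃ c : P, c ∈ w ∧ c ∈ v ∧ c ∈ a := by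
  obtain ⟨u, hu1, hu2⟩ := exL0 (L := L) hzy
  obtain ⟨c, s, s1, s2, s3, s4, s5⟩ := h.ha u
  have hnt := not_triv (P := P) s1
  have hyw := h.stepA h1 h2 hzy
  have hzv := h.stepA h2 h1 (Ne.symm hzy)
  have hsz : s • z = z := s3 z hu1
  have hsy : s • y = y := s3 y hu2
  have hsw : s • w = w := by
    have h3 := h1.conj s
    rw [hsz] at h3
    exact h.m2 _ _ _ h3 h1
  have hsv : s • v = v := by
    have h3 := h2.conj s
    rw [hsy] at h3
    exact h.m2 _ _ _ h3 h2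
  have hwu : w ≠ u := fun h3 => hyw (h3 ▸ hu2)
  have hvu : v ≠ u := fun h3 => hzv (h3 ▸ hu1)
  have hcw : c ∈ w := (fixln s3 s4 hnt hsw).resolve_right hwu
  have hcv : c ∈ v := (fixln s3 s4 hnt hsv).resolve_right hvu
  refine ⟨c, hcw, hcv, ?_⟩
  have hza : z ∉ a := ha.ex_off.1
  have hwa : w ≠ a := fun h3 => hza (h3 ▸ h1.1)
  obtain ⟨x, hx1, hx2⟩ := exP0 (P := P) hwa
  have hb := ha.conj s
  rw [hsz] at hb
  have hx3 := h.factE h1 ha hb hx1 hx2
  have hx4 : s • x ∈ w := by have := mem_smul s hx1; rwa [hsw] at this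
  have hwb : w ≠ s • a := fun h3 => hb.ex_off.1 (h3 ▸ h1.1)
  have hx5 : s • x = x := uP hwb hx4 (mem_smul s hx2) hx1 hx3
  rcases fixpt s3 s4 hnt hx5 with h6 | h6
  · have : x = z := uP hwu hx1 h6 h1.1 hu1
    exact absurd (this ▸ hx2) hza
  · exact h6 ▸ hx2

theorem Mat.stepB' [Finite G] (h : Mat G P L) {z y : P} {w v : L} (h1 : Fl G z w) (h2 : Fl G y v) (hwv : w ≠ v)
    {c : P} (hc : Hom G c w) : ∃ l : L, z ∈ l ∧ y ∈ l ∧ c ∈ l := by
  have := faithfulL G P L
  have : FaithfulSMul G (Dual L) := this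
  exact Mat.stepB (P := Dual L) (L := Dual P) h.dual h1.dual h2.dual hwv hc.dual

/-- all axes pass through one point -/
theorem Mat.point [Finite G] (h : Mat G P L) {z z' : P} {w w' : L} (h1 : Fl G z w) (h2 : Fl G z' w') (hzz : z ≠ z') :
    ∃ o : P, ∀ (y : P) (v : L), Fl G y v → o ∈ v := by
  obtain ⟨a, ha⟩ := h.hc z
  obtain ⟨c, c1, c2, c3⟩ := h.stepB h1 h2 hzz ha
  have hwa : w ≠ a := fun h3 => ha.ex_off.1 (h3 ▸ h1.1)
  refine ⟨c, fun y v h3 => ?_⟩
  by_cases hyz : z = y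
  · subst hyz
    rw [h.m2 _ _ _ h3 h1]; exact c1
  · obtain ⟨d, d1, d2, d3⟩ := h.stepB h1 h3 hyz ha
    rw [uP hwa c1 c3 d1 d3]; exact d2

theorem Mat.line [Finite G] (h : Mat G P L) {z z' : P} {w w' : L} (h1 : Fl G z w) (h2 : Fl G z' w') (hww : w ≠ w') :
    ∃ u : L, ∀ (y : P) (v : L), Fl G y v → y ∈ u := by
  have := faithfulL G P L
  have : FaithfulSMul G (Dual L) := this
  obtain ⟨u, hu⟩ := Mat.point (P := Dual L) (L := Dual P) h.dual h1.dual h2.dual hww
  exact ⟨u, fun y v h3 => hu v y h3.dual⟩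

/-- the matching case does not occur if there are elations -/
theorem Mat.false [Finite G] (h : Mat G P L) {z : P} {w : L} (h1 : Fl G z w) : False := by
  by_cases hex : ∃ (z' : P) (w' : L), z ≠ z' ∧ Fl G z' w'
  · obtain ⟨z', w', hzz, h2⟩ := hex
    have hww : w ≠ w' := fun h3 => hzz (h.m1 _ _ _ h1 (h3 ▸ h2))
    obtain ⟨o, ho⟩ := h.point h1 h2 hzz
    obtain ⟨u, hu⟩ := h.line h1 h2 hww
    obtain ⟨m, hm, -, -⟩ := ex_thirdL o u u
    obtain ⟨d, hd1, hd2⟩ := exOff2 (P := P) u m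
    have hdo : o ≠ d := fun h3 => hd2 (h3 ▸ hm)
    obtain ⟨b, s, s1, s2, s3, s4, s5⟩ := h.hc d
    have hnt := not_triv (P := P) s1
    have hso : s • o = o := by
      have hsw : s • w ≠ s • w' := fun h3 => hww (MulAction.injective s h3)
      exact uP hsw (mem_smul s (ho _ _ h1)) (mem_smul s (ho _ _ h2)) (ho _ _ (h1.conj s)) (ho _ _ (h2.conj s))
    have hsu : s • u = u := by
      have hsz : s • z ≠ s • z' := fun h3 => hzz (MulAction.injective s h3)
      exact uL hsz (mem_smul s (hu _ _ h1)) (mem_smul s (hu _ _ h2)) (hu _ _ (h1.conj s)) (hu _ _ (h2.conj s))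
    have hob : o ∈ b := (fixpt s3 s4 hnt hso).resolve_right hdo
    have hub : u = b := (fixln s3 s4 hnt hsu).resolve_left hd1
    have hwu : w ≠ u := fun h3 => h.stepA h1 h2 hzz (h3 ▸ hu _ _ h2)
    have hoz : o = z := uP hwu (ho _ _ h1) (hub ▸ hob) h1.1 (hu _ _ h1)
    exact h.stepA h2 h1 (Ne.symm hzz) (hoz ▸ ho _ _ h2)
  · push Not at hex
    have hfix : ∀ d : P, d ∉ w → Hom G d w := by
      intro d hd
      obtain ⟨b, s, s1, s2, s3, s4, s5⟩ := h.hc d
      have h3 := h1.conj s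
      have h4 : s • z = z := by
        by_contra h5
        exact hex _ _ (Ne.symm h5) h3
      rw [h4] at h3
      have h5 : s • w = w := h.m2 _ _ _ h3 h1
      have h6 : w = b := (fixln s3 s4 (not_triv s1) h5).resolve_left hd
      subst h6
      exact ⟨s, s1, s2, s3, s4, s5⟩
    obtain ⟨d, hd⟩ := exOffP (P := P) w
    obtain ⟨l, hl1, hl2⟩ := exL L z d
    obtain ⟨e, he1, he2⟩ := exOff2 (P := P) w l
    exact he2 (h.factG h1 (hfix d hd) (hfix e he1) hl1 hl2)

/-- no elations at all: impossible -/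
theorem no_elation_false [Finite G] (hodd : Odd (order P L)) (hc : ∀ y : P, ∃ a : L, Hom G y a)
    (hn : ∀ (z : P) (w : L), ¬ Fl G z w) : False := by
  have := faithfulL G P L
  have : FaithfulSMul G (Dual L) := this
  have u1 : ∀ (c d : P) (a : L), Hom G c a → Hom G d a → c = d := by
    intro c d a h1 h2
    obtain ⟨e, he, hec⟩ := h1.trans h2
    obtain ⟨z, hz, hez⟩ := exPg he
    have he1 : e = 1 := by
      by_contra h3
      exact hn z a ⟨hz, e, h3, hez.1, hez.2⟩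
    rw [he1, one_smul] at hec
    exact hec
  have u2 : ∀ (c : P) (a b : L), Hom G c a → Hom G c b → a = b := by
    intro c a b h1 h2
    obtain ⟨e, he, hec⟩ := Hom.trans (P := Dual L) (L := Dual P) h1.dual h2.dual
    obtain ⟨z, hz, hez⟩ := exPg he
    have he1 : e = 1 := by
      by_contra h3
      exact hn c z ⟨hz, e, h3, hez.2, hez.1⟩
    rw [he1] at hec
    exact (one_smul G (α := Dual L) a).symm.trans hec
  choose f hf using hc
  refine no_polarity f (fun x y hxy => ?_) (fun x y hy => ?_) (fun x => (hf x).ex_off.1)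
  · exact u1 _ _ _ (hf x) (hxy ▸ hf y)
  · obtain ⟨b, hb1, hb2⟩ := hom_through hodd (hf x) hy (hf y)
    rw [u2 _ _ _ (hf y) hb1]; exact hb2

/-- **Theorem B** -/
theorem primePow_of_hom [Finite G] (hodd : Odd (order P L)) (hA : AllHom G P L)
    (h2 : ∀ x y : P, x ≠ y → ∃ g : G, g ≠ 1 ∧ g ^ 2 = 1 ∧ g • x = x ∧ g • y = y)
    (h3 : ∀ l m : L, l ≠ m → ∃ g : G, g ≠ 1 ∧ g ^ 2 = 1 ∧ g • l = l ∧ g • m = m) :
    ∃ p k : ℕ, p.Prime ∧ order P L = p ^ k := by
  have := faithfulL G P L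
  have : FaithfulSMul G (Dual L) := this
  have hc : ∀ y : P, ∃ a : L, Hom G y a := all_centres hA h3
  have ha : ∀ a : L, ∃ c : P, Hom G c a := by
    intro a
    obtain ⟨c, hc⟩ := all_centres (P := Dual L) (L := Dual P) hA.dual h2 a
    exact ⟨c, hc.of_dual⟩
  by_cases hT : ∃ w : L, Two G P w
  · obtain ⟨w, hw⟩ := hT
    exact hw.primePow hodd hc
  by_cases hT' : ∃ w : Dual P, Two G (Dual L) w
  · obtain ⟨w, hw⟩ := hT'
    obtain ⟨p, k, hp, hk⟩ := Two.primePow (P := Dual L) (L := Dual P) (by rw [Dual.order]; exact hodd)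
      (fun a => ⟨(ha a).choose, (ha a).choose_spec.dual⟩) hw
    rw [Dual.order] at hk
    exact ⟨p, k, hp, hk⟩
  exfalso
  by_cases hn : ∀ (z : P) (w : L), ¬ Fl G z w
  · exact no_elation_false hodd hc hn
  · push Not at hn
    obtain ⟨z, w, hF⟩ := hn
    refine Mat.false (G := G) ⟨?_, ?_, hc, ha⟩ hF
    · rintro y z w ⟨hy, g, g1, g2, g3⟩ ⟨hz, k, k1, k2, k3⟩
      by_contra hyz
      exact hT ⟨w, y, z, g, k, hyz, hy, hz, ⟨g2, g3⟩, ⟨k2, k3⟩, g1, k1⟩
    · rintro z v w ⟨hv, g, g1, g2, g3⟩ ⟨hw, k, k1, k2, k3⟩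
      by_contra hvw
      exact hT' ⟨z, v, w, g, k, hvw, hv, hw, ⟨g3, g2⟩, ⟨k3, k2⟩, g1, k1⟩

end Cfsg.Agent.H985.Pl
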