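import Cfsg.Agent.H985.Sub
import Cfsg.Agent.H985.ThmB

/-!
# Doubly transitive collineation groups (S3732, helper985)
-/

set_option autoImplicit false
set_option linter.unusedSectionVars false

namespace Cfsg.Agent.H985

theorem pigeon {Q : Type*} [Finite Q] (h : Nat.card Q ≤ 2) (a b c : Q) : a = b ∨ b = c ∨ a = c := by
  classical
  by_contra hne
  push Not at hne
  obtain ⟨h1, h2, h3⟩ := hne
  have : Fintype Q := Fintype.ofFinite Q
  have h4 : ({a, b, c} : Finset Q).card = 3 := by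
    rw [Finset.card_eq_three]
    exact ⟨a, b, c, h1, h3, h2, rfl⟩
  have h5 := Finset.card_le_univ ({a, b, c} : Finset Q)
  rw [Nat.card_eq_fintype_card] at h
  omega

theorem card_le_two {Q : Type*} (a b : Q) (h : ∀ c : Q, c = a ∨ c = b) : Nat.card Q ≤ 2 := by
  have : Nat.card Q ≤ Nat.card Bool := by
    refine Nat.card_le_card_of_surjective (fun t : Bool => if t then a else b) ?_
    intro c
    rcases h c with h | h
    · exact ⟨true, by simp [h]⟩
    · exact ⟨false, by simp [h]⟩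
  simpa using this

/-- doubly transitive -/
def T2 (G X : Type*) [Group G] [MulAction G X] : Prop :=
  ∀ p₁ p₂ q₁ q₂ : X, p₁ ≠ p₂ → q₁ ≠ q₂ → ∃ g : G, g • p₁ = q₁ ∧ g • p₂ = q₂

namespace Pl

open Configuration Configuration.ProjectivePlane

variable {G P L : Type*} [Group G] [Membership P L] [MulAction G P] [MulAction G L]
variable [Act G P L] [ProjectivePlane P L] [Finite P] [Finite L] [Finite G]

variable (P) in
theorem ex_on (l : L) : ∃ p : P, p ∈ l := by
  obtain ⟨p, hp, -⟩ := ex_third (P := P) l (exOffP (P := P) l).choose (exOffP (P := P) l).choose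
  exact ⟨p, hp⟩

variable (L) in
theorem ex_onL (p : P) : ∃ l : L, p ∈ l := ex_on (P := Dual L) (L := Dual P) p

theorem ex_on_ne (l : L) (q : P) : ∃ p : P, p ∈ l ∧ p ≠ q := by
  obtain ⟨p, hp, h, -⟩ := ex_third (P := P) l q q
  exact ⟨p, hp, h⟩

/-- as many orbits of a stabiliser on lines -/
theorem orbits_stab (H : Subgroup G) (h : Nat.card (MulAction.orbitRel.Quotient H P) ≤ 2) (k l m : L) :
    (∃ g ∈ H, g • k = l) ∨ (∃ g ∈ H, g • l = m) ∨ (∃ g ∈ H, g • k = m) := by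
  rw [card_orbits_eq (P := P) (L := L)] at h
  have key : ∀ u v : L, (Quotient.mk'' u : MulAction.orbitRel.Quotient H L) = Quotient.mk'' v →
      ∃ g ∈ H, g • u = v := by
    intro u v huv
    have h1 := Quotient.exact huv
    have h2 : u ∈ MulAction.orbit H v := h1
    obtain ⟨⟨g, hg⟩, hgv⟩ := h2
    refine ⟨g⁻¹, H.inv_mem hg, ?_⟩
    rw [inv_smul_eq_iff]
    exact hgv.symm
  have : Finite (MulAction.orbitRel.Quotient H L) := Quotient.finite _
  rcases pigeon h (Quotient.mk'' k) (Quotient.mk'' l) (Quotient.mk'' m) with h1 | h1 | h1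
  · exact Or.inl (key _ _ h1)
  · exact Or.inr (Or.inl (key _ _ h1))
  · exact Or.inr (Or.inr (key _ _ h1))

theorem card_quot_le_two {X : Type*} [MulAction G X] (H : Subgroup G) (a b : X)
    (h : ∀ c : X, (∃ g ∈ H, g • a = c) ∨ (∃ g ∈ H, g • b = c)) :
    Nat.card (MulAction.orbitRel.Quotient H X) ≤ 2 := by
  refine card_le_two (Quotient.mk'' a) (Quotient.mk'' b) ?_
  intro c
  induction c using Quotient.inductionOn' with
  | h c =>
    rcases h c with ⟨g, hg, h⟩ | ⟨g, hg, h⟩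
    · exact Or.inl (Quotient.sound ⟨⟨g, hg⟩, h⟩)
    · exact Or.inr (Quotient.sound ⟨⟨g, hg⟩, h⟩)

variable (L) in
include L in
theorem ex_ne (x : P) : ∃ y : P, y ≠ x := by
  obtain ⟨l, hl⟩ := ex_onL L x
  obtain ⟨y, -, h⟩ := ex_on_ne (P := P) l x
  exact ⟨y, h⟩

end Pl

open Pl in
theorem T2.one {G X : Type*} [Group G] [MulAction G X] (h : T2 G X) (hX : ∀ x : X, ∃ y : X, y ≠ x) (x y : X) :
    ∃ g : G, g • x = y := by
  obtain ⟨x', hx⟩ := hX x
  obtain ⟨y', hy⟩ := hX y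
  obtain ⟨g, hg, -⟩ := h x x' y y' (Ne.symm hx) (Ne.symm hy)
  exact ⟨g, hg⟩

namespace Pl

open Configuration Configuration.ProjectivePlane

variable {G P L : Type*} [Group G] [Membership P L] [MulAction G P] [MulAction G L]
variable [Act G P L] [ProjectivePlane P L] [Finite P] [Finite L] [Finite G]

theorem T2.flag (h : T2 G P) {x y : P} {l m : L} (hx : x ∈ l) (hy : y ∈ m) : ∃ g : G, g • x = y ∧ g • l = m := by
  obtain ⟨x', hx', hxx⟩ := ex_on_ne (P := P) l x
  obtain ⟨y', hy', hyy⟩ := ex_on_ne (P := P) m y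
  obtain ⟨g, h1, h2⟩ := h x x' y y' (Ne.symm hxx) (Ne.symm hyy)
  refine ⟨g, h1, uL (Ne.symm hyy) ?_ ?_ hy hy'⟩
  · have := mem_smul g hx; rwa [h1] at this
  · have := mem_smul g hx'; rwa [h2] at this

theorem T2.antiflag0 (h : T2 G P) {x : P} {l m : L} (hl : x ∉ l) (hm : x ∉ m) : ∃ g : G, g • x = x ∧ g • l = m := by
  obtain ⟨k, hk⟩ := ex_onL L x
  obtain ⟨y, hy⟩ := ex_ne L x
  have h1 := card_quot_le_two (MulAction.stabilizer G x) x y (by
    intro c
    by_cases hc : c = x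
    · exact Or.inl ⟨1, one_mem _, by rw [one_smul, hc]⟩
    · obtain ⟨g, h1, h2⟩ := h x y x c (Ne.symm hy) (Ne.symm hc)
      exact Or.inr ⟨g, h1, h2⟩)
  rcases orbits_stab (P := P) _ h1 l m k with ⟨g, h1, h2⟩ | ⟨g, h1, h2⟩ | ⟨g, h1, h2⟩
  · exact ⟨g, h1, h2⟩
  · exfalso
    apply hm
    have h3 : g • x = x := h1
    rw [← h2, ← h3, mem_smul_iff] at hk
    exact hk
  · exfalso
    apply hl
    have h3 : g • x = x := h1
    rw [← h2, ← h3, mem_smul_iff] at hk
    exact hk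

theorem T2.antiflag (h : T2 G P) {x y : P} {l m : L} (hl : x ∉ l) (hm : y ∉ m) : ∃ g : G, g • x = y ∧ g • l = m := by
  obtain ⟨g, hg⟩ := h.one (ex_ne L) x y
  have h1 : y ∉ g • l := by rw [← hg, mem_smul_iff]; exact hl
  obtain ⟨k, hk1, hk2⟩ := T2.antiflag0 h h1 hm
  exact ⟨k * g, by rw [mul_smul, hg, hk1], by rw [mul_smul, hk2]⟩

theorem T2.stabL (h : T2 G P) {l m m' : L} (hm : m ≠ l) (hm' : m' ≠ l) : ∃ g : G, g • l = l ∧ g • m = m' := by
  obtain ⟨x, hx⟩ := ex_on P l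
  obtain ⟨y, hy⟩ := exOffP (P := P) l
  have h1 := card_quot_le_two (MulAction.stabilizer G l) x y (by
    intro c
    by_cases hc : c ∈ l
    · obtain ⟨g, h1, h2⟩ := T2.flag h hx hc
      exact Or.inl ⟨g, h2, h1⟩
    · obtain ⟨g, h1, h2⟩ := T2.antiflag h hy hc
      exact Or.inr ⟨g, h2, h1⟩)
  rcases orbits_stab (P := P) _ h1 m m' l with ⟨g, h1, h2⟩ | ⟨g, h1, h2⟩ | ⟨g, h1, h2⟩
  · exact ⟨g, h1, h2⟩
  · exfalso
    have h3 : g • l = l := h1
    exact hm' (MulAction.injective g (h2.trans h3.symm))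
  · exfalso
    have h3 : g • l = l := h1
    exact hm (MulAction.injective g (h2.trans h3.symm))

variable (L) in
theorem T2.lines (h : T2 G P) : T2 G L := by
  intro l m l' m' h1 h2
  obtain ⟨x, hx⟩ := ex_on P l
  obtain ⟨x', hx'⟩ := ex_on P l'
  obtain ⟨g, hg1, hg2⟩ := T2.flag h hx hx'
  have h3 : g • m ≠ l' := fun h3 => h1 (MulAction.injective g (hg2.trans h3.symm))
  obtain ⟨k, k1, k2⟩ := T2.stabL h h3 (Ne.symm h2)
  exact ⟨k * g, by rw [mul_smul, hg2, k1], by rw [mul_smul, k2]⟩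

end Pl

end Cfsg.Agent.H985
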